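import Cfsg.Agent.InvolCalc.Classes
import Cfsg.Agent.InvolCalc.Isolated
import Cfsg.Agent.Blocks.ZStar
import Cfsg.Agent.Transfer.ThompsonTransfer
import Cfsg.Agent.RealSize.Basic

/-! General lemmas: cores of local subgroups, isolated involutions, transfer. -/

set_option autoImplicit false
set_option linter.style.haveILetI false
set_option linter.unusedSectionVars false

namespace Cfsg.Lib.AltEightType

open Subgroup

variable {G : Type*} [Group G] [Finite G]

theorem odd_oddCore (H : Type*) [Group H] [Finite H] : Odd (Nat.card (Cfsg.oddCore H)) :=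
  Nat.coprime_two_right.1 (Cfsg.Lib.Components.coprime_card_pPrimeCore 2)

theorem le_oddCore {H : Type*} [Group H] [Finite H] {N : Subgroup H} [N.Normal] (h : Odd (Nat.card N)) :
    N ≤ Cfsg.oddCore H :=
  Cfsg.Lib.Components.le_pPrimeCore (Nat.coprime_two_right.2 h)

/-- The odd core of a subgroup, inside the group. -/
def core (H : Subgroup G) : Subgroup G := (Cfsg.oddCore ↥H).map H.subtype

theorem core_le (H : Subgroup G) : core H ≤ H := map_subtype_le _

theorem odd_core (H : Subgroup G) : Odd (Nat.card (core H)) := by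
  rw [core, card_map_of_injective H.subtype_injective]; exact odd_oddCore _

theorem core_normalized {H : Subgroup G} {h : G} (hh : h ∈ H) : h ∈ normalizer (core H : Set G) := by
  have key : ∀ g ∈ H, ∀ x ∈ core H, g * x * g⁻¹ ∈ core H := by
    rintro g hg _ ⟨x, hx, rfl⟩
    exact ⟨⟨g, hg⟩ * x * ⟨g, hg⟩⁻¹, Normal.conj_mem inferInstance x hx _, rfl⟩
  refine mem_normalizer_iff.2 fun x => ⟨key h hh x, fun hx => ?_⟩
  have := key _ (inv_mem hh) _ hx
  simpa [mul_assoc] using this

theorem le_core {H U : Subgroup G} (hU : U ≤ H) (hn : ∀ h ∈ H, ∀ u ∈ U, h * u * h⁻¹ ∈ U)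
    (ho : Odd (Nat.card U)) : U ≤ core H := by
  haveI : (U.subgroupOf H).Normal := ⟨fun x hx h => hn h h.2 x hx⟩
  have := le_oddCore (N := U.subgroupOf H) (by rwa [Nat.card_congr (subgroupOfEquivOfLe hU).toEquiv])
  intro u hu
  exact ⟨⟨u, hU hu⟩, this hu, rfl⟩

theorem odd_sup {K U : Subgroup G} (hK : Odd (Nat.card K)) (hU : Odd (Nat.card U))
    (hn : U ≤ normalizer (K : Set G)) : Odd (Nat.card (K ⊔ U : Subgroup G)) := by
  haveI : (K.subgroupOf (K ⊔ U)).Normal :=
    (normal_subgroupOf_iff_le_normalizer le_sup_left).2 (sup_le le_normalizer hn)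
  let f := (QuotientGroup.mk' (K.subgroupOf (K ⊔ U))).comp (inclusion (le_sup_right : U ≤ K ⊔ U))
  have hs : Function.Surjective f := by
    intro q
    obtain ⟨⟨x, hx⟩, rfl⟩ := QuotientGroup.mk'_surjective _ q
    obtain ⟨k, hk, u, hu, rfl⟩ : ∃ k ∈ K, ∃ u ∈ U, k * u = x := by
      have : x ∈ ((K ⊔ U : Subgroup G) : Set G) := hx
      rw [coe_mul_of_right_le_normalizer_left _ _ hn] at this
      exact this
    refine ⟨⟨u, hu⟩, ?_⟩
    show QuotientGroup.mk _ = QuotientGroup.mk _
    rw [QuotientGroup.eq, mem_subgroupOf]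
    show u⁻¹ * (k * u) ∈ K
    have := (mem_normalizer_iff.1 (inv_mem (hn hu)) k).1 hk
    simpa [mul_assoc] using this
  rw [card_eq_card_quotient_mul_card_subgroup (K.subgroupOf (K ⊔ U)),
    Nat.card_congr (subgroupOfEquivOfLe (le_sup_left : K ≤ K ⊔ U)).toEquiv]
  exact Odd.mul (Odd.of_dvd_nat hU (card_dvd_of_surjective f hs)) hK

theorem eq_one_of_odd_two {K : Subgroup G} (hK : Odd (Nat.card K)) {x : G} (hx : x ∈ K) (h2 : x * x = 1) :
    x = 1 := by
  by_contra h
  have ho : orderOf x = 2 := Cfsg.Lib.InvolCalc.order_two_of_mul_self h2 h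
  have := orderOf_dvd_natCard (⟨x, hx⟩ : K)
  rw [Subgroup.orderOf_mk, ho] at this
  exact (Nat.not_even_iff_odd.2 hK) (even_iff_two_dvd.2 this)

theorem isolated_of_commuting {C : Subgroup G} {z : G} (hzC : z ∈ C) (hz : orderOf z = 2)
    (h : ∀ g ∈ C, Commute z (g * z * g⁻¹) → g * z * g⁻¹ = z) {g : G} (hg : g ∈ C) :
    ∃ k ∈ core C, k⁻¹ * g ∈ centralizer ({z} : Set G) := by
  have hiso : Cfsg.IsIsolatedInvolution (⟨z, hzC⟩ : C) := by
    refine ⟨by rw [Subgroup.orderOf_mk, hz], fun g hc => Subtype.ext (h g g.2 ?_)⟩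
    exact congrArg Subtype.val hc
  obtain ⟨k, hk, hk', hk''⟩ := Cfsg.Lib.Isolated.exists_inverted hiso ⟨g, hg⟩
  have hz' := Cfsg.Lib.Blocks.zstar _ rfl hiso k
  rw [hk', ← mul_inv_rev] at hz'
  have hkk : k * k ∈ Cfsg.oddCore C := (inv_mem_iff).1 hz'
  have hkm : k ∈ Cfsg.oddCore C := zpowers_le.2 hkk (by
    obtain ⟨j, hj⟩ := hk
    refine ⟨((j + 1 : ℕ) : ℤ), ?_⟩
    show (k * k) ^ ((j + 1 : ℕ) : ℤ) = k
    rw [zpow_natCast, ← pow_two, ← pow_mul, show 2 * (j + 1) = orderOf k + 1 by omega, pow_succ,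
      pow_orderOf_eq_one, one_mul])
  refine ⟨k, ⟨k, hkm, rfl⟩, mem_centralizer_singleton_iff.2 ?_⟩
  have e : (k : G) * z * (k : G)⁻¹ = g * z * g⁻¹ := congrArg Subtype.val hk''
  calc (k : G)⁻¹ * g * z = (k : G)⁻¹ * (g * z * g⁻¹) * g := by group
    _ = (k : G)⁻¹ * ((k : G) * z * (k : G)⁻¹) * g := by rw [e]
    _ = z * ((k : G)⁻¹ * g) := by group

/-- Thompson's transfer lemma, recording which involutions lie in the subgroup of index two. -/
theorem transfer_split (P : Sylow 2 G) (Q : Subgroup G) (hQP : Q ≤ (P : Subgroup G))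
    (hQi : Q.relIndex (P : Subgroup G) = 2) {u : G} (hu : orderOf u = 2) (hfix : ∀ g : G, g⁻¹ * u * g ∉ Q) :
    ∃ M : Subgroup G, M.Normal ∧ M.index = 2 ∧ u ∉ M ∧
      ∀ a : G, a * a = 1 → (∀ g : G, g⁻¹ * a * g ∈ (P : Subgroup G) → g⁻¹ * a * g ∈ Q) → a ∈ M := by
  classical
  haveI : Fact (Nat.Prime 2) := ⟨Nat.prime_two⟩
  haveI := Fintype.ofFinite (G ⧸ Q)
  haveI := Fintype.ofFinite (G ⧸ (P : Subgroup G))
  set m := (P : Subgroup G).index with hm
  have hmo : Odd m := by
    rw [Nat.odd_iff]; have := P.not_dvd_index; omega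
  have hidx : Q.index = 2 * m := by
    have h1 := Subgroup.relIndex_mul_index hQP
    rw [hQi] at h1; exact h1.symm
  let π : G ⧸ Q → G ⧸ (P : Subgroup G) := Quotient.map' id fun x y h => by
    rw [QuotientGroup.leftRel_apply] at h ⊢; exact hQP h
  have hπ : ∀ g : G, π (g : G ⧸ Q) = (g : G ⧸ (P : Subgroup G)) := fun g => rfl
  have hcard : Fintype.card (G ⧸ Q) = 2 * m := by rw [← Nat.card_eq_fintype_card, ← Q.index_eq_card, hidx]
  have hfib : ∀ y : G ⧸ (P : Subgroup G), (Finset.univ.filter fun x => π x = y).card = 2 := by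
    intro y
    obtain ⟨g, rfl⟩ := QuotientGroup.mk_surjective y
    rw [← Fintype.card_subtype, ← Nat.card_eq_fintype_card]
    refine Eq.trans ?_ hQi
    refine (Nat.card_congr (Equiv.ofBijective
      (fun r : (P : Subgroup G) ⧸ Q.subgroupOf P => Quotient.liftOn' r
        (fun s => (⟨((g * s : G) : G ⧸ Q), by
          rw [hπ, QuotientGroup.eq]
          simp⟩ : {x : G ⧸ Q // π x = (g : G ⧸ (P : Subgroup G))}))
        (fun s s' h => by
          rw [QuotientGroup.leftRel_apply, mem_subgroupOf] at h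
          refine Subtype.ext (QuotientGroup.eq.2 ?_)
          simpa [mul_assoc] using h)) ⟨?_, ?_⟩)).symm
    · intro r r' h
      induction r using QuotientGroup.induction_on with
      | H s =>
      induction r' using QuotientGroup.induction_on with
      | H s' =>
      have h' := QuotientGroup.eq.1 (congrArg Subtype.val h)
      rw [QuotientGroup.eq, mem_subgroupOf]
      simpa [mul_assoc] using h'
    · rintro ⟨x, hx⟩
      obtain ⟨y, rfl⟩ := QuotientGroup.mk_surjective x
      rw [hπ, QuotientGroup.eq] at hx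
      refine ⟨QuotientGroup.mk ⟨g⁻¹ * y, by simpa using inv_mem hx⟩, Subtype.ext ?_⟩
      show ((g * (g⁻¹ * y) : G) : G ⧸ Q) = y
      rw [mul_inv_cancel_left]
  let ε : G →* ℤˣ := Equiv.Perm.sign.comp (MulAction.toPermHom G (G ⧸ Q))
  have hsign : ∀ a : G, a * a = 1 → a ≠ 1 → ∀ f : ℕ,
      (Finset.univ.filter fun x : G ⧸ Q => a • x = x).card = f → ε a = (-1) ^ ((2 * m - f) / 2) := by
    intro a ha _ f hf
    show Equiv.Perm.sign (MulAction.toPermHom G (G ⧸ Q) a) = _
    set σ : Equiv.Perm (G ⧸ Q) := MulAction.toPermHom G (G ⧸ Q) a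
    have hs : σ.support = Finset.univ \ (Finset.univ.filter fun x : G ⧸ Q => a • x = x) := by
      ext x; simp [σ, Equiv.Perm.mem_support]
    have hsc : σ.support.card = 2 * m - f := by
      rw [hs, Finset.card_sdiff, Finset.inter_univ, Finset.card_univ, hcard, hf]
    have h2 : σ ^ 2 = 1 := by rw [← map_pow, pow_two, ha, map_one]
    obtain ⟨k, hk⟩ : ∃ k, σ.cycleType = Multiset.replicate k 2 := by
      refine ⟨Multiset.card σ.cycleType, Multiset.eq_replicate_card.2 fun n hn => ?_⟩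
      have h1 := (Equiv.Perm.dvd_of_mem_cycleType hn).trans (orderOf_dvd_of_pow_eq_one h2)
      have h3 := Equiv.Perm.two_le_of_mem_cycleType hn
      have := Nat.le_of_dvd (by norm_num) h1
      omega
    have hsum := σ.sum_cycleType
    rw [hk, Multiset.sum_replicate, hsc, smul_eq_mul] at hsum
    rw [Equiv.Perm.sign_of_cycleType, hk, Multiset.sum_replicate, Multiset.card_replicate, smul_eq_mul,
      ← hsum, show k * 2 / 2 = k by omega, pow_add, mul_comm k 2, pow_mul, neg_one_sq, one_pow, one_mul]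
  have hu1 : ε u = -1 := by
    rw [hsign u (by rw [← pow_two, ← hu, pow_orderOf_eq_one]) (fun e => by rw [e, orderOf_one] at hu; omega) 0 ?_,
      show (2 * m - 0) / 2 = m by omega]
    · exact hmo.neg_one_pow
    · refine Finset.card_eq_zero.2 (Finset.filter_eq_empty_iff.2 fun x _ h => ?_)
      obtain ⟨g, rfl⟩ := QuotientGroup.mk_surjective x
      have h2 := QuotientGroup.eq.1 (show ((u * g : G) : G ⧸ Q) = g from h).symm
      exact hfix g (by rwa [← mul_assoc] at h2)
  refine ⟨ε.ker, inferInstance, ?_, ?_, fun a ha hP => ?_⟩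
  · rw [Subgroup.index_ker]
    have htop : ε.range = ⊤ := by
      rw [eq_top_iff]
      intro z _
      rcases Int.units_eq_one_or z with rfl | rfl
      · exact one_mem _
      · exact ⟨u, hu1⟩
    rw [htop, Nat.card_congr Subgroup.topEquiv.toEquiv, Nat.card_eq_fintype_card, Fintype.card_units_int]
  · rw [MonoidHom.mem_ker, hu1]; decide
  · by_cases ha1 : a = 1
    · rw [ha1]; exact one_mem _
    set F := Finset.univ.filter fun y : G ⧸ (P : Subgroup G) => a • y = y with hF
    have hFodd : Odd F.card := by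
      set σ : Equiv.Perm (G ⧸ (P : Subgroup G)) := MulAction.toPermHom G _ a
      have h2 : σ ^ 2 ^ 1 = 1 := by rw [pow_one, ← map_pow, pow_two, ha, map_one]
      have h := Equiv.Perm.card_compl_support_modEq h2
      have e : σ.supportᶜ = F := by
        ext y; simp [σ, F, Equiv.Perm.mem_support]
      rw [e, ← Nat.card_eq_fintype_card, ← Subgroup.index_eq_card, ← hm] at h
      rw [Nat.odd_iff] at hmo ⊢
      unfold Nat.ModEq at h; omega
    have hQf : (Finset.univ.filter fun x : G ⧸ Q => a • x = x).card = 2 * F.card := by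
      have e : (Finset.univ.filter fun x : G ⧸ Q => a • x = x) = Finset.univ.filter fun x => π x ∈ F := by
        ext x
        obtain ⟨g, rfl⟩ := QuotientGroup.mk_surjective x
        simp only [Finset.mem_filter, Finset.mem_univ, true_and, hπ, F]
        show ((a * g : G) : G ⧸ Q) = g ↔ ((a * g : G) : G ⧸ (P : Subgroup G)) = g
        rw [eq_comm, QuotientGroup.eq, eq_comm (b := (g : G ⧸ (P : Subgroup G))), QuotientGroup.eq, ← mul_assoc]
        exact ⟨fun h => hQP h, hP g⟩
      rw [e, Finset.card_eq_sum_card_fiberwise (f := π) (s := Finset.univ.filter fun x => π x ∈ F) (t := F)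
        fun x hx => (Finset.mem_filter.1 hx).2,
        Finset.sum_congr rfl fun y hy => (by
          refine Eq.trans ?_ (hfib y); congr 1; ext x
          simp only [Finset.mem_filter, Finset.mem_univ, true_and]
          exact ⟨fun h => h.2, fun h => ⟨h ▸ hy, h⟩⟩ :
            ((Finset.univ.filter fun x => π x ∈ F).filter fun x => π x = y).card = 2)]
      simp [mul_comm]
    have hle : F.card ≤ m := by
      rw [hm, Subgroup.index_eq_card, Nat.card_eq_fintype_card]; exact Finset.card_le_univ _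
    rw [MonoidHom.mem_ker, hsign a ha ha1 _ hQf, show (2 * m - 2 * F.card) / 2 = m - F.card by omega]
    exact Even.neg_one_pow (Nat.Odd.sub_odd hmo hFodd)

/-- Frattini: a Sylow subgroup normal modulo the odd core. -/
theorem decomp_of_normal_mod {C A K : Subgroup G} (hKC : K ≤ C) (hAC : A ≤ C) (hK : Odd (Nat.card K))
    (hA : IsPGroup 2 A) (hCK : C ≤ normalizer (K : Set G))
    (h : ∀ c ∈ C, ∀ a ∈ A, c * a * c⁻¹ ∈ A ⊔ K) {c : G} (hc : c ∈ C) :
    ∃ k ∈ K, k⁻¹ * c ∈ normalizer (A : Set G) := by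
  haveI : Fact (Nat.Prime 2) := ⟨Nat.prime_two⟩
  set H := A ⊔ K with hH
  have hAK : A ≤ normalizer (K : Set G) := hAC.trans hCK
  have hdec : ∀ x ∈ H, ∃ a ∈ A, ∃ k ∈ K, a * k = x := by
    intro x hx
    rw [← SetLike.mem_coe, hH, coe_mul_of_left_le_normalizer_right _ _ hAK] at hx
    exact hx
  have hidx : ¬ 2 ∣ (A.subgroupOf H).index := by
    intro hd
    haveI : (K.subgroupOf H).Normal :=
      (normal_subgroupOf_iff_le_normalizer le_sup_right).2 (sup_le hAK le_normalizer)
    let f := (QuotientGroup.mk' (K.subgroupOf H)).comp (inclusion (le_sup_left : A ≤ H))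
    have hs : Function.Surjective f := by
      intro q
      obtain ⟨⟨x, hx⟩, rfl⟩ := QuotientGroup.mk'_surjective _ q
      obtain ⟨a, ha, k, hk, rfl⟩ := hdec x hx
      refine ⟨⟨a, ha⟩, ?_⟩
      show QuotientGroup.mk _ = QuotientGroup.mk _
      rw [QuotientGroup.eq, mem_subgroupOf]
      show a⁻¹ * (a * k) ∈ K
      rwa [inv_mul_cancel_left]
    have hcard : (A.subgroupOf H).index ∣ Nat.card K := by
      have h1 := (A.subgroupOf H).card_mul_index
      rw [Nat.card_congr (subgroupOfEquivOfLe (le_sup_left : A ≤ H)).toEquiv,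
        card_eq_card_quotient_mul_card_subgroup (K.subgroupOf H),
        Nat.card_congr (subgroupOfEquivOfLe (le_sup_right : K ≤ H)).toEquiv] at h1
      have h2 : Nat.card A * (A.subgroupOf H).index ∣ Nat.card A * Nat.card K := by
        rw [h1]; exact Nat.mul_dvd_mul_right (card_dvd_of_surjective f hs) _
      exact (Nat.mul_dvd_mul_iff_left Nat.card_pos).1 h2
    exact (Nat.not_even_iff_odd.2 hK) (even_iff_two_dvd.2 (hd.trans hcard))
  let Asyl : Sylow 2 ↥H := (hA.of_equiv (subgroupOfEquivOfLe le_sup_left).symm).toSylow hidx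
  have hcA : A.map (MulAut.conj c).toMonoidHom ≤ H := by
    rintro _ ⟨a, ha, rfl⟩
    exact h c hc a ha
  have hP' : IsPGroup 2 ((A.map (MulAut.conj c).toMonoidHom).subgroupOf H) :=
    (hA.map _).of_equiv (subgroupOfEquivOfLe hcA).symm
  obtain ⟨u, hu⟩ := Cfsg.Lib.InvolCalc.exists_conj_le Asyl hP'
  obtain ⟨a₀, ha₀, k, hk, hak⟩ := hdec u u.2
  refine ⟨(a₀ * k * a₀⁻¹), (mem_normalizer_iff.1 (hAK ha₀) k).1 hk, ?_⟩
  refine mem_normalizer_iff_map_conj_eq.2 (eq_of_le_of_card_ge ?_ (le_of_eq ?_))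
  · rintro _ ⟨a, ha, rfl⟩
    show (a₀ * k * a₀⁻¹)⁻¹ * c * a * ((a₀ * k * a₀⁻¹)⁻¹ * c)⁻¹ ∈ A
    have h1 := hu ⟨c * a * c⁻¹, h c hc a ha⟩ (⟨a, ha, rfl⟩ : c * a * c⁻¹ ∈ A.map (MulAut.conj c).toMonoidHom)
    have h2 : (u : G)⁻¹ * (c * a * c⁻¹) * (u : G) ∈ A := h1
    rw [← hak] at h2
    have h3 := mul_mem (mul_mem ha₀ h2) (inv_mem ha₀)
    simpa [mul_assoc] using h3
  · rw [card_map_of_injective (MulEquiv.injective _)]

end Cfsg.Lib.AltEightType
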