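import Cfsg.Agent.LocalEven.SylowEight

/-! A Sylow `2`-subgroup of the alternating group of degree eight: order and centre. -/

set_option autoImplicit false

namespace Cfsg.Lib.AltEightType

open Cfsg.Lib.SylowTables

theorem table_center : ∀ j k : Fin 64, j ≠ 0 → k ≠ 0 →
    (∀ t i, pA j (pA (gA t) i) = pA (gA t) (pA j i)) →
    (∀ t i, pA k (pA (gA t) i) = pA (gA t) (pA k i)) → j = k := by
  decide +kernel

def tab (k : Fin 64) : ↥(alternatingGroup (Fin 8)) := ⟨eA k, eA_even k⟩

theorem tab_step (k : Fin 64) (t : Fin 3) : tab k * tab (gA t) = tab (nA k t) := Subtype.ext (eA_step k t)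

/-- The table as a subgroup. -/
noncomputable def tabGroup : Subgroup ↥(alternatingGroup (Fin 8)) :=
  Subgroup.closure (Set.range fun t => tab (gA t))

theorem tab_zero : tab 0 = 1 := Subtype.ext eA_zero

theorem tab_mem : ∀ k, tab k ∈ tabGroup :=
  induction_on_table parentA_spec _ (by rw [tab_zero]; exact one_mem _) fun k t h => by
    rw [← tab_step]
    exact mul_mem h (Subgroup.subset_closure ⟨t, rfl⟩)

theorem mem_tab {x : ↥(alternatingGroup (Fin 8))} (hx : x ∈ tabGroup) : ∃ k, tab k = x := by
  have hx' : x ∈ Submonoid.closure (Set.range fun t => tab (gA t)) := by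
    rw [← Subgroup.closure_toSubmonoid_of_finite]; exact hx
  induction hx' using Submonoid.closure_induction_right with
  | one => exact ⟨0, tab_zero⟩
  | mul_right y hy w hw ih =>
    obtain ⟨t, rfl⟩ := hw
    obtain ⟨k, hk⟩ := ih (by
      have h : y ∈ (Subgroup.closure (Set.range fun t => tab (gA t))).toSubmonoid := by
        rw [Subgroup.closure_toSubmonoid_of_finite]; exact hy
      exact h)
    exact ⟨nA k t, by rw [← tab_step, hk]⟩

theorem tab_inj : Function.Injective tab := fun j k h =>
  pA_inj j k fun i => Equiv.congr_fun (congrArg Subtype.val h) i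

theorem card_tabGroup : Nat.card tabGroup = 64 := by
  have : Nat.card tabGroup = Nat.card (Fin 64) := by
    refine (Nat.card_congr (Equiv.ofBijective (fun k => (⟨tab k, tab_mem k⟩ : tabGroup)) ⟨?_, ?_⟩)).symm
    · exact fun j k h => tab_inj (congrArg Subtype.val h)
    · rintro ⟨x, hx⟩
      obtain ⟨k, hk⟩ := mem_tab hx
      exact ⟨k, Subtype.ext hk⟩
  rw [this, Nat.card_fin]

theorem center_card_tabGroup : Nat.card (Subgroup.center tabGroup) ≤ 2 := by
  by_contra hc
  rw [not_le] at hc
  haveI := Fintype.ofFinite (Subgroup.center tabGroup)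
  rw [Nat.card_eq_fintype_card, Fintype.two_lt_card_iff] at hc
  obtain ⟨a, b, c, hab, hac, hbc⟩ := hc
  have key : ∀ u v : Subgroup.center tabGroup, u ≠ 1 → v ≠ 1 → u = v := by
    intro u v hu hv
    obtain ⟨j, hj⟩ := mem_tab u.1.2
    obtain ⟨k, hk⟩ := mem_tab v.1.2
    have hc : ∀ (u : Subgroup.center tabGroup) (j : Fin 64), tab j = (u.1 : ↥(alternatingGroup (Fin 8))) →
        ∀ t i, pA j (pA (gA t) i) = pA (gA t) (pA j i) := by
      intro u j hj t i
      have h := congrArg Subtype.val (Subgroup.mem_center_iff.mp u.2 ⟨tab (gA t), tab_mem _⟩)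
      change tab (gA t) * (u.1 : ↥(alternatingGroup (Fin 8))) = u.1 * tab (gA t) at h
      rw [← hj] at h
      exact (Equiv.congr_fun (congrArg Subtype.val h) i).symm
    have h0 : ∀ (u : Subgroup.center tabGroup) (j : Fin 64), tab j = (u.1 : ↥(alternatingGroup (Fin 8))) →
        u ≠ 1 → j ≠ 0 := by
      intro u j hj hu e
      rw [e, tab_zero] at hj
      exact hu (Subtype.ext (Subtype.ext hj.symm))
    have := table_center j k (h0 u j hj hu) (h0 v k hk hv) (hc u j hj) (hc v k hk)
    rw [this] at hj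
    exact Subtype.ext (Subtype.ext (hj.symm.trans hk))
  by_cases ha : a = 1
  · exact hbc (key b c (fun e => hab (ha.trans e.symm)) fun e => hac (ha.trans e.symm))
  by_cases hb : b = 1
  · exact hac (key a c ha fun e => hbc (hb.trans e.symm))
  exact hab (key a b ha hb)

/-- Order and centre of a Sylow `2`-subgroup of `A₈`, for any isomorphic group. -/
theorem sylow_facts {S : Type*} [Group S] (P : Sylow 2 ↥(alternatingGroup (Fin 8)))
    (h : Nonempty (S ≃* ↥(P : Subgroup ↥(alternatingGroup (Fin 8))))) :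
    Nat.card S = 64 ∧ Nat.card (Subgroup.center S) ≤ 2 := by
  haveI : Fact (Nat.Prime 2) := ⟨Nat.prime_two⟩
  have hX : Nat.card ↥(alternatingGroup (Fin 8)) = 2 ^ 6 * 315 := by
    rw [nat_card_alternatingGroup, Nat.card_fin]; decide
  have hT : IsPGroup 2 tabGroup := IsPGroup.of_card (n := 6) (by rw [card_tabGroup]; rfl)
  have hidx : ¬ 2 ∣ tabGroup.index := by
    have := tabGroup.card_mul_index
    rw [card_tabGroup, hX] at this
    omega
  obtain ⟨e⟩ := h
  let T : Sylow 2 ↥(alternatingGroup (Fin 8)) := hT.toSylow hidx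
  let f : S ≃* ↥tabGroup := e.trans (P.equiv T)
  refine ⟨by rw [Nat.card_congr f.toEquiv, card_tabGroup], ?_⟩
  refine le_trans (le_of_eq ?_) center_card_tabGroup
  exact Nat.card_congr (Subgroup.centerCongr f).toEquiv

end Cfsg.Lib.AltEightType
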