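import Cfsg.Agent.AltEightType.Final
import Cfsg.Agent.AltEightType.Sylow

/-! The standing hypotheses from the data. -/

set_option autoImplicit false
set_option linter.style.haveILetI false
set_option linter.unusedSectionVars false
set_option maxHeartbeats 1000000

namespace Cfsg.Lib.AltEightType

open Subgroup

variable {G : Type*} [Group G] [Finite G]

theorem exists_ctx (S : Sylow 2 G) (P : Sylow 2 ↥(alternatingGroup (Fin 8)))
    (hS : Nonempty (↥(S : Subgroup G) ≃* ↥(P : Subgroup ↥(alternatingGroup (Fin 8)))))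
    (h3 : Nat.card {c : ConjClasses G // ∃ x ∈ c.carrier, orderOf x = 2} = 3)
    (A : Subgroup G) (hA : Cfsg.IsElementaryAbelian 2 A) (hA16 : Nat.card ↥A = 16)
    (hn : (A.subgroupOf (normalizer (A : Set G)) ⊔ Cfsg.oddCore ↥(normalizer (A : Set G))).Normal)
    (he : Nonempty (↥(normalizer (A : Set G)) ⧸ (A.subgroupOf (normalizer (A : Set G)) ⊔
      Cfsg.oddCore ↥(normalizer (A : Set G))) ≃* A5)) :
    ∃ T : Sylow 2 G, Nonempty (Ctx T A) := by
  haveI : Fact (Nat.Prime 2) := ⟨Nat.prime_two⟩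
  obtain ⟨hS64, hScen⟩ := sylow_facts P hS
  obtain ⟨e⟩ := he
  set N := normalizer (A : Set G)
  set A' := A.subgroupOf N
  set O := Cfsg.oddCore ↥N
  set K := A' ⊔ O
  have hAN : A ≤ N := le_normalizer
  haveI hA'n : A'.Normal := (normal_subgroupOf_iff_le_normalizer hAN).2 le_rfl
  have hA'c : Nat.card A' = 16 := (Nat.card_congr (subgroupOfEquivOfLe hAN).toEquiv).trans hA16
  have hdis : Disjoint A' O := by
    rw [disjoint_iff, eq_bot_iff]
    intro x hx
    refine mem_bot.2 (eq_one_of_odd_two (odd_oddCore ↥N) hx.2 (Subtype.ext ?_))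
    have := hA.2 _ (show (x : G) ∈ A from hx.1)
    rwa [pow_two] at this
  have hcardK : Nat.card K = 16 * Nat.card O := by
    have h1 := relIndex_mul_relIndex (⊥ : Subgroup ↥N) A' K bot_le le_sup_left
    rw [relIndex_bot_left, relIndex_bot_left, hA'c, relIndex_sup_left, ← inf_relIndex_right, hdis.eq_bot,
      relIndex_bot_left] at h1
    exact h1.symm
  have hOodd : Odd (Nat.card O) := odd_oddCore ↥N
  have hcardN : Nat.card ↥N = 60 * Nat.card K := by
    rw [card_eq_card_quotient_mul_card_subgroup K, Nat.card_congr e.toEquiv, card_A5]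
  -- a Sylow subgroup of the normalizer
  obtain ⟨TN, hTN⟩ := (IsPGroup.of_card (n := 4) (hA'c.trans (by norm_num)) : IsPGroup 2 A').exists_le_sylow
  have hTN64 : Nat.card (TN : Subgroup ↥N) = 64 := by
    rw [TN.card_eq_multiplicity, hcardN, hcardK, show 60 * (16 * Nat.card O) = 2 ^ 6 * (15 * Nat.card O) by ring,
      Nat.factorization_mul (by norm_num) (Nat.mul_ne_zero (by norm_num) Nat.card_pos.ne'),
      Finsupp.add_apply, Nat.Prime.factorization_pow Nat.prime_two, Finsupp.single_eq_same,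
      Nat.factorization_eq_zero_of_not_dvd (fun hd => by
        obtain ⟨j, hj⟩ := hOodd
        rw [hj] at hd; omega)]
    norm_num
  set T' : Subgroup G := (TN : Subgroup ↥N).map N.subtype with hT'
  have hT'c : Nat.card T' = 64 := by rw [hT', card_map_of_injective N.subtype_injective, hTN64]
  obtain ⟨T, hT⟩ := (TN.isPGroup'.map N.subtype).exists_le_sylow
  have hTc : Nat.card (T : Subgroup G) = 64 := (Nat.card_congr (T.equiv S).toEquiv).trans hS64
  have hTT : (T : Subgroup G) = T' := (eq_of_le_of_card_ge hT (by rw [hTc, hT'c])).symm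
  have hTcen : Nat.card (Subgroup.center (T : Subgroup G)) ≤ 2 :=
    le_trans (le_of_eq (Nat.card_congr (Subgroup.centerCongr (T.equiv S)).toEquiv)) hScen
  -- the image of the Sylow subgroup
  let π0 : ↥N →* A5 := e.toMonoidHom.comp (QuotientGroup.mk' K)
  have hπ0k : π0.ker = K := by
    ext x
    simp [π0, MonoidHom.mem_ker]
  set V := (TN : Subgroup ↥N).map π0 with hV
  have hV4 : Nat.card V = 4 := by
    have h1 : Nat.card V ∣ 64 := hTN64 ▸ card_dvd_of_surjective _ (π0.subgroupMap_surjective (TN : Subgroup ↥N))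
    have h2 : Nat.card V ∣ 60 := card_A5 ▸ card_subgroup_dvd_card V
    have h3 : Nat.card V ∣ 4 := by
      have := Nat.dvd_gcd h1 h2
      norm_num at this
      exact this
    let f := π0.comp (TN : Subgroup ↥N).subtype
    have hfr : f.range = V := by rw [hV, MonoidHom.range_comp, range_subtype]
    have h4 := f.ker.card_mul_index
    rw [Subgroup.index_ker, hfr, hTN64] at h4
    have h5 : Nat.card f.ker ∣ 16 * Nat.card O := by
      have hc : Nat.card (f.ker.map (TN : Subgroup ↥N).subtype) = Nat.card f.ker :=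
        card_map_of_injective (subtype_injective _)
      rw [← hcardK, ← hc]
      refine card_dvd_of_le ?_
      rintro _ ⟨x, hx, rfl⟩
      rw [← hπ0k]; exact hx
    have h6 : Nat.card f.ker ∣ 16 := by
      refine (Nat.Coprime.dvd_of_dvd_mul_right ?_ h5)
      refine Nat.Coprime.coprime_dvd_left (⟨_, h4.symm⟩ : Nat.card f.ker ∣ 64) ?_
      rw [show (64 : ℕ) = 2 ^ 6 by norm_num]
      exact Nat.Coprime.pow_left 6 (Nat.coprime_two_left.2 hOodd)
    have h7 := Nat.le_of_dvd (by norm_num) h6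
    have h8 := Nat.le_of_dvd (by norm_num) h3
    nlinarith
  have h4idx : ∀ W : Subgroup A5, Nat.card W = 4 → ¬ 2 ∣ W.index := fun W hW => by
    have := W.card_mul_index
    rw [hW, card_A5] at this
    omega
  let P1 : Sylow 2 A5 := (IsPGroup.of_card (n := 2) (hV4.trans (by norm_num))).toSylow (h4idx V hV4)
  let P2 : Sylow 2 A5 := (IsPGroup.of_card (n := 2) (card_V0.trans (by norm_num))).toSylow (h4idx V0 card_V0)
  obtain ⟨c, hc⟩ := MulAction.exists_smul_eq A5 P1 P2
  have hcV : V.map (MulAut.conj c).toMonoidHom = V0 := by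
    have := congrArg (fun Q : Sylow 2 A5 => (Q : Subgroup A5)) hc
    simp only [Sylow.coe_subgroup_smul, P1, P2] at this
    exact this
  let π : ↥N →* A5 := (MulAut.conj c).toMonoidHom.comp π0
  have hπ : ∀ n, π n = 1 → n ∈ K := fun n hn => by
    rw [← hπ0k, MonoidHom.mem_ker]
    exact (MulAut.conj c).injective (hn.trans (map_one _).symm)
  refine ⟨T, ⟨⟨hTc, hA16, hA, hTcen, ?_, ?_, π, ?_, ?_, ?_, ?_, ?_, h3⟩⟩⟩
  · intro a ha
    rw [hTT]
    exact ⟨⟨a, hAN ha⟩, hTN (show (⟨a, hAN ha⟩ : ↥N) ∈ A' from ha), rfl⟩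
  · rw [hTT]; exact map_subtype_le _
  · exact (MulAut.conj c).surjective.comp (e.surjective.comp (QuotientGroup.mk'_surjective K))
  · intro n hn a ha
    have hnK : n ∈ ((A' ⊔ O : Subgroup ↥N) : Set ↥N) := hπ n hn
    rw [normal_mul] at hnK
    obtain ⟨b, hb, o, ho, rfl⟩ := hnK
    have hcomm := commute_of_normal_of_disjoint A' O hA'n inferInstance hdis ⟨a, hAN ha⟩ o ha ho
    have e1 : cj (o : G) a = a := mul_inv_eq_iff_eq_mul.2 (congrArg Subtype.val hcomm.eq).symm
    rw [Subgroup.coe_mul, ← cj_cj, e1]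
    exact mul_inv_eq_iff_eq_mul.2 (congrArg Subtype.val (hA.1.is_comm.comm (⟨(b : G), hb⟩ : A) ⟨a, ha⟩))
  · intro n hn
    show MulAut.conj c (π0 n) = 1
    have : n ∈ π0.ker := hπ0k ▸ mem_sup_left (show n ∈ A' from hn)
    rw [MonoidHom.mem_ker.1 this, map_one]
  · intro s hs
    rw [hTT] at hs
    obtain ⟨s', hs', e'⟩ := hs
    rw [← hcV]
    exact ⟨π0 s, ⟨s, Subtype.ext e' ▸ hs', rfl⟩, rfl⟩
  · intro v hv
    rw [← hcV] at hv
    obtain ⟨_, ⟨s, hs, rfl⟩, rfl⟩ := hv
    exact ⟨s, hTT ▸ ⟨s, hs, rfl⟩, rfl⟩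

end Cfsg.Lib.AltEightType
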