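import Cfsg.Agent.AltEightType.Setting
import Cfsg.Agent.TwoFusion.Product.Main

/-! A group with trivial odd core and Sylow subgroup `(2² × 2²) : 2`. -/

set_option autoImplicit false
set_option linter.style.haveILetI false
set_option linter.unusedSectionVars false

namespace Cfsg.Lib.AltEightType

open Subgroup
open scoped commutatorElement

variable {Y : Type*} [Group Y] [Finite Y]

/-- A subgroup with a central Sylow `2`-subgroup splits over it. -/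
theorem split_central {C Z : Subgroup Y} (hZC : Z ≤ C) (hc : ∀ z ∈ Z, ∀ c ∈ C, z * c = c * z)
    (hZ : IsPGroup 2 Z) (ho : Odd (Z.relIndex C)) {c : Y} (hcC : c ∈ C) :
    ∃ k ∈ core C, k⁻¹ * c ∈ Z := by
  haveI : Fact (Nat.Prime 2) := ⟨Nat.prime_two⟩
  haveI : (Z.subgroupOf C).Normal := ⟨fun a ha g => by
    have e : (a : Y) * (g : Y) = g * a := hc _ ha _ g.2
    show (g : Y) * a * (g : Y)⁻¹ ∈ Z
    rw [← e, mul_inv_cancel_right]; exact ha⟩
  have hcop : Nat.Coprime (Nat.card (Z.subgroupOf C)) (Z.subgroupOf C).index := by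
    obtain ⟨n, hn⟩ := IsPGroup.iff_card.1 hZ
    rw [Nat.card_congr (subgroupOfEquivOfLe hZC).toEquiv, hn]
    exact Nat.Coprime.pow_left n (Nat.coprime_two_left.2 ho)
  obtain ⟨H, hH⟩ := exists_right_complement'_of_coprime hcop
  have hHn : H.Normal := ⟨fun a ha g => by
    obtain ⟨⟨⟨u, hu⟩, ⟨b, hb⟩⟩, e⟩ := hH.2 g
    simp only at e
    subst e
    have hb' := mul_mem (mul_mem hb ha) (inv_mem hb)
    have e : u * (b * a * b⁻¹) = b * a * b⁻¹ * u := Subtype.ext (hc _ hu _ (b * a * b⁻¹ : ↥C).2)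
    rw [show u * b * a * (u * b)⁻¹ = u * (b * a * b⁻¹) * u⁻¹ by group, e, mul_inv_cancel_right]
    exact hb'⟩
  have hcard : Nat.card H = Z.relIndex C := hH.symm.index_eq_card.symm
  have hle := le_oddCore (N := H) (hcard ▸ ho)
  obtain ⟨⟨⟨u, hu⟩, ⟨b, hb⟩⟩, e⟩ := hH.2 ⟨c, hcC⟩
  simp only at e
  refine ⟨b, ⟨b, hle hb, rfl⟩, ?_⟩
  have e' : (u : Y) * b = c := congrArg Subtype.val e
  have e2 : (u : Y) * b = b * u := hc _ hu _ b.2
  rw [← e', e2, inv_mul_cancel_left]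
  exact hu

/-- The configuration in the centralizer of a central involution, modulo it and the odd core. -/
structure Local (Y : Type*) [Group Y] [Finite Y] where
  T : Sylow 2 Y
  X : Subgroup Y
  V : Subgroup Y
  J : Subgroup Y
  Q : Subgroup Y
  x : Y
  t : Y
  p : Y
  hY : ∀ N : Subgroup Y, N.Normal → Odd (Nat.card N) → N = ⊥
  hXn : X.Normal
  hXi : ∀ g : Y, g ∈ X ∨ g * x ∈ X
  hVX : V = (T : Subgroup Y) ⊓ X
  hV : Cfsg.IsElementaryAbelian 2 V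
  hJ : Cfsg.IsStronglyClosed J (T : Subgroup Y)
  hJV : J ≤ V
  hQV : Q ≤ V
  dec : ∀ v ∈ V, ∃ q ∈ Q, ∃ j ∈ J, v = q * j
  hxT : x ∈ (T : Subgroup Y)
  hxx : x * x = 1
  hxJ : ∀ j ∈ J, cj x j = j
  delta : ∀ q ∈ Q, cj x q * q ∈ J
  delta_inj : ∀ q ∈ Q, cj x q ∈ Q → q = 1
  delta_surj : ∀ j ∈ J, ∃ q ∈ Q, cj x q * q = j
  htX : t ∈ X
  htx : cj t x = x
  tV : ∀ v ∈ V, cj t v ∈ V
  tQ : ∀ q ∈ Q, cj t q ∈ Q
  hp : p ∈ J
  orbit : ∀ j ∈ J, j ≠ 1 → ∃ i : ℕ, j = cj (t ^ i) p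
  four : ∀ j ∈ J, ∀ k ∈ J, j ≠ 1 → j ≠ p → k ≠ 1 → k ≠ p → k = j ∨ k = p * j

namespace Local

variable (L : Local Y)

theorem comm {a b : Y} (ha : a ∈ L.V) (hb : b ∈ L.V) : a * b = b * a :=
  congrArg Subtype.val (L.hV.1.is_comm.comm (⟨a, ha⟩ : L.V) ⟨b, hb⟩)

theorem sq {a : Y} (ha : a ∈ L.V) : a * a = 1 := by rw [← pow_two]; exact L.hV.2 a ha

theorem VT : L.V ≤ (L.T : Subgroup Y) := L.hVX.le.trans inf_le_left

theorem VleX : L.V ≤ L.X := L.hVX.le.trans inf_le_right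

theorem xV {v : Y} (hv : v ∈ L.V) : cj L.x v ∈ L.V := by
  rw [L.hVX]
  exact ⟨mul_mem (mul_mem L.hxT (L.VT hv)) ((L.T : Subgroup Y).inv_mem L.hxT), L.hXn.conj_mem v (L.VleX hv) L.x⟩

/-- The map measuring the action of `x`. -/
def d (v : Y) : Y := cj L.x v * v

theorem d_mem {v : Y} (hv : v ∈ L.V) : L.d v ∈ L.J := by
  obtain ⟨q, hq, j, hj, rfl⟩ := L.dec v hv
  have : L.d (q * j) = cj L.x q * q := by
    simp only [d]
    rw [cj_mul', L.hxJ j hj, L.comm (L.hQV hq) (L.hJV hj), mul_assoc (cj L.x q), ← mul_assoc j,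
      L.sq (L.hJV hj), one_mul]
  rw [this]; exact L.delta q hq

theorem d_mul {u v : Y} (hu : u ∈ L.V) (hv : v ∈ L.V) : L.d (u * v) = L.d u * L.d v := by
  simp only [d]
  rw [cj_mul', mul_assoc, mul_assoc, ← mul_assoc (cj L.x v) u, L.comm (L.xV hv) hu, ← mul_assoc u (cj L.x v)]

theorem d_ker {v : Y} (hv : v ∈ L.V) (h : L.d v = 1) : v ∈ L.J := by
  obtain ⟨q, hq, j, hj, rfl⟩ := L.dec v hv
  rw [L.d_mul (L.hQV hq) (L.hJV hj), show L.d j = 1 by simp only [d]; rw [L.hxJ j hj, L.sq (L.hJV hj)],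
    mul_one] at h
  have : cj L.x q = q := by rw [eq_inv_of_mul_eq_one_left (show cj L.x q * q = 1 from h),
    inv_eq_of_mul_eq_one_left (L.sq (L.hQV hq))]
  rw [L.delta_inj q hq (by rwa [this]), one_mul]
  exact hj

theorem d_d {v : Y} (hv : v ∈ L.V) : L.d (L.d v) = 1 := by
  show cj L.x (L.d v) * L.d v = 1
  rw [L.hxJ _ (L.d_mem hv)]
  exact L.sq (L.hJV (L.d_mem hv))

theorem x_act {v : Y} (hv : v ∈ L.V) : cj L.x v = v * L.d v := by
  simp only [d]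
  rw [L.comm (L.xV hv) hv, ← mul_assoc, L.sq hv, one_mul]

theorem sylowX : ∃ TX : Sylow 2 ↥L.X, (TX : Subgroup ↥L.X) = L.V.subgroupOf L.X := by
  haveI : Fact (Nat.Prime 2) := ⟨Nat.prime_two⟩
  haveI := L.hXn
  have hidx : ¬ 2 ∣ (L.V.subgroupOf L.X).index := by
    intro h2
    have h3 : (L.V.subgroupOf L.X).index ∣ (L.T : Subgroup Y).index := by
      show L.V.relIndex L.X ∣ _
      set T' : Subgroup Y := (L.T : Subgroup Y)
      have e1 := relIndex_mul_relIndex (T' ⊓ L.X) L.X (T' ⊔ L.X) inf_le_right le_sup_right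
      have e2 := relIndex_mul_relIndex (T' ⊓ L.X) T' (T' ⊔ L.X) inf_le_left le_sup_left
      rw [inf_relIndex_right, relIndex_sup_right, ← e2, inf_relIndex_left, mul_comm (L.X.relIndex T')] at e1
      have hne : L.X.relIndex T' ≠ 0 := index_ne_zero_of_finite
      rw [L.hVX, inf_relIndex_right, Nat.eq_of_mul_eq_mul_right (Nat.pos_of_ne_zero hne) e1]
      exact Dvd.intro _ (relIndex_mul_index le_sup_left)
    exact L.T.not_dvd_index (h2.trans h3)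
  exact ⟨((L.T.isPGroup'.to_le L.VT).of_equiv (subgroupOfEquivOfLe L.VleX).symm).toSylow hidx, rfl⟩

theorem two_mem {w : Y} (hw : w ∈ L.X) (hn : ∀ v ∈ L.V, cj w v ∈ L.V) (h2 : IsPGroup 2 (zpowers w)) :
    w ∈ L.V := by
  obtain ⟨TX, hTX⟩ := L.sylowX
  have hn' : zpowers w ≤ normalizer (L.V : Set Y) := zpowers_le.2 (by
    refine mem_normalizer_iff_map_conj_eq.2 (eq_of_le_of_card_ge ?_ (le_of_eq ?_))
    · rintro _ ⟨v, hv, rfl⟩
      exact hn v hv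
    · rw [card_map_of_injective (MulEquiv.injective _)])
  have hP : IsPGroup 2 (zpowers w ⊔ L.V : Subgroup Y) :=
    h2.to_sup_of_normal_right' (L.T.isPGroup'.to_le L.VT) hn'
  have hle : (TX : Subgroup ↥L.X) ≤ (zpowers w ⊔ L.V).subgroupOf L.X := by
    rw [hTX]; exact comap_mono le_sup_right
  have he := TX.3 (hP.comap_of_injective _ L.X.subtype_injective) hle
  have : (⟨w, hw⟩ : ↥L.X) ∈ L.V.subgroupOf L.X := by
    rw [← hTX]
    rw [← he]
    exact mem_subgroupOf.2 (mem_sup_left (mem_zpowers w))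
  exact this

theorem cj_pow_fix {n v : Y} (h : cj n v = v) (i : ℕ) : cj (n ^ i) v = v := by
  induction i with
  | zero => simp [cj]
  | succ i ih => rw [pow_succ', ← cj_cj, ih, h]

/-- An element of `X` acting on `V` with trivial square acts trivially. -/
theorem odd_action {n : Y} (hn : n ∈ L.X) (hnV : ∀ v ∈ L.V, cj n v ∈ L.V)
    (h2 : ∀ v ∈ L.V, cj n (cj n v) = v) {v : Y} (hv : v ∈ L.V) : cj n v = v := by
  haveI : Fact (Nat.Prime 2) := ⟨Nat.prime_two⟩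
  obtain ⟨e, o, ho, ho'⟩ := Nat.exists_eq_two_pow_mul_odd (orderOf_pos n).ne'
  obtain ⟨j, rfl⟩ := ho
  have hpowV : ∀ i : ℕ, ∀ v ∈ L.V, cj (n ^ i) v ∈ L.V := by
    intro i
    induction i with
    | zero => intro v hv; simpa [cj] using hv
    | succ i ih => intro v hv; rw [pow_succ', ← cj_cj]; exact hnV _ (ih v hv)
  have hw : n ^ (2 * j + 1) ∈ L.V := L.two_mem (pow_mem hn _) (hpowV _) (by
    refine IsPGroup.of_card (n := e) ?_
    rw [Nat.card_zpowers, orderOf_pow, ho']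
    rw [Nat.gcd_eq_right (dvd_mul_left _ _), Nat.mul_div_cancel _ (by omega)])
  have h1 : cj (n ^ (2 * j + 1)) v = v := by
    rw [cj, L.comm hw hv, mul_inv_cancel_right]
  rwa [pow_succ', ← cj_cj, pow_mul, cj_pow_fix (by rw [pow_two, ← cj_cj, h2 v hv]) j] at h1

/-- An element of `X` translating `V` by `J` acts trivially. -/
theorem translation {n : Y} (hn : n ∈ L.X) (hJfix : ∀ j ∈ L.J, cj n j = j)
    (htr : ∀ v ∈ L.V, ∃ j ∈ L.J, cj n v = v * j) {v : Y} (hv : v ∈ L.V) : cj n v = v := by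
  refine L.odd_action hn ?_ ?_ hv
  · intro v hv
    obtain ⟨j, hj, e⟩ := htr v hv
    rw [e]; exact mul_mem hv (L.hJV hj)
  · intro v hv
    obtain ⟨j, hj, e⟩ := htr v hv
    rw [e, cj_mul', e, hJfix j hj, mul_assoc, L.sq (L.hJV hj), mul_one]

theorem inv_act {n : Y} (hnV : ∀ v ∈ L.V, cj n v ∈ L.V) {v : Y} (hv : v ∈ L.V) : cj n⁻¹ v ∈ L.V := by
  have hn : n ∈ normalizer (L.V : Set Y) := by
    refine mem_normalizer_iff_map_conj_eq.2 (eq_of_le_of_card_ge ?_ (le_of_eq ?_))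
    · rintro _ ⟨v, hv, rfl⟩
      exact hnV v hv
    · rw [card_map_of_injective (MulEquiv.injective _)]
  exact (mem_normalizer_iff.1 (inv_mem hn) v).1 hv

/-- An element of `X` which is trivial on `J` is trivial on `V`. -/
theorem trivial_of_J {n : Y} (hn : n ∈ L.X) (hnV : ∀ v ∈ L.V, cj n v ∈ L.V)
    (hJ : ∀ j ∈ L.J, cj n j = j) {v : Y} (hv : v ∈ L.V) : cj n v = v := by
  have hJ' : ∀ j ∈ L.J, cj n⁻¹ j = j := fun j hj => cj_inj n (by
    rw [cj_cj, mul_inv_cancel, hJ j hj]; simp [cj])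
  have hxi : L.x⁻¹ = L.x := inv_eq_of_mul_eq_one_right L.hxx
  set m := L.x * n * L.x⁻¹ * n⁻¹
  have hm : m ∈ L.X := mul_mem (L.hXn.conj_mem n hn L.x) (inv_mem hn)
  have hact : ∀ v ∈ L.V, cj m v = v * (L.d v * L.d (cj n⁻¹ v)) := by
    intro v hv
    have hw := L.inv_act hnV hv
    have e : cj m v = cj L.x (cj n (cj L.x (cj n⁻¹ v))) := by
      rw [cj_cj, cj_cj, cj_cj]; simp only [m, hxi, mul_assoc]
    rw [e, L.x_act hw, cj_mul', cj_cj n n⁻¹ v, mul_inv_cancel, hJ _ (L.d_mem hw)]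
    rw [show cj (1 : Y) v = v by simp [cj], cj_mul', L.x_act hv, L.hxJ _ (L.d_mem hw), mul_assoc]
  have hfix : ∀ v ∈ L.V, cj m v = v := fun v hv => L.translation hm
    (fun j hj => by
      rw [hact j (L.hJV hj), hJ' j hj, L.sq (L.hJV (L.d_mem (L.hJV hj))), mul_one])
    (fun v hv => ⟨_, mul_mem (L.d_mem hv) (L.d_mem (L.inv_act hnV hv)), hact v hv⟩) hv
  refine L.translation hn hJ (fun v hv => ?_) hv
  set w := cj n v
  have hw : w ∈ L.V := hnV v hv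
  refine ⟨v * w, ?_, by rw [← mul_assoc, L.sq hv, one_mul]⟩
  refine L.d_ker (mul_mem hv hw) ?_
  have h1 := (hact w hw).symm.trans (hfix w hw)
  rw [mul_eq_left, cj_cj, inv_mul_cancel, show cj (1 : Y) v = v by simp [cj]] at h1
  rw [L.d_mul hv hw, L.comm (L.hJV (L.d_mem hv)) (L.hJV (L.d_mem hw))]
  exact h1

theorem tJ {j : Y} (hj : j ∈ L.J) : cj L.t j ∈ L.J :=
  L.hJ.2 j hj L.t (L.VT (L.tV j (L.hJV hj)))

theorem tpow (i : ℕ) : (∀ v ∈ L.V, cj (L.t ^ i) v ∈ L.V) ∧ (∀ q ∈ L.Q, cj (L.t ^ i) q ∈ L.Q) ∧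
    cj (L.t ^ i) L.x = L.x := by
  induction i with
  | zero => simp [cj]
  | succ i ih =>
    refine ⟨fun v hv => ?_, fun q hq => ?_, ?_⟩ <;> rw [pow_succ', ← cj_cj]
    exacts [L.tV _ (ih.1 v hv), L.tQ _ (ih.2.1 q hq), by rw [ih.2.2, L.htx]]

/-- Every element of `X` normalizing `V` acts as a power of `t`. -/
theorem act_t {n : Y} (hn : n ∈ L.X) (hnV : ∀ v ∈ L.V, cj n v ∈ L.V) :
    ∃ i : ℕ, ∀ v ∈ L.V, cj n v = cj (L.t ^ i) v := by
  by_cases hp1 : L.p = 1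
  · exact ⟨0, fun v hv => by
      rw [L.trivial_of_J hn hnV (fun j hj => ?_) hv]; · simp [cj]
      by_cases hj1 : j = 1
      · simp [hj1, cj]
      · obtain ⟨i, e⟩ := L.orbit j hj hj1
        rw [hp1] at e
        exact absurd (e.trans (by simp [cj])) hj1⟩
  have hnp : cj n L.p ∈ L.J := L.hJ.2 _ L.hp n (L.VT (hnV _ (L.hJV L.hp)))
  obtain ⟨i, hi⟩ := L.orbit _ hnp (fun e => hp1 (cj_inj n (e.trans (by simp [cj]))))
  refine ⟨i, fun v hv => ?_⟩
  set m := (L.t ^ i)⁻¹ * n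
  have hmX : m ∈ L.X := mul_mem (inv_mem (pow_mem L.htX i)) hn
  have hmV : ∀ v ∈ L.V, cj m v ∈ L.V := fun v hv => by
    simp only [m]; rw [← cj_cj]; exact L.inv_act (L.tpow i).1 (hnV v hv)
  have hmJ : ∀ j ∈ L.J, cj m j ∈ L.J := fun j hj => L.hJ.2 j hj m (L.VT (hmV j (L.hJV hj)))
  have hmp : cj m L.p = L.p := by
    simp only [m]; rw [← cj_cj, hi, cj_cj, inv_mul_cancel]; simp [cj]
  have hm2 : ∀ j ∈ L.J, cj m (cj m j) = j := by
    intro j hj
    by_cases hj1 : j = 1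
    · simp [hj1, cj]
    by_cases hjp : j = L.p
    · rw [hjp, hmp, hmp]
    rcases L.four j hj _ (hmJ j hj) hj1 hjp (fun e => hj1 (cj_inj m (e.trans (by simp [cj]))))
      (fun e => hjp (cj_inj m (e.trans hmp.symm))) with e | e
    · rw [e, e]
    · rw [e, cj_mul', hmp, e, ← mul_assoc, L.sq (L.hJV L.hp), one_mul]
  have hmfix : ∀ v ∈ L.V, cj m v = v := fun v hv => L.odd_action hmX hmV (fun v hv => by
    rw [cj_cj, ← pow_two]
    exact L.trivial_of_J (pow_mem hmX 2) (fun v hv => by rw [pow_two, ← cj_cj]; exact hmV _ (hmV v hv))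
      (fun j hj => by rw [pow_two, ← cj_cj]; exact hm2 j hj) hv) hv
  have := congrArg (cj (L.t ^ i)) (hmfix v hv)
  rwa [cj_cj, mul_inv_cancel_left] at this

/-- A subgroup of `V` invariant under `t` is strongly closed in `V` with respect to `X`. -/
theorem closed_of_invariant {W : Subgroup Y} (hW : W ≤ L.V) (ht : ∀ i : ℕ, ∀ w ∈ W, cj (L.t ^ i) w ∈ W)
    (TX : Sylow 2 ↥L.X) (hTX : (TX : Subgroup ↥L.X) = L.V.subgroupOf L.X) :
    Cfsg.IsStronglyClosed (W.subgroupOf L.X) (TX : Subgroup ↥L.X) := by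
  haveI : Fact (Nat.Prime 2) := ⟨Nat.prime_two⟩
  refine ⟨by rw [hTX]; exact comap_mono hW, fun w hw g hg => ?_⟩
  rw [hTX] at hg
  have hwk : Cfsg.IsWeaklyClosed (L.V.subgroupOf L.X) (TX : Subgroup ↥L.X) :=
    ⟨hTX.ge, fun k hk => eq_of_le_of_card_ge (hk.trans hTX.le)
      (le_of_eq (card_map_of_injective (MulEquiv.injective _)).symm)⟩
  have hcent : ∀ u : ↥L.X, u ∈ L.V.subgroupOf L.X → u ∈ centralizer (L.V.subgroupOf L.X : Set ↥L.X) :=
    fun u hu => mem_centralizer_iff.2 fun v hv => Subtype.ext (L.comm hv hu)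
  obtain ⟨k, hk, e⟩ := Cfsg.Lib.InvolCalc.weaklyClosed_control TX hwk (hcent _ (hW hw)) (hcent _ hg)
  obtain ⟨i, hi⟩ := L.act_t k.2 (fun v hv =>
    (mem_normalizer_iff.1 hk ⟨v, L.VleX hv⟩).1 (mem_subgroupOf.2 hv))
  rw [mem_subgroupOf, ← e]
  show cj (k : Y) (w : Y) ∈ W
  have hw' : (w : Y) ∈ W := hw
  rw [hi _ (hW hw')]
  exact ht i _ hw'

/-- The image of `Q` under `x`. -/
def Q' : Subgroup Y := L.Q.map (MulAut.conj L.x).toMonoidHom

theorem main : (∀ g : Y, ∀ v ∈ L.V, cj g v ∈ L.V) ∧ ∀ g : Y, cj g L.x ∈ (L.T : Subgroup Y) := by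
  haveI : Fact (Nat.Prime 2) := ⟨Nat.prime_two⟩
  haveI := L.hXn
  obtain ⟨TX, hTX⟩ := L.sylowX
  have hQ'V : L.Q' ≤ L.V := by
    rintro _ ⟨q, hq, rfl⟩; exact L.xV (L.hQV hq)
  have cQ := L.closed_of_invariant L.hQV (fun i => (L.tpow i).2.1) TX hTX
  have cJ := L.closed_of_invariant L.hJV (fun i j hj =>
    L.hJ.2 j hj _ (L.VT ((L.tpow i).1 j (L.hJV hj)))) TX hTX
  have cQ' := L.closed_of_invariant hQ'V (fun i => by
    rintro _ ⟨q, hq, rfl⟩
    refine ⟨cj (L.t ^ i) q, (L.tpow i).2.1 q hq, ?_⟩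
    show cj L.x (cj (L.t ^ i) q) = cj (L.t ^ i) (cj L.x q)
    rw [cj_cj, cj_cj, mul_inv_eq_iff_eq_mul.1 (L.tpow i).2.2]) TX hTX
  have hcore : pPrimeCore 2 ↥L.X = ⊥ := by
    have h1 := L.hY (core L.X) ⟨fun a ha g => ?_⟩ (odd_core _)
    · exact (map_eq_bot_iff_of_injective _ L.X.subtype_injective).1 h1
    · haveI : ((Cfsg.oddCore ↥L.X).map L.X.subtype).Normal := inferInstance
      exact this.conj_mem a ha g
  have hcomm : ∀ {W W' : Subgroup Y}, W ≤ L.V → W' ≤ L.V → W ⊓ W' = ⊥ →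
      Cfsg.IsStronglyClosed (W.subgroupOf L.X) (TX : Subgroup ↥L.X) →
      Cfsg.IsStronglyClosed (W'.subgroupOf L.X) (TX : Subgroup ↥L.X) →
      ∀ a ∈ W, ∀ b ∈ W', ∀ g ∈ L.X, Commute (cj g a) b ∧ Commute (cj g b) a := by
    intro W W' hW hW' hd h1 h2 a ha b hb g hg
    have h := Cfsg.Lib.ProdFusion.product_fusion ↥L.X TX _ _ h1 h2
      (fun u hu v hv => Subtype.ext (L.comm (hW hu) (hW' hv)))
      (by rw [eq_bot_iff]; intro u hu; exact Subtype.ext ((mem_bot).1 (hd ▸ (⟨hu.1, hu.2⟩ : (u : Y) ∈ W ⊓ W'))))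
    rw [hcore, le_bot_iff] at h
    have key : ∀ u ∈ normalClosure (W.subgroupOf L.X : Set ↥L.X), ∀ v ∈ normalClosure (W'.subgroupOf L.X : Set ↥L.X),
        Commute (u : Y) (v : Y) := fun u hu v hv => by
      have h' := commutator_mem_commutator hu hv
      rw [h, mem_bot, commutatorElement_eq_one_iff_mul_comm] at h'
      exact congrArg Subtype.val h'
    have ha' : (⟨a, L.VleX (hW ha)⟩ : ↥L.X) ∈ normalClosure (W.subgroupOf L.X : Set ↥L.X) := subset_normalClosure ha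
    have hb' : (⟨b, L.VleX (hW' hb)⟩ : ↥L.X) ∈ normalClosure (W'.subgroupOf L.X : Set ↥L.X) := subset_normalClosure hb
    exact ⟨key _ (normalClosure_normal.conj_mem _ ha' ⟨g, hg⟩) _ hb',
      (key _ ha' _ (normalClosure_normal.conj_mem _ hb' ⟨g, hg⟩)).symm⟩
  have hd0 : L.J ⊓ L.Q = ⊥ := by
    rw [eq_bot_iff]; rintro q ⟨hj, hq⟩
    exact mem_bot.2 (L.delta_inj q hq (by rwa [L.hxJ q hj]))
  have hd1 : L.J ⊓ L.Q' = ⊥ := by
    rw [eq_bot_iff]; rintro _ ⟨hj, q, hq, rfl⟩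
    have hj : cj L.x q ∈ L.J := hj
    have e : q = cj L.x (cj L.x q) := by rw [cj_cj, L.hxx]; simp [cj]
    have : q ∈ L.J := by rw [e, L.hxJ _ hj]; exact hj
    rw [show q = 1 from mem_bot.1 (hd0 ▸ (⟨this, hq⟩ : q ∈ L.J ⊓ L.Q))]
    simp
  have hd2 : L.Q ⊓ L.Q' = ⊥ := by
    rw [eq_bot_iff]; rintro _ ⟨hq', q, hq, rfl⟩
    rw [show q = 1 from L.delta_inj q hq hq']
    simp
  have hxQ : ∀ q ∈ L.Q, cj L.x q ∈ L.Q' := fun q hq => ⟨q, hq, rfl⟩
  have hqd : ∀ q ∈ L.Q, q = cj L.x q * L.d q := fun q hq => by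
    show q = cj L.x q * (cj L.x q * q)
    rw [← mul_assoc, L.sq (L.xV (L.hQV hq)), one_mul]
  have hJJ : ∀ g ∈ L.X, ∀ a ∈ L.J, ∀ b ∈ L.J, Commute (cj g a) b := by
    intro g hg a ha b hb
    obtain ⟨q, hq, rfl⟩ := L.delta_surj a ha
    rw [cj_mul']
    exact ((hcomm L.hJV hQ'V hd1 cJ cQ' b hb _ (hxQ q hq) g hg).2).mul_left
      ((hcomm L.hJV L.hQV hd0 cJ cQ b hb q hq g hg).2)
  have hQQ : ∀ g ∈ L.X, ∀ a ∈ L.Q, ∀ b ∈ L.Q, Commute (cj g a) b := by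
    intro g hg a ha b hb
    rw [hqd a ha, cj_mul']
    exact ((hcomm L.hQV hQ'V hd2 cQ cQ' b hb _ (hxQ a ha) g hg).2).mul_left
      ((hcomm L.hJV L.hQV hd0 cJ cQ _ (L.d_mem (L.hQV ha)) b hb g hg).1)
  have hVV : ∀ g ∈ L.X, ∀ a ∈ L.V, ∀ b ∈ L.V, Commute (cj g a) b := by
    intro g hg a ha b hb
    obtain ⟨q, hq, j, hj, rfl⟩ := L.dec a ha
    obtain ⟨q', hq', j', hj', rfl⟩ := L.dec b hb
    rw [cj_mul']
    exact ((hQQ g hg q hq q' hq').mul_right (hcomm L.hJV L.hQV hd0 cJ cQ j' hj' q hq g hg).2).mul_left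
      ((hcomm L.hJV L.hQV hd0 cJ cQ j hj q' hq' g hg).1.mul_right (hJJ g hg j hj j' hj'))
  have hXV : ∀ g ∈ L.X, ∀ v ∈ L.V, cj g v ∈ L.V := by
    intro g hg v hv
    have hW : Cfsg.IsWeaklyClosed (L.V.subgroupOf L.X) (TX : Subgroup ↥L.X) :=
      ⟨hTX.ge, fun k hk => eq_of_le_of_card_ge (hk.trans hTX.le)
        (le_of_eq (card_map_of_injective (MulEquiv.injective _)).symm)⟩
    have he := Cfsg.Lib.InvolCalc.weaklyClosed_commute TX hW (g := ⟨g, hg⟩) (fun a ha b hb => by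
      obtain ⟨c, hc, rfl⟩ := hb
      exact Subtype.ext ((hVV g hg c hc a ha).symm.eq))
    exact he.le (⟨⟨v, L.VleX hv⟩, hv, rfl⟩ :
      (⟨cj g v, L.hXn.conj_mem v (L.VleX hv) g⟩ : ↥L.X) ∈
        (L.V.subgroupOf L.X).map (MulAut.conj ⟨g, hg⟩).toMonoidHom)
  have hYV : ∀ g : Y, ∀ v ∈ L.V, cj g v ∈ L.V := by
    intro g v hv
    rcases L.hXi g with hg | hg
    · exact hXV g hg v hv
    · have : cj g v = cj (g * L.x) (cj L.x v) := by rw [cj_cj, mul_assoc, L.hxx, mul_one]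
      rw [this]
      exact hXV _ hg _ (L.xV hv)
  refine ⟨hYV, ?_⟩
  -- the centralizer of `V` in `X` is `V`
  set C : Subgroup Y := L.X ⊓ centralizer (L.V : Set Y) with hC
  have hVC : L.V ≤ C := le_inf L.VleX fun v hv => mem_centralizer_iff.2 fun u hu => L.comm hu hv
  haveI hCn : C.Normal := ⟨fun c hc g => ⟨L.hXn.conj_mem c hc.1 g, mem_centralizer_iff.2 fun v hv => by
    have e := mem_centralizer_iff.1 hc.2 _ (hYV g⁻¹ v hv)
    have e2 := congrArg (cj g) e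
    simpa [cj, mul_assoc] using e2⟩⟩
  have hCV : ∀ c ∈ C, c ∈ L.V := by
    intro c hc
    have ho : Odd (L.V.relIndex C) := by
      refine Odd.of_dvd_nat ?_ ⟨(C.relIndex L.X), (relIndex_mul_relIndex _ _ _ hVC inf_le_left).symm⟩
      have := TX.not_dvd_index
      rw [hTX] at this
      exact Nat.odd_iff.2 (by change ¬ 2 ∣ L.V.relIndex L.X at this; omega)
    obtain ⟨k, hk, hkc⟩ := split_central hVC (fun v hv u hu => mem_centralizer_iff.1 hu.2 v hv)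
      (L.T.isPGroup'.to_le L.VT) ho hc
    have h0 := L.hY (core C) ⟨fun a ha g => ?_⟩ (odd_core _)
    · rw [h0, mem_bot] at hk
      rwa [hk, inv_one, one_mul] at hkc
    · haveI : ((Cfsg.oddCore ↥C).map C.subtype).Normal := inferInstance
      exact this.conj_mem a ha g
  have hXx : ∀ g ∈ L.X, cj g L.x ∈ (L.T : Subgroup Y) := by
    intro g hg
    obtain ⟨i, hi⟩ := L.act_t hg (hXV g hg)
    have hc : (L.t ^ i)⁻¹ * g ∈ C := ⟨L.X.mul_mem (L.X.inv_mem (L.X.pow_mem L.htX i)) hg, mem_centralizer_iff.2 fun v hv =>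
      (mul_inv_eq_iff_eq_mul.1 (show cj ((L.t ^ i)⁻¹ * g) v = v by
        rw [← cj_cj, hi v hv, cj_cj, inv_mul_cancel]; simp [cj])).symm⟩
    have hv := hCV _ hc
    have e : cj g L.x = cj (L.t ^ i) (cj ((L.t ^ i)⁻¹ * g) L.x) := by rw [cj_cj, mul_inv_cancel_left]
    rw [e, show cj ((L.t ^ i)⁻¹ * g) L.x = ((L.t ^ i)⁻¹ * g) * (cj L.x ((L.t ^ i)⁻¹ * g))⁻¹ * L.x by
      simp only [cj]; group, cj_mul', (L.tpow i).2.2]
    exact (L.T : Subgroup Y).mul_mem (L.VT ((L.tpow i).1 _ (mul_mem hv (L.V.inv_mem (L.xV hv))))) L.hxT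
  intro g
  rcases L.hXi g with hg | hg
  · exact hXx g hg
  · have : cj g L.x = cj (g * L.x) L.x := by rw [← cj_cj]; simp [cj]
    rw [this]
    exact hXx _ hg

end Local

end Cfsg.Lib.AltEightType
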