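import Cfsg.Agent.AltEightType.Fusion
import Cfsg.Agent.AltEightType.Kernel

/-! The centralizer of a central involution. -/

set_option autoImplicit false
set_option linter.style.haveILetI false
set_option linter.unusedSectionVars false
set_option synthInstance.maxSize 1024
set_option maxHeartbeats 1000000

namespace Cfsg.Lib.AltEightType

open Subgroup

theorem add_facts : (∀ k l : B4, bAdd k l = bAdd l k) ∧ (∀ k, bAdd k k = c0) ∧ (∀ k, bAdd k c0 = k) ∧
    (∀ k l, bAdd (bAdd k l) k = l) ∧ (∀ k l, inJ k = true → inJ l = true → inJ (bAdd k l) = true) ∧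
    (∀ k, ¬ inJ k = true → inJ (bAdd k cx) = true) := by decide +kernel

theorem four_key : ∀ a b : B4, inJ a = true → inJ b = true →
    ¬(bAdd a c0 = c0 ∨ bAdd a c0 = cz) → ¬(bAdd a cp = c0 ∨ bAdd a cp = cz) →
    ¬(bAdd b c0 = c0 ∨ bAdd b c0 = cz) → ¬(bAdd b cp = c0 ∨ bAdd b cp = cz) →
    (bAdd b a = c0 ∨ bAdd b a = cz) ∨ bAdd b (bAdd cp a) = c0 ∨ bAdd b (bAdd cp a) = cz := by
  decide +kernel

variable {G : Type*} [Group G] [Finite G] {S : Sylow 2 G} {A : Subgroup G} {h : Ctx S A}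

/-- The three chosen involutions outside `A`. -/
structure Tops (F : Frame h) where
  v1 : G
  v2 : G
  v3 : G
  S1 : v1 ∈ (S : Subgroup G)
  S2 : v2 ∈ (S : Subgroup G)
  S3 : v3 ∈ (S : Subgroup G)
  sq1 : v1 * v1 = 1
  sq2 : v2 * v2 = 1
  sq3 : v3 * v3 = 1
  out1 : v1 ∉ A
  out2 : v2 ∉ A
  out3 : v3 ∉ A
  pi1 : h.π ⟨v1, h.SN S1⟩ = a1
  pi2 : h.π ⟨v2, h.SN S2⟩ = a2
  pi3 : h.π ⟨v3, h.SN S3⟩ = a1 * a2
  act1 : ∀ k, cj v1 (F.el k) = F.el (m1 k)
  act2 : ∀ k, cj v2 (F.el k) = F.el (m2 k)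
  act3 : ∀ k, cj v3 (F.el k) = F.el (m3 k)
  t1 : cj (F.t : G) v1 = v2
  t2 : cj (F.t : G) v2 = v3
  t3 : cj (F.t : G) v3 = v1
  e : B4
  he : e = c0 ∨ e = cz
  prod : v1 * v2 = v3 * F.el e

namespace Frame

variable {F : Frame h} (hF : F.Good)

include hF

theorem exists_tops : Nonempty (Tops F) := by
  obtain ⟨w, hw, hw2, hwA⟩ := exists_outside hF
  obtain ⟨v1, S1, sq1, pi1, -⟩ := to_first hF hw hw2 hwA
  set v2 := cj (F.t : G) v1 with hv2
  set v3 := cj (F.t : G) v2 with hv3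
  have S2 : v2 ∈ (S : Subgroup G) := F.tS _ S1
  have S3 : v3 ∈ (S : Subgroup G) := F.tS _ S2
  have sq2 : v2 * v2 = 1 := by rw [hv2, ← cj_mul', sq1, cj_one]
  have sq3 : v3 * v3 = 1 := by rw [hv3, ← cj_mul', sq2, cj_one]
  have step : ∀ {v : G} (hv : v ∈ (S : Subgroup G)),
      h.π ⟨cj (F.t : G) v, h.SN (F.tS v hv)⟩ = t0 * h.π ⟨v, h.SN hv⟩ * t0⁻¹ := by
    intro v hv
    rw [show (⟨cj (F.t : G) v, h.SN (F.tS v hv)⟩ : ↥(normalizer (A : Set G))) = F.t * ⟨v, h.SN hv⟩ * F.t⁻¹ from rfl,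
      map_mul, map_mul, map_inv, F.πt]
  have pi2 : h.π ⟨v2, h.SN S2⟩ = a2 := by rw [← t0_a1, ← pi1]; exact step S1
  have pi3 : h.π ⟨v3, h.SN S3⟩ = a1 * a2 := by rw [← t0_a2, ← pi2]; exact step S2
  have act : ∀ {v : G} (hv : v ∈ (S : Subgroup G)) {g : ↥(normalizer (A : Set G))} {m : B4 → B4},
      h.π ⟨v, h.SN hv⟩ = h.π g → (∀ k, cj (g : G) (F.el k) = F.el (m k)) → ∀ k, cj v (F.el k) = F.el (m k) :=
    fun hv g m e hm k => (h.act_eq (n := ⟨_, h.SN hv⟩) e (F.el_mem k)).trans (hm k)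
  have act1 := act S1 (pi1.trans F.π1.symm) F.act1
  have act2 := act S2 (pi2.trans F.π2.symm) F.act2
  have act3 := act S3 (g := F.n1 * F.n2) (pi3.trans (by rw [map_mul, F.π1, F.π2])) (fun k => by
    rw [Subgroup.coe_mul]; exact F.act3 k)
  have out : ∀ {v : G} (hv : v ∈ (S : Subgroup G)), h.π ⟨v, h.SN hv⟩ ≠ 1 → v ∉ A := fun hv e hA => e (h.π_A _ hA)
  have out1 := out S1 (by rw [pi1]; exact a_ne.1)
  have out2 := out S2 (by rw [pi2]; exact a_ne.2.1)
  have out3 := out S3 (by rw [pi3]; exact a_ne.2.2.1)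
  have t3 : cj (F.t : G) v3 = v1 := by
    set T3 := (F.t : G) ^ 3 with hT3
    have hu : cj T3 v1 = cj (F.t : G) v3 := by
      simp only [hv3, hv2, cj_cj, hT3, pow_succ, pow_zero, one_mul, mul_assoc]
    have hfixA : ∀ a ∈ A, cj T3 a = a := fun a ha => by
      have := h.π_ker (F.t ^ 3) (by rw [map_pow, F.πt, pow_succ, pow_two, t0_cube]) a ha
      simpa [hT3] using this
    have hd : v1⁻¹ * cj (F.t : G) v3 ∈ A := by
      refine h.S_ker (mul_mem (inv_mem S1) (F.tS _ S3)) ?_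
      rw [show (⟨v1⁻¹ * cj (F.t : G) v3, h.SN (mul_mem (inv_mem S1) (F.tS _ S3))⟩ : ↥(normalizer (A : Set G))) =
        ⟨v1, h.SN S1⟩⁻¹ * ⟨cj (F.t : G) v3, h.SN (F.tS _ S3)⟩ from rfl, map_mul, map_inv, pi1, step S3, pi3]
      decide +kernel
    obtain ⟨k, hk⟩ := F.el_surj hd
    have hu' : cj T3 v1 = v1 * F.el k := by rw [hu, hk, mul_inv_cancel_left]
    have hpow : ∀ i : ℕ, cj (T3 ^ i) v1 = v1 * F.el k ^ i := by
      intro i
      induction i with
      | zero => simp [cj]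
      | succ i ih =>
        rw [pow_succ', ← cj_cj, ih, cj_mul', hu', hfixA _ (pow_mem (F.el_mem k) i), pow_succ', mul_assoc]
    have h1 := hpow (orderOf (F.t : G))
    rw [hT3, ← pow_mul, mul_comm 3, pow_mul, pow_orderOf_eq_one, one_pow] at h1
    obtain ⟨j, hj⟩ := F.t_odd
    rw [hj, pow_succ, pow_mul, pow_two, h.sq (F.el_mem k), one_pow, one_mul,
      show cj (1 : G) v1 = v1 by simp [cj]] at h1
    rw [← hu, hu', ← h1]
  have hd : v3⁻¹ * (v1 * v2) ∈ A := by
    refine h.S_ker (mul_mem (inv_mem S3) (mul_mem S1 S2)) ?_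
    rw [show (⟨v3⁻¹ * (v1 * v2), h.SN (mul_mem (inv_mem S3) (mul_mem S1 S2))⟩ : ↥(normalizer (A : Set G))) =
      ⟨v3, h.SN S3⟩⁻¹ * (⟨v1, h.SN S1⟩ * ⟨v2, h.SN S2⟩) from rfl, map_mul, map_mul, map_inv, pi1, pi2, pi3,
      inv_mul_cancel]
  obtain ⟨k, hk⟩ := F.el_surj hd
  have prod : v1 * v2 = v3 * F.el k := by rw [hk, mul_inv_cancel_left]
  have i1 : v1⁻¹ = v1 := inv_eq_of_mul_eq_one_right sq1
  have i2 : v2⁻¹ = v2 := inv_eq_of_mul_eq_one_right sq2
  have i3 : v3⁻¹ = v3 := inv_eq_of_mul_eq_one_right sq3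
  have hc : v1 * v2 * (v1 * v2) = F.el (bAdd (m3 k) k) := by
    rw [← F.el_mul, ← act3, prod, cj, i3]; simp only [mul_assoc]
  have hci : (v1 * v2 * (v1 * v2))⁻¹ = v1 * v2 * (v1 * v2) := by
    rw [hc]; exact inv_eq_of_mul_eq_one_right (h.sq (F.el_mem _))
  have hci' : v2 * (v1 * (v2 * v1)) = v1 * v2 * (v1 * v2) := by
    rw [← hci]; simp [i1, i2, mul_assoc]
  have hfix1 : cj v1 (v1 * v2 * (v1 * v2)) = v1 * v2 * (v1 * v2) := by
    conv_rhs => rw [← hci']
    rw [cj, i1]; simp only [← mul_assoc]; rw [sq1, one_mul]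
  have hfix2 : cj v2 (v1 * v2 * (v1 * v2)) = v1 * v2 * (v1 * v2) := by
    conv_rhs => rw [← hci']
    rw [cj, i2]; simp only [mul_assoc]; rw [sq2, mul_one]
  rw [hc, act1] at hfix1
  rw [hc, act2] at hfix2
  have ht : mt k = m3 k := by
    refine F.el_inj ?_
    have e1 : cj (F.t : G) (v1 * v2) = v1 * F.el (mt k) := by rw [prod, cj_mul', t3, F.actt]
    rw [cj_mul', ← hv2, ← hv3] at e1
    have e2 : v2 = v1 * (v3 * F.el k) := by rw [← prod, ← mul_assoc, sq1, one_mul]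
    have e3 : v2 * v3 = v1 * F.el (m3 k) := by
      rw [← act3, e2, cj, i3]; simp only [mul_assoc]
    exact mul_left_cancel (e1.symm.trans e3)
  have key : ∀ k : B4, m1 (bAdd (m3 k) k) = bAdd (m3 k) k → m2 (bAdd (m3 k) k) = bAdd (m3 k) k →
      mt k = m3 k → k = c0 ∨ k = cz := by decide +kernel
  exact ⟨⟨v1, v2, v3, S1, S2, S3, sq1, sq2, sq3, out1, out2, out3, pi1, pi2, pi3, act1, act2, act3, rfl, rfl, t3,
    k, key k (F.el_inj hfix1) (F.el_inj hfix2) ht, prod⟩⟩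

/-- The radical is preserved by the centralizer of `z`. -/
theorem inJ_closed {g : G} (hg : g ∈ centralizer ({F.z} : Set G)) {k l : B4} (hk : inJ k = true)
    (e : cj g (F.el k) = F.el l) : inJ l = true := by
  have key : ∀ k : B4, inJ k = true ↔ k = c0 ∨ k = cz ∨ (ten k = true ∧ ten (bAdd k cz) = true) := by
    decide +kernel
  have hgz : cj g F.z = F.z := mul_inv_eq_iff_eq_mul.2 (mem_centralizer_singleton_iff.1 hg)
  rcases (key k).1 hk with rfl | rfl | ⟨h1, h2⟩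
  · rw [F.el0, cj_one, ← F.el0] at e; exact (F.el_inj e) ▸ hk
  · rw [F.elz, hgz, ← F.elz] at e; exact (F.el_inj e) ▸ hk
  · have hten : ∀ k l, ten k = true → cj g (F.el k) = F.el l → ten l = true := by
      intro k l hk e
      have hk0 : k ≠ c0 := by rintro rfl; exact absurd hk (by decide)
      have hl0 : l ≠ c0 := by
        rintro rfl; rw [F.el0, ← cj_one g] at e
        exact hk0 (F.el_eq_one (cj_inj g e))
      rcases conj_class hF hl0 with ⟨-, c⟩ | ⟨hl, -⟩
      · rcases conj_class hF hk0 with ⟨hf, -⟩ | ⟨-, c'⟩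
        · simp [ten, hf] at hk
        · exact absurd (c.trans ((c'.trans (isConj_iff.2 ⟨g, e⟩)).symm)) (z_p hF)
      · exact hl
    refine (key l).2 (Or.inr (Or.inr ⟨hten k l h1 e, hten _ _ h2 ?_⟩))
    rw [← F.el_mul, cj_mul', e, F.elz, hgz, ← F.elz, F.el_mul]

end Frame

namespace Tops

variable {F : Frame h} (W : Tops F)

/-- The subgroup of index two avoiding `x`. -/
def M : Subgroup G := closure ({W.v1, W.v2} ∪ {g | ∃ k, inJ k = true ∧ g = F.el k})

theorem v1_M : W.v1 ∈ W.M := subset_closure (Or.inl (Or.inl rfl))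
theorem v2_M : W.v2 ∈ W.M := subset_closure (Or.inl (Or.inr rfl))
theorem el_M {k : B4} (hk : inJ k = true) : F.el k ∈ W.M := subset_closure (Or.inr ⟨k, hk, rfl⟩)

theorem e_inJ : inJ W.e = true := by rcases W.he with e | e <;> rw [e] <;> decide

theorem v3_eq : W.v3 = W.v1 * W.v2 * F.el W.e := by
  rw [W.prod, mul_assoc, h.sq (F.el_mem _), mul_one]

theorem v3_M : W.v3 ∈ W.M := by
  rw [W.v3_eq]; exact mul_mem (mul_mem W.v1_M W.v2_M) (W.el_M W.e_inJ)

theorem M_le : W.M ≤ (S : Subgroup G) := by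
  rw [M, closure_le]
  rintro g ((rfl | rfl) | ⟨k, -, rfl⟩)
  exacts [W.S1, W.S2, h.AS (F.el_mem k)]

/-- Normal form. -/
def E (b c : Bool) (k : B4) : G := (if b then W.v1 else 1) * ((if c then W.v2 else 1) * F.el k)

theorem M_form {g : G} (hg : g ∈ W.M) : ∃ b c k, inJ k = true ∧ g = W.E b c k := by
  have hg' : g ∈ Submonoid.closure ({W.v1, W.v2} ∪ {g | ∃ k, inJ k = true ∧ g = F.el k}) := by
    rw [← Subgroup.closure_toSubmonoid_of_finite]; exact hg
  have c1 : ∀ k, F.el k * W.v1 = W.v1 * F.el (m1 k) := fun k => by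
    rw [← W.act1, cj, inv_eq_of_mul_eq_one_right W.sq1, ← mul_assoc, ← mul_assoc, W.sq1, one_mul]
  have c2 : ∀ k, F.el k * W.v2 = W.v2 * F.el (m2 k) := fun k => by
    rw [← W.act2, cj, inv_eq_of_mul_eq_one_right W.sq2, ← mul_assoc, ← mul_assoc, W.sq2, one_mul]
  have c21 : W.v2 * W.v1 = W.v1 * W.v2 * F.el (bAdd (m3 W.e) W.e) := by
    have h1 : W.v1 * W.v2 * (W.v1 * W.v2) = F.el (bAdd (m3 W.e) W.e) := by
      rw [← F.el_mul, ← W.act3, W.prod, cj, inv_eq_of_mul_eq_one_right W.sq3]; simp only [mul_assoc]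
    have h2 : bAdd (m3 W.e) W.e = c0 := by rcases W.he with e | e <;> rw [e] <;> decide
    rw [h2, F.el0] at h1 ⊢
    rw [mul_one, eq_inv_of_mul_eq_one_right h1, mul_inv_rev, inv_eq_of_mul_eq_one_right W.sq1,
      inv_eq_of_mul_eq_one_right W.sq2]
  induction hg' using Submonoid.closure_induction_left with
  | one => exact ⟨false, false, c0, rfl, by simp [E, F.el0]⟩
  | mul_left x hx y hy ih =>
    obtain ⟨b, c, k, hk, rfl⟩ := ih (by
      have : y ∈ W.M.toSubmonoid := by rw [M, Subgroup.closure_toSubmonoid_of_finite]; exact hy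
      exact this)
    have kj : ∀ j k : B4, inJ j = true → inJ k = true → inJ (bAdd j k) = true ∧
        inJ (bAdd (m1 j) k) = true ∧ inJ (bAdd (m2 j) k) = true ∧ inJ (bAdd (m2 (m1 j)) k) = true := by
      decide +kernel
    rcases hx with (rfl | rfl) | ⟨j, hj, rfl⟩
    · refine ⟨!b, c, k, hk, ?_⟩
      cases b <;> simp [E, ← mul_assoc, W.sq1]
    · have hz : bAdd (m3 W.e) W.e = c0 := by rcases W.he with e | e <;> rw [e] <;> decide
      rw [hz, F.el0, mul_one] at c21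
      refine ⟨b, !c, k, hk, ?_⟩
      cases b <;> cases c <;> simp [E, ← mul_assoc, W.sq2, c21] <;> rw [mul_assoc W.v1, W.sq2, mul_one]
    · refine ⟨b, c, bAdd ((if c then m2 else id) ((if b then m1 else id) j)) k, ?_, ?_⟩
      · obtain ⟨k1, k2, k3, k4⟩ := kj j k hj hk
        cases b <;> cases c <;> assumption
      · have c1' : ∀ (k : B4) (y : G), F.el k * (W.v1 * y) = W.v1 * (F.el (m1 k) * y) := fun k y => by
          rw [← mul_assoc, c1, mul_assoc]
        have c2' : ∀ (k : B4) (y : G), F.el k * (W.v2 * y) = W.v2 * (F.el (m2 k) * y) := fun k y => by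
          rw [← mul_assoc, c2, mul_assoc]
        cases b <;> cases c <;> simp [E, c1', c2', F.el_mul]

theorem x_not_M : F.x ∉ W.M := by
  intro hx
  obtain ⟨b, c, k, hk, e⟩ := W.M_form hx
  have hA : (if b then W.v1 else 1) * (if c then W.v2 else 1) ∈ A := by
    rw [E, ← mul_assoc] at e
    rw [show (if b then W.v1 else 1) * (if c then W.v2 else 1) = F.x * (F.el k)⁻¹ by rw [e, mul_inv_cancel_right]]
    exact mul_mem F.hxA (inv_mem (F.el_mem k))
  cases b <;> cases c <;> simp at hA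
  · rw [E] at e; simp [← F.elx] at e
    have := F.el_inj e
    rw [← this] at hk
    exact absurd hk (by decide)
  · exact W.out2 hA
  · exact W.out1 hA
  · rw [W.prod, mul_mem_cancel_right (F.el_mem W.e)] at hA
    exact W.out3 hA

theorem invol_M {w : G} (hw : w ∈ (S : Subgroup G)) (h2 : w * w = 1) (hA : w ∉ A) : w ∈ W.M := by
  have key : ∀ (v : G) (hv : v ∈ (S : Subgroup G)), v * v = 1 → v ∈ W.M → ∀ m : B4 → B4,
      (∀ k, cj v (F.el k) = F.el (m k)) → (∀ k, m k = k → inJ k = true) →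
      h.π ⟨v, h.SN hv⟩ = h.π ⟨w, h.SN hw⟩ → w ∈ W.M := by
    intro v hv hv2 hvM m hm hfix e
    have hd : v⁻¹ * w ∈ A := by
      refine h.S_ker (mul_mem (inv_mem hv) hw) ?_
      rw [show (⟨v⁻¹ * w, h.SN (mul_mem (inv_mem hv) hw)⟩ : ↥(normalizer (A : Set G))) =
        ⟨v, h.SN hv⟩⁻¹ * ⟨w, h.SN hw⟩ from rfl, map_mul, map_inv, e, inv_mul_cancel]
    obtain ⟨k, hk⟩ := F.el_surj hd
    have hwe : w = v * F.el k := by rw [hk, mul_inv_cancel_left]
    have h1 : v * F.el k * v * F.el k = 1 := by rw [hwe] at h2; simpa [mul_assoc] using h2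
    have hc : cj v (F.el k) = F.el k := by
      rw [cj, inv_eq_of_mul_eq_one_right hv2, eq_inv_of_mul_eq_one_left h1, inv_eq_of_mul_eq_one_left (h.sq (F.el_mem k))]
    rw [hm] at hc
    rw [hwe]; exact mul_mem hvM (W.el_M (hfix k (F.el_inj hc)))
  rcases F.S_act hw hA with ⟨e, -⟩ | ⟨e, -⟩ | ⟨e, -⟩
  · exact key _ W.S1 W.sq1 W.v1_M m1 W.act1 (by decide +kernel) (W.pi1.trans e.symm)
  · exact key _ W.S2 W.sq2 W.v2_M m2 W.act2 (by decide +kernel) (W.pi2.trans e.symm)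
  · exact key _ W.S3 W.sq3 W.v3_M m3 W.act3 (by decide +kernel) (W.pi3.trans e.symm)

theorem M_cover {s : G} (hs : s ∈ (S : Subgroup G)) : s ∈ W.M ∨ s * F.x ∈ W.M := by
  have hA : ∀ a ∈ A, a ∈ W.M ∨ a * F.x ∈ W.M := by
    intro a ha
    obtain ⟨k, rfl⟩ := F.el_surj ha
    by_cases hk : inJ k = true
    · exact Or.inl (W.el_M hk)
    · refine Or.inr ?_
      rw [← F.elx, F.el_mul]
      exact W.el_M (add_facts.2.2.2.2.2 k hk)
  by_cases hsA : s ∈ A
  · exact hA s hsA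
  have key : ∀ (v : G) (hv : v ∈ (S : Subgroup G)), v ∈ W.M → h.π ⟨v, h.SN hv⟩ = h.π ⟨s, h.SN hs⟩ →
      s ∈ W.M ∨ s * F.x ∈ W.M := by
    intro v hv hvM e
    have hd : v⁻¹ * s ∈ A := by
      refine h.S_ker (mul_mem (inv_mem hv) hs) ?_
      rw [show (⟨v⁻¹ * s, h.SN (mul_mem (inv_mem hv) hs)⟩ : ↥(normalizer (A : Set G))) =
        ⟨v, h.SN hv⟩⁻¹ * ⟨s, h.SN hs⟩ from rfl, map_mul, map_inv, e, inv_mul_cancel]
    refine (hA _ hd).imp (fun h1 => ?_) (fun h1 => ?_) <;> have h2 := mul_mem hvM h1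
    · rwa [mul_inv_cancel_left] at h2
    · rwa [← mul_assoc, mul_inv_cancel_left] at h2
  rcases F.S_act hs hsA with ⟨e, -⟩ | ⟨e, -⟩ | ⟨e, -⟩
  exacts [key _ W.S1 W.v1_M (W.pi1.trans e.symm), key _ W.S2 W.v2_M (W.pi2.trans e.symm),
    key _ W.S3 W.v3_M (W.pi3.trans e.symm)]

theorem relIndex_M : W.M.relIndex (S : Subgroup G) = 2 := by
  rw [relIndex, index_eq_two_iff]
  refine ⟨⟨F.x, h.AS F.hxA⟩, fun b => ?_⟩
  rcases W.M_cover b.2 with e | e
  · refine Or.inr ⟨e, fun e' => W.x_not_M ?_⟩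
    have := mul_mem (inv_mem e) (show (b : G) * F.x ∈ W.M from e')
    rwa [inv_mul_cancel_left] at this
  · refine Or.inl ⟨e, fun e' => W.x_not_M ?_⟩
    have := mul_mem (inv_mem (show (b : G) ∈ W.M from e')) e
    rwa [inv_mul_cancel_left] at this

end Tops

/-- The centralizer of `z` is its odd core times its part in the normalizer of `A`. -/
theorem Frame.centre {F : Frame h} (hF : F.Good) {c : G} (hc : c ∈ centralizer ({F.z} : Set G)) :
    ∃ k ∈ core (centralizer ({F.z} : Set G)), k⁻¹ * c ∈ normalizer (A : Set G) := by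
  classical
  haveI : Fact (Nat.Prime 2) := ⟨Nat.prime_two⟩
  obtain ⟨W⟩ := Frame.exists_tops hF
  set C := centralizer ({F.z} : Set G) with hC
  have hSC : (S : Subgroup G) ≤ C := fun s hs =>
    mem_centralizer_singleton_iff.2 (mul_inv_eq_iff_eq_mul.1 (F.z_cent s hs))
  have hAC : A ≤ C := h.AS.trans hSC
  let P : Sylow 2 ↥C := S.subtype hSC
  have hxC : F.x ∈ C := hAC F.hxA
  have hxo : orderOf F.x = 2 := Cfsg.Lib.InvolCalc.order_two_of_mul_self (h.sq F.hxA) (fun e => by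
    rw [← F.elx] at e; exact absurd (F.el_eq_one e) (by decide))
  obtain ⟨X0, hX0n, hX0i, hxX0, hX0⟩ := transfer_split P (W.M.subgroupOf C) (comap_mono W.M_le)
    (by rw [show (P : Subgroup ↥C) = (S : Subgroup G).subgroupOf C from rfl, relIndex_subgroupOf hSC]
        exact W.relIndex_M)
    (u := ⟨F.x, hxC⟩) (by rw [Subgroup.orderOf_mk, hxo]) (fun g hg => by
      have hgM : (g : G)⁻¹ * F.x * g ∈ W.M := hg
      have hA := (Frame.strong hF).2 F.x F.hxA (g : G)⁻¹ (by rw [inv_inv]; exact W.M_le hgM)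
      rw [inv_inv] at hA
      obtain ⟨k, hk⟩ := F.el_surj hA
      have hkJ : inJ k = true := by
        by_contra hk'
        have : inJ (bAdd k cx) = true := add_facts.2.2.2.2.2 k hk'
        have hx : F.x ∈ W.M := by
          have h1 := mul_mem (inv_mem (W.el_M this)) (show F.el k ∈ W.M from hk ▸ hgM)
          rwa [inv_eq_of_mul_eq_one_right (h.sq (F.el_mem _)), F.el_mul,
            add_facts.2.2.2.1, F.elx] at h1
        exact W.x_not_M hx
      have := Frame.inJ_closed hF g.2 (l := cx) hkJ (by rw [hk, F.elx]; simp only [cj]; group)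
      exact absurd this (by decide))
  -- membership in the subgroup of index two
  have hX0odd : ∀ g : ↥C, Odd (orderOf g) → g ∈ X0 := by
    intro g ⟨j, hj⟩
    have h1 : g = g⁻¹ ^ (2 * j) := by
      refine mul_right_cancel (b := g ^ (2 * j)) ?_
      rw [← pow_succ', ← hj, pow_orderOf_eq_one, inv_pow, inv_mul_cancel]
    rw [h1, pow_mul]
    exact pow_mem (Subgroup.sq_mem_of_index_two hX0i _) j
  have hMX : ∀ m : ↥C, (m : G) ∈ W.M → m ∈ X0 := by
    have hmem : ∀ (a : G) (ha : a ∈ (S : Subgroup G)), a * a = 1 →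
        (a ∉ A ∨ ∃ k, inJ k = true ∧ a = F.el k) → (⟨a, hSC ha⟩ : ↥C) ∈ X0 := by
      intro a ha h2 hor
      refine hX0 _ (Subtype.ext h2) fun g hg => ?_
      have hgS : (g : G)⁻¹ * a * g ∈ (S : Subgroup G) := hg
      show (g : G)⁻¹ * a * g ∈ W.M
      rcases hor with hA | ⟨k, hk, rfl⟩
      · refine W.invol_M hgS ?_ (fun hin => hA ?_)
        · calc (g : G)⁻¹ * a * g * ((g : G)⁻¹ * a * g) = (g : G)⁻¹ * (a * a) * g := by group
            _ = 1 := by rw [h2]; group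
        · have := (Frame.strong hF).2 _ hin g (by rwa [show (g : G) * ((g : G)⁻¹ * a * g) * (g : G)⁻¹ = a by group])
          rwa [show (g : G) * ((g : G)⁻¹ * a * g) * (g : G)⁻¹ = a by group] at this
      · have hA := (Frame.strong hF).2 _ (F.el_mem k) (g : G)⁻¹ (by rw [inv_inv]; exact hgS)
        rw [inv_inv] at hA
        obtain ⟨l, hl⟩ := F.el_surj hA
        rw [← hl]
        exact W.el_M (Frame.inJ_closed hF (inv_mem g.2) hk (by rw [hl, cj, inv_inv]))
    intro m hm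
    have hle : W.M ≤ X0.map C.subtype := by
      rw [Tops.M, closure_le]
      rintro g ((rfl | rfl) | ⟨k, hk, rfl⟩)
      · exact ⟨_, hmem _ W.S1 W.sq1 (Or.inl W.out1), rfl⟩
      · exact ⟨_, hmem _ W.S2 W.sq2 (Or.inl W.out2), rfl⟩
      · exact ⟨_, hmem _ (h.AS (F.el_mem k)) (h.sq (F.el_mem k)) (Or.inr ⟨k, hk, rfl⟩), rfl⟩
    obtain ⟨m', hm', e⟩ := hle hm
    exact Subtype.ext e ▸ hm'
  have hXM : ∀ s : ↥C, (s : G) ∈ (S : Subgroup G) → s ∈ X0 → (s : G) ∈ W.M := by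
    intro s hs hsX
    rcases W.M_cover hs with e | e
    · exact e
    · have := mul_mem (inv_mem hsX) (hMX (s * ⟨F.x, hxC⟩) e)
      rw [inv_mul_cancel_left] at this
      exact absurd this hxX0
  -- the quotient
  have hzC : F.z ∈ C := hAC F.hzA
  set zc : ↥C := ⟨F.z, hzC⟩
  have hzc : ∀ g : ↥C, zc * g = g * zc := fun g =>
    Subtype.ext (mem_centralizer_singleton_iff.1 g.2).symm
  haveI hZn : (zpowers zc).Normal := ⟨fun a ha g => by
    obtain ⟨i, rfl⟩ := ha
    show g * zc ^ i * g⁻¹ ∈ _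
    rw [((show Commute zc g from hzc g).zpow_left i).symm.eq, mul_inv_cancel_right]
    exact zpow_mem (mem_zpowers zc) i⟩
  set N : Subgroup ↥C := Cfsg.oddCore ↥C ⊔ zpowers zc with hN
  haveI hNn : N.Normal := inferInstance
  have hzo : orderOf zc = 2 := by
    rw [Subgroup.orderOf_mk]; exact Cfsg.Lib.InvolCalc.order_two_of_mul_self (h.sq F.hzA) F.z_ne
  have hzz : ∀ u ∈ zpowers zc, u = 1 ∨ u = zc := by
    intro u hu
    obtain ⟨i, hi, rfl⟩ := Finset.mem_image.1 (mem_zpowers_iff_mem_range_orderOf.1 hu)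
    rw [hzo, Finset.mem_range] at hi
    interval_cases i <;> simp
  have hNX : N ≤ X0 := by
    refine sup_le (fun g hg => hX0odd g ?_) (zpowers_le.2 (hMX zc ?_))
    · have := orderOf_dvd_natCard (⟨g, hg⟩ : Cfsg.oddCore ↥C)
      rw [Subgroup.orderOf_mk] at this
      exact Odd.of_dvd_nat (odd_oddCore _) this
    · show F.z ∈ W.M
      rw [← F.elz]; exact W.el_M (by decide)
  have hkerS : ∀ s : ↥C, (s : G) ∈ (S : Subgroup G) → s ∈ N → (s : G) = 1 ∨ (s : G) = F.z := by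
    intro s hs hsN
    rw [← SetLike.mem_coe, hN, mul_normal] at hsN
    obtain ⟨k, hk, u, hu, rfl⟩ := hsN
    have hk1 : k = 1 := by
      have hkS : (k : G) ∈ (S : Subgroup G) := by
        rcases hzz u hu with rfl | rfl
        · simpa using hs
        · have h1 := mul_mem hs ((S : Subgroup G).inv_mem (h.AS F.hzA))
          rwa [Subgroup.coe_mul, show ((zc : ↥C) : G) = F.z from rfl, mul_inv_cancel_right] at h1
      obtain ⟨n, hn⟩ := S.isPGroup' ⟨(k : G), hkS⟩
      refine orderOf_eq_one_iff.1 (Nat.eq_one_of_dvd_coprimes (a := 2 ^ n) (Nat.Coprime.pow_left n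
        (Nat.coprime_two_left.2 (odd_oddCore ↥C))) (orderOf_dvd_of_pow_eq_one ?_) ?_)
      · exact Subtype.ext (by simpa using congrArg Subtype.val hn)
      · have := orderOf_dvd_natCard (⟨k, hk⟩ : Cfsg.oddCore ↥C)
        rwa [Subgroup.orderOf_mk] at this
    subst hk1
    rcases hzz u hu with rfl | rfl <;> simp [zc]
  let φ : ↥C →* ↥C ⧸ N := QuotientGroup.mk' N
  have hφ : Function.Surjective φ := QuotientGroup.mk'_surjective N
  have hφN : ∀ {a b : ↥C}, φ a = φ b → a⁻¹ * b ∈ N := fun e => QuotientGroup.eq.1 e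
  let v1 : ↥C := ⟨W.v1, hSC W.S1⟩
  let v2 : ↥C := ⟨W.v2, hSC W.S2⟩
  let v3 : ↥C := ⟨W.v3, hSC W.S3⟩
  let x : ↥C := ⟨F.x, hxC⟩
  let el : B4 → ↥C := fun k => ⟨F.el k, hAC (F.el_mem k)⟩
  let t : ↥C := ⟨(F.t : G), mem_centralizer_singleton_iff.2 (mul_inv_eq_iff_eq_mul.1 F.tz)⟩
  let f : B4 → ↥C ⧸ N := fun k => φ (el k)
  have f_mul : ∀ k l, f k * f l = f (bAdd k l) := fun k l => by
    simp only [f, ← map_mul]; exact congrArg φ (Subtype.ext (F.el_mul k l))
  have f0 : f c0 = 1 := by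
    have : el c0 = 1 := Subtype.ext F.el0
    simp [f, this]
  have fz : f cz = 1 := (QuotientGroup.eq_one_iff _).2 (mem_sup_right (by
    rw [show el cz = zc from Subtype.ext F.elz]; exact mem_zpowers zc))
  have f_eq : ∀ k l, f k = f l ↔ (bAdd k l = c0 ∨ bAdd k l = cz) := by
    intro k l
    constructor
    · intro e
      have := hkerS _ (mul_mem ((S : Subgroup G).inv_mem (h.AS (F.el_mem k))) (h.AS (F.el_mem l))) (hφN e)
      rw [Subgroup.coe_mul, Subgroup.coe_inv, inv_eq_of_mul_eq_one_right (h.sq (F.el_mem k))] at this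
      rcases this with e | e
      · exact Or.inl (F.el_inj ((F.el_mul k l).symm.trans (e.trans F.el0.symm)))
      · exact Or.inr (F.el_inj ((F.el_mul k l).symm.trans (e.trans F.elz.symm)))
    · intro e
      have : f (bAdd k l) = 1 := by rcases e with e | e <;> rw [e] <;> assumption
      rw [← f_mul] at this
      rw [eq_inv_of_mul_eq_one_left this]
      refine inv_eq_of_mul_eq_one_right ?_
      rw [f_mul, add_facts.2.1, f0]
  have f_cj : ∀ (g : ↥C) (m : B4 → B4), (∀ k, cj (g : G) (F.el k) = F.el (m k)) → ∀ k, cj (φ g) (f k) = f (m k) :=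
    fun g m hm k => by
      simp only [f, cj, ← map_inv, ← map_mul]; exact congrArg φ (Subtype.ext (hm k))
  have u1sq : φ v1 * φ v1 = 1 := by rw [← map_mul, show v1 * v1 = 1 from Subtype.ext W.sq1, map_one]
  have u2sq : φ v2 * φ v2 = 1 := by rw [← map_mul, show v2 * v2 = 1 from Subtype.ext W.sq2, map_one]
  have u3sq : φ v3 * φ v3 = 1 := by rw [← map_mul, show v3 * v3 = 1 from Subtype.ext W.sq3, map_one]
  have u12 : φ v1 * φ v2 = φ v3 := by
    rw [← map_mul, show v1 * v2 = v3 * el W.e from Subtype.ext W.prod, map_mul,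
      show φ (el W.e) = 1 by rcases W.he with e | e <;> rw [e] <;> assumption, mul_one]
  have i1 := inv_eq_of_mul_eq_one_right u1sq
  have i2 := inv_eq_of_mul_eq_one_right u2sq
  have i3 := inv_eq_of_mul_eq_one_right u3sq
  have u21 : φ v2 * φ v1 = φ v3 := by rw [← i3, ← u12, mul_inv_rev, i1, i2]
  have u13 : φ v1 * φ v3 = φ v2 := by rw [← u12, ← mul_assoc, u1sq, one_mul]
  have u31 : φ v3 * φ v1 = φ v2 := by rw [← u21, mul_assoc, u1sq, mul_one]
  have u32 : φ v3 * φ v2 = φ v1 := by rw [← u12, mul_assoc, u2sq, mul_one]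
  have u23 : φ v2 * φ v3 = φ v1 := by rw [← u21, ← mul_assoc, u2sq, one_mul]
  let Q : Subgroup (↥C ⧸ N) :=
    { carrier := {q | q = 1 ∨ q = φ v1 ∨ q = φ v2 ∨ q = φ v3}
      one_mem' := Or.inl rfl
      mul_mem' := by
        intro a b ha hb
        simp only [Set.mem_setOf_eq] at ha hb ⊢
        rcases ha with rfl | rfl | rfl | rfl <;> rcases hb with rfl | rfl | rfl | rfl <;>
          simp [u1sq, u2sq, u3sq, u12, u21, u13, u31, u23, u32]
      inv_mem' := by
        intro a ha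
        simp only [Set.mem_setOf_eq] at ha ⊢
        rcases ha with rfl | rfl | rfl | rfl <;> simp [i1, i2, i3] }
  have hQ1 : φ v1 ∈ Q := Or.inr (Or.inl rfl)
  have hQ2 : φ v2 ∈ Q := Or.inr (Or.inr (Or.inl rfl))
  have hQ3 : φ v3 ∈ Q := Or.inr (Or.inr (Or.inr rfl))
  let Jc : Subgroup ↥C :=
    { carrier := {g | ∃ k, inJ k = true ∧ g = el k}
      one_mem' := ⟨c0, by decide, Subtype.ext F.el0.symm⟩
      mul_mem' := by
        rintro _ _ ⟨k, hk, rfl⟩ ⟨l, hl, rfl⟩
        exact ⟨bAdd k l, add_facts.2.2.2.2.1 k l hk hl, Subtype.ext (F.el_mul k l)⟩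
      inv_mem' := by
        rintro _ ⟨k, hk, rfl⟩
        exact ⟨k, hk, Subtype.ext (inv_eq_of_mul_eq_one_right (h.sq (F.el_mem k)))⟩ }
  have hAcl : Cfsg.IsStronglyClosed (A.subgroupOf C) (P : Subgroup ↥C) :=
    ⟨comap_mono h.AS, fun a ha g hg => (Frame.strong hF).2 _ ha g hg⟩
  have hJcl : Cfsg.IsStronglyClosed Jc (P : Subgroup ↥C) := by
    refine ⟨?_, ?_⟩
    · rintro _ ⟨k, -, rfl⟩; exact h.AS (F.el_mem k)
    · rintro _ ⟨k, hk, rfl⟩ g hg
      obtain ⟨l, hl⟩ := F.el_surj ((Frame.strong hF).2 _ (F.el_mem k) g hg)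
      exact ⟨l, Frame.inJ_closed hF g.2 hk hl.symm, Subtype.ext hl.symm⟩
  have hJbar := Cfsg.Lib.InvolCalc.stronglyClosed_quotient P hJcl N
  have hAbar := Cfsg.Lib.InvolCalc.stronglyClosed_quotient P hAcl N
  let T : Sylow 2 (↥C ⧸ N) := P.mapSurjective hφ
  let V : Subgroup (↥C ⧸ N) := (T : Subgroup (↥C ⧸ N)) ⊓ X0.map φ
  have hVM : ∀ v ∈ V, ∃ s : ↥C, (s : G) ∈ W.M ∧ φ s = v := by
    rintro v ⟨⟨s, hs, rfl⟩, ⟨g, hg, e⟩⟩
    refine ⟨s, hXM s hs ?_, rfl⟩
    have := mul_mem hg (hNX (hφN e))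
    rwa [mul_inv_cancel_left] at this
  have hMV : ∀ s : ↥C, (s : G) ∈ W.M → φ s ∈ V := fun s hs =>
    ⟨⟨s, W.M_le hs, rfl⟩, ⟨s, hMX s hs, rfl⟩⟩
  have hfJ : ∀ k, inJ k = true → f k ∈ Jc.map φ := fun k hk => ⟨el k, ⟨k, hk, rfl⟩, rfl⟩
  have hJf : ∀ j ∈ Jc.map φ, ∃ k, inJ k = true ∧ j = f k := by
    rintro _ ⟨_, ⟨k, hk, rfl⟩, rfl⟩; exact ⟨k, hk, rfl⟩
  have hdec : ∀ v ∈ V, ∃ q ∈ Q, ∃ j ∈ Jc.map φ, v = q * j := by
    intro v hv
    obtain ⟨s, hs, rfl⟩ := hVM v hv
    obtain ⟨b, c, k, hk, e⟩ := W.M_form hs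
    have : s = (if b then v1 else 1) * ((if c then v2 else 1) * el k) := by
      refine Subtype.ext (e.trans ?_)
      cases b <;> cases c <;> simp [Tops.E, v1, v2, el]
    refine ⟨φ ((if b then v1 else 1) * (if c then v2 else 1)), ?_, f k, hfJ k hk, ?_⟩
    · rw [map_mul]
      refine Q.mul_mem ?_ ?_
      · cases b
        · simp
        · exact hQ1
      · cases c
        · simp
        · exact hQ2
    · rw [this, ← mul_assoc, map_mul]
  have hJQ : ∀ q ∈ Q, ∀ k, inJ k = true → cj q (f k) = f k := by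
    intro q hq k hk
    have key : ∀ k : B4, inJ k = true → (bAdd (m1 k) k = c0 ∨ bAdd (m1 k) k = cz) ∧
        (bAdd (m2 k) k = c0 ∨ bAdd (m2 k) k = cz) ∧ (bAdd (m3 k) k = c0 ∨ bAdd (m3 k) k = cz) := by decide +kernel
    obtain ⟨k1, k2, k3⟩ := key k hk
    rcases hq with rfl | rfl | rfl | rfl
    · simp [cj]
    · rw [f_cj v1 m1 W.act1]; exact (f_eq _ _).2 k1
    · rw [f_cj v2 m2 W.act2]; exact (f_eq _ _).2 k2
    · rw [f_cj v3 m3 W.act3]; exact (f_eq _ _).2 k3
  have hVel : Cfsg.IsElementaryAbelian 2 V := by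
    have hq2 : ∀ q ∈ Q, q * q = 1 := by rintro q (rfl | rfl | rfl | rfl) <;> simp [u1sq, u2sq, u3sq]
    have hqc : ∀ a ∈ Q, ∀ b ∈ Q, a * b = b * a := by
      rintro a (rfl | rfl | rfl | rfl) b (rfl | rfl | rfl | rfl) <;>
        simp [u12, u21, u13, u31, u23, u32]
    have hjc : ∀ q ∈ Q, ∀ j ∈ Jc.map φ, q * j = j * q := fun q hq j hj => by
      obtain ⟨k, hk, rfl⟩ := hJf j hj; exact mul_inv_eq_iff_eq_mul.1 (hJQ q hq k hk)
    have hjj : ∀ a ∈ Jc.map φ, ∀ b ∈ Jc.map φ, a * b = b * a := fun a ha b hb => by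
      obtain ⟨k, hk, rfl⟩ := hJf a ha; obtain ⟨l, hl, rfl⟩ := hJf b hb
      rw [f_mul, f_mul, add_facts.1 k l]
    have hcomm : ∀ a ∈ V, ∀ b ∈ V, a * b = b * a := by
      intro a ha b hb
      obtain ⟨q, hq, j, hj, rfl⟩ := hdec a ha
      obtain ⟨q', hq', j', hj', rfl⟩ := hdec b hb
      exact Commute.mul_left ((show Commute q q' from hqc q hq q' hq').mul_right (hjc q hq j' hj'))
        ((show Commute j q' from (hjc q' hq' j hj).symm).mul_right (hjj j hj j' hj'))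
    refine ⟨⟨⟨fun a b => Subtype.ext (hcomm a a.2 b b.2)⟩⟩, fun a ha => ?_⟩
    obtain ⟨q, hq, j, hj, rfl⟩ := hdec a ha
    obtain ⟨k, hk, rfl⟩ := hJf j hj
    rw [(show Commute q (f k) from hjc q hq _ (hfJ k hk)).mul_pow, pow_two, pow_two, hq2 q hq, f_mul,
      add_facts.2.1, f0, one_mul]
  have hxel : x = el cx := Subtype.ext F.elx.symm
  have hd : ∀ (v : ↥C) (m : B4 → B4), φ v * φ v = 1 → (∀ k, cj (v : G) (F.el k) = F.el (m k)) →
      cj (φ x) (φ v) * φ v = f (bAdd cx (m cx)) := by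
    intro v m hv hm
    rw [← f_mul, ← f_cj v m hm, hxel, cj, cj]
    have : (φ (el cx))⁻¹ = f cx := inv_eq_of_mul_eq_one_right (by
      show f cx * f cx = 1; rw [f_mul, show bAdd cx cx = c0 by decide, f0])
    rw [this, inv_eq_of_mul_eq_one_right hv]
    simp only [f, mul_assoc]
  have d1 := hd v1 m1 u1sq W.act1
  have d2 := hd v2 m2 u2sq W.act2
  have d3 := hd v3 m3 u3sq W.act3
  have hne : ∀ (v : ↥C), (v : G) ∈ (S : Subgroup G) → (v : G) ∉ A → ∀ k, φ v ≠ f k := by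
    intro v hv hvA k e
    have := hkerS _ (mul_mem ((S : Subgroup G).inv_mem hv) (h.AS (F.el_mem k))) (hφN e)
    rw [Subgroup.coe_mul, Subgroup.coe_inv] at this
    rcases this with e | e <;> refine hvA ?_ <;> rw [inv_mul_eq_iff_eq_mul] at e
    · rw [mul_one] at e; rw [← e]; exact F.el_mem k
    · rw [eq_mul_inv_of_mul_eq e.symm]; exact mul_mem (F.el_mem k) (inv_mem F.hzA)
  have hY : ∀ N' : Subgroup (↥C ⧸ N), N'.Normal → Odd (Nat.card N') → N' = ⊥ := by
    intro N' hN' ho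
    set L := N'.comap φ with hL
    have hNL : N ≤ L := fun g hg => by
      show φ g ∈ N'
      rw [show φ g = 1 from (QuotientGroup.eq_one_iff g).2 hg]; exact one_mem _
    have hZL : zpowers zc ≤ L := le_sup_right.trans hNL
    have hr : Odd ((zpowers zc).relIndex L) := by
      rw [← relIndex_mul_relIndex _ _ _ (le_sup_right : zpowers zc ≤ N) hNL]
      refine Odd.mul ?_ ?_
      · rw [sup_comm, relIndex_sup_left]
        exact Odd.of_dvd_nat (odd_oddCore _) (Subgroup.index_dvd_card _)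
      · have e : N.relIndex L = Nat.card N' := by
          refine (congrArg (fun B : Subgroup ↥C => B.relIndex L)
            (show N = (⊥ : Subgroup (↥C ⧸ N)).comap φ from (QuotientGroup.ker_mk' N).symm)).trans ?_
          show ((⊥ : Subgroup (↥C ⧸ N)).comap φ).relIndex L = _
          rw [relIndex_comap, relIndex_bot_left, hL, map_comap_eq_self_of_surjective hφ]
        rw [e]; exact ho
    rw [eq_bot_iff]
    intro y hy
    obtain ⟨g, rfl⟩ := hφ y
    obtain ⟨k, hk, hkg⟩ := split_central hZL (fun u hu c _ => by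
      rcases hzz u hu with rfl | rfl
      · simp
      · exact hzc c) (IsPGroup.of_card (n := 1) (by rw [Nat.card_zpowers, hzo, pow_one])) hr (show g ∈ L from hy)
    haveI : ((Cfsg.oddCore ↥L).map L.subtype).Normal := inferInstance
    have hkN : k ∈ N := mem_sup_left (le_oddCore (N := (Cfsg.oddCore ↥L).map L.subtype) (odd_core L) hk)
    refine mem_bot.2 ((QuotientGroup.eq_one_iff g).2 ?_)
    have := mul_mem hkN (mem_sup_right (S := Cfsg.oddCore ↥C) hkg : k⁻¹ * g ∈ N)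
    rwa [mul_inv_cancel_left] at this
  let L : Local (↥C ⧸ N) :=
    { T := T, X := X0.map φ, V := V, J := Jc.map φ, Q := Q, x := φ x, t := φ t, p := f cp
      hY := hY
      hXn := Normal.map hX0n φ hφ
      hXi := fun y => by
        obtain ⟨g, rfl⟩ := hφ y
        by_cases hg : g ∈ X0
        · exact Or.inl ⟨g, hg, rfl⟩
        · refine Or.inr ⟨g * x, ?_, map_mul φ g x⟩
          exact (Subgroup.mul_mem_iff_of_index_two hX0i).2 ⟨fun e => absurd e hg, fun e => absurd e hxX0⟩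
      hVX := rfl
      hV := hVel
      hJ := hJbar
      hJV := fun j hj => by
        obtain ⟨k, hk, rfl⟩ := hJf j hj; exact hMV _ (W.el_M hk)
      hQV := fun q hq => by
        rcases hq with rfl | rfl | rfl | rfl
        exacts [one_mem _, hMV v1 W.v1_M, hMV v2 W.v2_M, hMV v3 W.v3_M]
      dec := hdec
      hxT := ⟨x, h.AS F.hxA, rfl⟩
      hxx := by rw [← map_mul, show x * x = 1 from Subtype.ext (h.sq F.hxA), map_one]
      hxJ := fun j hj => by
        obtain ⟨k, hk, rfl⟩ := hJf j hj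
        rw [f_cj x id fun k => by
          show F.x * F.el k * F.x⁻¹ = F.el k
          rw [h.comm F.hxA (F.el_mem k), mul_inv_cancel_right]]
        rfl
      delta := fun q hq => by
        rcases hq with rfl | rfl | rfl | rfl
        · simp [cj]
        · rw [d1]; exact hfJ _ (by decide)
        · rw [d2]; exact hfJ _ (by decide)
        · rw [d3]; exact hfJ _ (by decide)
      delta_inj := fun q hq hin => by
        have hmem : ∀ k, f k ∈ Q → f k = 1 := fun k hk => by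
          rcases hk with e | e | e | e
          · exact e
          · exact absurd e.symm (hne v1 W.S1 W.out1 k)
          · exact absurd e.symm (hne v2 W.S2 W.out2 k)
          · exact absurd e.symm (hne v3 W.S3 W.out3 k)
        have hne1 : ∀ k, k ≠ c0 → k ≠ cz → f k ≠ 1 := fun k h1 h2 e => by
          rw [← f0, f_eq, add_facts.2.2.1] at e
          exact e.elim h1 h2
        rcases hq with rfl | rfl | rfl | rfl
        · rfl
        · exact absurd (hmem _ (d1 ▸ Q.mul_mem hin hQ1)) (hne1 _ (by decide) (by decide))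
        · exact absurd (hmem _ (d2 ▸ Q.mul_mem hin hQ2)) (hne1 _ (by decide) (by decide))
        · exact absurd (hmem _ (d3 ▸ Q.mul_mem hin hQ3)) (hne1 _ (by decide) (by decide))
      delta_surj := fun j hj => by
        obtain ⟨k, hk, rfl⟩ := hJf j hj
        have key : ∀ k : B4, inJ k = true → (bAdd k c0 = c0 ∨ bAdd k c0 = cz) ∨
            (bAdd (bAdd cx (m1 cx)) k = c0 ∨ bAdd (bAdd cx (m1 cx)) k = cz) ∨
            (bAdd (bAdd cx (m2 cx)) k = c0 ∨ bAdd (bAdd cx (m2 cx)) k = cz) ∨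
            (bAdd (bAdd cx (m3 cx)) k = c0 ∨ bAdd (bAdd cx (m3 cx)) k = cz) := by decide +kernel
        rcases key k hk with e | e | e | e
        · exact ⟨1, one_mem _, by rw [(f_eq _ _).2 e, f0]; simp [cj]⟩
        · exact ⟨φ v1, hQ1, d1.trans ((f_eq _ _).2 e)⟩
        · exact ⟨φ v2, hQ2, d2.trans ((f_eq _ _).2 e)⟩
        · exact ⟨φ v3, hQ3, d3.trans ((f_eq _ _).2 e)⟩
      htX := ⟨t, hX0odd t (by rw [Subgroup.orderOf_mk]; exact F.t_odd), rfl⟩
      htx := by simp only [cj, ← map_inv, ← map_mul]; exact congrArg φ (Subtype.ext F.tx)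
      tV := fun v hv => by
        obtain ⟨⟨s, hs, rfl⟩, hX⟩ := hv
        refine ⟨?_, (Normal.map hX0n φ hφ).conj_mem _ hX _⟩
        refine ⟨t * s * t⁻¹, F.tS _ hs, ?_⟩
        simp only [cj, map_mul, map_inv]
      tQ := fun q hq => by
        have ht : ∀ v w : ↥C, cj (F.t : G) v = (w : G) → cj (φ t) (φ v) = φ w := fun v w e => by
          simp only [cj, ← map_inv, ← map_mul]; exact congrArg φ (Subtype.ext e)
        rcases hq with rfl | rfl | rfl | rfl
        · simp [cj]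
        · rw [ht v1 v2 W.t1]; exact hQ2
        · rw [ht v2 v3 W.t2]; exact hQ3
        · rw [ht v3 v1 W.t3]; exact hQ1
      hp := hfJ cp (by decide)
      orbit := fun j hj hj1 => by
        obtain ⟨k, hk, rfl⟩ := hJf j hj
        have key : ∀ k : B4, inJ k = true → (bAdd k c0 = c0 ∨ bAdd k c0 = cz) ∨
            (bAdd k cp = c0 ∨ bAdd k cp = cz) ∨ (bAdd k (mt cp) = c0 ∨ bAdd k (mt cp) = cz) ∨
            (bAdd k (mt (mt cp)) = c0 ∨ bAdd k (mt (mt cp)) = cz) := by decide +kernel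
        have ht := f_cj t mt F.actt
        rcases key k hk with e | e | e | e
        · exact absurd ((f_eq _ _).2 e |>.trans f0) hj1
        · exact ⟨0, by rw [(f_eq _ _).2 e]; simp [cj]⟩
        · exact ⟨1, by rw [(f_eq _ _).2 e, pow_one, ht]⟩
        · exact ⟨2, by rw [(f_eq _ _).2 e, pow_two, ← cj_cj, ht, ht]⟩
      four := fun j hj k hk => by
        obtain ⟨a, ha, rfl⟩ := hJf j hj
        obtain ⟨b, hb, rfl⟩ := hJf k hk
        rw [← f0, f_mul]
        simp only [ne_eq, f_eq]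
        exact four_key a b ha hb }
  obtain ⟨hVn, hxg⟩ := L.main
  refine decomp_of_normal_mod (core_le C) hAC (odd_core C) (S.isPGroup'.to_le h.AS) (fun g hg => core_normalized hg) ?_ hc
  intro g hg a ha
  obtain ⟨k, rfl⟩ := F.el_surj ha
  set gc : ↥C := ⟨g, hg⟩
  have hT : cj (φ gc) (f k) ∈ (T : Subgroup (↥C ⧸ N)) := by
    have key : ∀ k : B4, inJ k = true ∨ (inJ (bAdd cx k) = true ∧ bAdd cx (bAdd cx k) = k) := by decide +kernel
    have hJ' : ∀ k, inJ k = true → cj (φ gc) (f k) ∈ (T : Subgroup (↥C ⧸ N)) := fun k hk =>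
      L.VT (hVn _ _ (L.hJV (hfJ k hk)))
    rcases key k with e | ⟨e, e'⟩
    · exact hJ' k e
    · rw [← e', ← f_mul, cj_mul', show f cx = φ x by simp only [f, hxel]]
      exact mul_mem (hxg (φ gc)) (hJ' _ e)
  obtain ⟨a', ha', e⟩ := hAbar.2 (f k) ⟨el k, F.el_mem k, rfl⟩ (φ gc) hT
  have hN' : a'⁻¹ * (gc * el k * gc⁻¹) ∈ N := hφN (e.trans (by simp only [cj, f, map_mul, map_inv]))
  have hle : N.map C.subtype ≤ A ⊔ core C := by
    rw [hN, Subgroup.map_sup]
    refine sup_le le_sup_right (le_sup_of_le_left ?_)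
    rw [MonoidHom.map_zpowers]
    exact zpowers_le.2 F.hzA
  have := mul_mem (mem_sup_left (T := core C) (show (a' : G) ∈ A from ha')) (hle ⟨_, hN', rfl⟩)
  simp only [Subgroup.coe_subtype, Subgroup.coe_mul, Subgroup.coe_inv, mul_inv_cancel_left] at this
  exact this

end Cfsg.Lib.AltEightType
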