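import Cfsg.Agent.AltEightType.Setting

/-! Coordinates in the subgroup of order sixteen and the two orbits of its automizer. -/

set_option autoImplicit false
set_option linter.style.haveILetI false
set_option linter.unusedSectionVars false

namespace Cfsg.Lib.AltEightType

open Subgroup

variable {G : Type*} [Group G] [Finite G] {S : Sylow 2 G} {A : Subgroup G} {h : Ctx S A}

theorem cj_one (g : G) : cj g 1 = 1 := by simp [cj]

namespace Frame

variable (F : Frame h)

def p : G := cj (F.n1 : G) F.x * F.x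
def q : G := cj (F.n2 : G) F.x * F.x

theorem hpA : F.p ∈ A := mul_mem (h.cj_mem F.n1.2 F.hxA) F.hxA
theorem hqA : F.q ∈ A := mul_mem (h.cj_mem F.n2.2 F.hxA) F.hxA

theorem mul_mul_self {a b : G} (ha : a ∈ A) (hb : b ∈ A) (F : Frame h) : a * (b * a) = b := by
  rw [h.comm hb ha, ← mul_assoc, h.sq ha, one_mul]

theorem n1x : cj (F.n1 : G) F.x = F.x * F.p :=
  (mul_mul_self F.hxA (h.cj_mem F.n1.2 F.hxA) F).symm

theorem n2x : cj (F.n2 : G) F.x = F.x * F.q :=
  (mul_mul_self F.hxA (h.cj_mem F.n2.2 F.hxA) F).symm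

theorem pi_inv_act {n : ↥(normalizer (A : Set G))} (hn : h.π n * h.π n = 1) {a : G} (ha : a ∈ A) :
    cj (n : G) (cj (n : G) a) = a := by
  rw [cj_cj, ← Subgroup.coe_mul]
  exact h.π_ker _ (by rw [map_mul, hn]) a ha

theorem n1p : cj (F.n1 : G) F.p = F.p := by
  rw [p, cj_mul', pi_inv_act (by rw [F.π1, a1_sq]) F.hxA]
  exact h.comm F.hxA (h.cj_mem F.n1.2 F.hxA)

theorem n2q : cj (F.n2 : G) F.q = F.q := by
  rw [q, cj_mul', pi_inv_act (by rw [F.π2, a2_sq]) F.hxA]
  exact h.comm F.hxA (h.cj_mem F.n2.2 F.hxA)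

theorem n1q : cj (F.n1 : G) F.q = F.q * F.z := by
  conv_rhs => rw [← F.d12]
  exact (mul_mul_self F.hqA (h.cj_mem F.n1.2 F.hqA) F).symm

theorem n1z : cj (F.n1 : G) F.z = F.z := F.z_cent _ F.hn1
theorem n2z : cj (F.n2 : G) F.z = F.z := F.z_cent _ F.hn2

theorem n12x : cj (F.n1 : G) (cj (F.n2 : G) F.x) = F.x * F.p * (F.q * F.z) := by
  rw [F.n2x, cj_mul', F.n1x, F.n1q]

theorem n2p : cj (F.n2 : G) F.p = F.p * F.z := by
  have e : cj (F.n2 : G) (cj (F.n1 : G) F.x) = cj (F.n1 : G) (cj (F.n2 : G) F.x) := by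
    rw [cj_cj, cj_cj, ← Subgroup.coe_mul, ← Subgroup.coe_mul]
    exact h.act_eq (by rw [map_mul, map_mul, F.π1, F.π2, a12_comm]) F.hxA
  rw [show cj (F.n2 : G) F.p = cj (F.n2 : G) (cj (F.n1 : G) F.x) * cj (F.n2 : G) F.x from cj_mul' _ _ _,
    e, F.n12x, F.n2x]
  have hc := fun {a b : G} (ha : a ∈ A) (hb : b ∈ A) => h.comm ha hb
  calc F.x * F.p * (F.q * F.z) * (F.x * F.q)
      = F.x * F.p * ((F.q * F.z) * (F.x * F.q)) := by rw [mul_assoc]
    _ = F.x * F.p * ((F.x * F.q) * (F.q * F.z)) := by rw [hc (mul_mem F.hqA F.hzA) (mul_mem F.hxA F.hqA)]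
    _ = F.x * F.p * (F.x * ((F.q * F.q) * F.z)) := by simp only [mul_assoc]
    _ = F.p * F.x * (F.x * F.z) := by rw [h.sq F.hqA, one_mul, hc F.hxA F.hpA]
    _ = F.p * ((F.x * F.x) * F.z) := by simp only [mul_assoc]
    _ = F.p * F.z := by rw [h.sq F.hxA, one_mul]

theorem t_act {n m : ↥(normalizer (A : Set G))} (e : h.π (F.t * n) = h.π (m * F.t)) {a : G} (ha : a ∈ A) :
    cj (F.t : G) (cj (n : G) a) = cj (m : G) (cj (F.t : G) a) := by
  rw [cj_cj, cj_cj, ← Subgroup.coe_mul, ← Subgroup.coe_mul]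
  exact h.act_eq e ha

theorem hqF : cj (F.n2 : G) F.x * F.x = F.q := rfl

theorem tp : cj (F.t : G) F.p = F.q := by
  rw [p, cj_mul', F.t_act (n := F.n1) (m := F.n2) (by
    rw [map_mul, map_mul, F.π1, F.π2, F.πt, ← t0_a1, inv_mul_cancel_right]) F.hxA, F.tx]
  rfl

theorem tq : cj (F.t : G) F.q = F.p * (F.q * F.z) := by
  conv_lhs => rw [q]
  rw [cj_mul', F.t_act (n := F.n2) (m := F.n1 * F.n2) (by
    rw [map_mul, map_mul, map_mul, F.π1, F.π2, F.πt, ← t0_a2, inv_mul_cancel_right]) F.hxA, F.tx,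
    Subgroup.coe_mul, ← cj_cj, F.n12x]
  rw [h.comm (mul_mem (mul_mem F.hxA F.hpA) (mul_mem F.hqA F.hzA)) F.hxA, ← mul_assoc F.x,
    ← mul_assoc F.x, h.sq F.hxA, one_mul]

theorem tz : cj (F.t : G) F.z = F.z := by
  have e : cj (F.t : G) (cj (F.n1 : G) F.q * F.q) = cj (F.t : G) F.z := congrArg _ F.d12
  rw [cj_mul'] at e
  rw [← e, F.t_act (n := F.n1) (m := F.n2) (by
    rw [map_mul, map_mul, F.π1, F.π2, F.πt, ← t0_a1, inv_mul_cancel_right]) F.hqA]
  rw [F.tq, cj_mul', cj_mul', F.n2p, F.n2q, F.n2z]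
  rw [mul_assoc F.p F.z, ← mul_assoc F.z, h.comm (a := F.z) F.hzA F.hqA]
  have hc := fun {a b : G} (ha : a ∈ A) (hb : b ∈ A) => h.comm ha hb
  calc F.p * (F.q * F.z * F.z) * (F.p * (F.q * F.z))
      = F.p * F.q * (F.p * (F.q * F.z)) := by rw [mul_assoc F.q, h.sq F.hzA, mul_one]
    _ = F.p * F.p * (F.q * (F.q * F.z)) := by
        rw [mul_assoc, ← mul_assoc F.q, hc F.hqA F.hpA]; simp only [mul_assoc]
    _ = F.z := by rw [h.sq F.hpA, one_mul, ← mul_assoc, h.sq F.hqA, one_mul]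

/-- The element with given coordinates. -/
def el (k : B4) : G :=
  (if k.1 then F.x else 1) * (if k.2.1 then F.p else 1) * (if k.2.2.1 then F.q else 1) *
    (if k.2.2.2 then F.z else 1)

theorem el_mem (k : B4) : F.el k ∈ A := by
  have : ∀ (b : Bool) (g : G), g ∈ A → (if b then g else 1) ∈ A := fun b g hg => by
    cases b <;> simp [hg, one_mem]
  exact mul_mem (mul_mem (mul_mem (this _ _ F.hxA) (this _ _ F.hpA)) (this _ _ F.hqA)) (this _ _ F.hzA)

theorem el_mul (k l : B4) : F.el k * F.el l = F.el (bAdd k l) := by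
  have this : ∀ (b : Bool) (g : G), g ∈ A → (if b then g else 1) ∈ A := fun b g hg => by
    cases b <;> simp [hg, one_mem]
  have hb : ∀ (a b : Bool) (g : G), g ∈ A → (if a then g else 1) * (if b then g else 1) = if (a ^^ b) then g else 1 := by
    intro a b g hg
    cases a <;> cases b <;> simp [h.sq hg]
  have hmix : ∀ {a b c d : G}, b ∈ A → c ∈ A → a * b * (c * d) = a * c * (b * d) := by
    intro a b c d hb hc
    rw [mul_assoc, ← mul_assoc b, h.comm hb hc, mul_assoc, mul_assoc]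
  obtain ⟨a, b, c, d⟩ := k
  obtain ⟨a', b', c', d'⟩ := l
  simp only [el]
  set X := (if a then F.x else 1)
  set X' := (if a' then F.x else 1)
  set P := (if b then F.p else 1)
  set P' := (if b' then F.p else 1)
  set Q := (if c then F.q else 1)
  set Q' := (if c' then F.q else 1)
  set Z := (if d then F.z else 1)
  set Z' := (if d' then F.z else 1)
  have hX' : X' ∈ A := this _ _ F.hxA
  have hP : P ∈ A := this _ _ F.hpA
  have hP' : P' ∈ A := this _ _ F.hpA
  have hQ : Q ∈ A := this _ _ F.hqA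
  have hQ' : Q' ∈ A := this _ _ F.hqA
  have hZ : Z ∈ A := this _ _ F.hzA
  show _ = (if (a ^^ a') then F.x else 1) * (if (b ^^ b') then F.p else 1) * (if (c ^^ c') then F.q else 1) *
    (if (d ^^ d') then F.z else 1)
  rw [← hb a a' F.x F.hxA, ← hb b b' F.p F.hpA, ← hb c c' F.q F.hqA, ← hb d d' F.z F.hzA]
  rw [hmix hZ (mul_mem (mul_mem hX' hP') hQ'), hmix hQ (mul_mem hX' hP'), hmix hP hX']

theorem el0 : F.el c0 = 1 := by simp [el, c0]
theorem elx : F.el cx = F.x := by simp [el, cx]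
theorem elp : F.el cp = F.p := by simp [el, cp]
theorem elq : F.el cq = F.q := by simp [el, cq]
theorem elz : F.el cz = F.z := by simp [el, cz]

theorem el_act {g : G} {m : B4 → B4} (hm : ∀ k l, m (bAdd k l) = bAdd (m k) (m l))
    (hx : cj g F.x = F.el (m cx)) (hp : cj g F.p = F.el (m cp)) (hq : cj g F.q = F.el (m cq))
    (hz : cj g F.z = F.el (m cz)) (k : B4) : cj g (F.el k) = F.el (m k) := by
  have h0 : m c0 = c0 := by
    have := hm c0 c0
    rw [show bAdd c0 c0 = c0 by decide] at this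
    generalize m c0 = w at this ⊢
    revert w; decide
  have hstep : ∀ (b : Bool) (g' : G) (c : B4), F.el c = g' → cj g g' = F.el (m c) →
      cj g (if b then g' else 1) = F.el (m (if b then c else c0)) := by
    intro b g' c _ hg
    cases b
    · simp [cj_one, h0, F.el0]
    · simpa using hg
  obtain ⟨a, b, c, d⟩ := k
  have e : (a, b, c, d) = bAdd (bAdd (bAdd (if a then cx else c0) (if b then cp else c0)) (if c then cq else c0))
      (if d then cz else c0) := by
    revert a b c d; decide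
  conv_rhs => rw [e, hm, hm, hm, ← F.el_mul, ← F.el_mul, ← F.el_mul]
  rw [el, cj_mul', cj_mul', cj_mul', hstep a _ _ F.elx hx, hstep b _ _ F.elp hp, hstep c _ _ F.elq hq,
    hstep d _ _ F.elz hz]

theorem add_m : (∀ k l, m1 (bAdd k l) = bAdd (m1 k) (m1 l)) ∧ (∀ k l, m2 (bAdd k l) = bAdd (m2 k) (m2 l)) ∧
    (∀ k l, mt (bAdd k l) = bAdd (mt k) (mt l)) := by decide +kernel

theorem act1 (k : B4) : cj (F.n1 : G) (F.el k) = F.el (m1 k) :=
  F.el_act add_m.1 (by rw [F.n1x]; simp [el, m1, cx]) (by rw [F.n1p]; simp [el, m1, cp])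
    (by rw [F.n1q]; simp [el, m1, cq]) (by rw [F.n1z]; simp [el, m1, cz]) k

theorem act2 (k : B4) : cj (F.n2 : G) (F.el k) = F.el (m2 k) :=
  F.el_act add_m.2.1 (by rw [F.n2x]; simp [el, m2, cx]) (by rw [F.n2p]; simp [el, m2, cp])
    (by rw [F.n2q]; simp [el, m2, cq]) (by rw [F.n2z]; simp [el, m2, cz]) k

theorem actt (k : B4) : cj (F.t : G) (F.el k) = F.el (mt k) :=
  F.el_act add_m.2.2 (by rw [F.tx]; simp [el, mt, cx]) (by rw [F.tp]; simp [el, mt, cp])
    (by rw [F.tq]; simp [el, mt, cq, mul_assoc]) (by rw [F.tz]; simp [el, mt, cz]) k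

theorem el_eq_one {k : B4} (hk : F.el k = 1) : k = c0 := by
  have hd : ∀ (g : G) (m : B4 → B4), (∀ k, cj g (F.el k) = F.el (m k)) → ∀ k, F.el k = 1 →
      F.el (bAdd (m k) k) = 1 := by
    intro g m hm k hk
    rw [← F.el_mul, ← hm, hk, cj_one, one_mul]
  have h1 := hd _ m1 F.act1 k hk
  have h2 := hd _ m2 F.act2 k hk
  have h12 := hd _ m1 F.act1 _ h2
  have key : ∀ k : B4, k = c0 ∨ k = cz ∨ bAdd (m1 k) k = cz ∨ bAdd (m2 k) k = cz ∨
      bAdd (m1 (bAdd (m2 k) k)) (bAdd (m2 k) k) = cz := by decide +kernel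
  have hz : ∀ {l : B4}, F.el l = 1 → l ≠ cz := fun hl e => F.z_ne (by rw [← F.elz, ← e, hl])
  rcases key k with e | e | e | e | e
  exacts [e, absurd e (hz hk), absurd e (hz h1), absurd e (hz h2), absurd e (hz h12)]

theorem el_inj : Function.Injective F.el := by
  intro k l e
  have h1 : F.el (bAdd k l) = 1 := by rw [← F.el_mul, e, h.sq (F.el_mem l)]
  have h2 := F.el_eq_one h1
  revert h2
  obtain ⟨a, b, c, d⟩ := k
  obtain ⟨a', b', c', d'⟩ := l
  clear e h1
  revert a b c d a' b' c' d'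
  decide +kernel

theorem el_surj {a : G} (ha : a ∈ A) : ∃ k, F.el k = a := by
  let f : B4 → A := fun k => ⟨F.el k, F.el_mem k⟩
  have hf : Function.Injective f := fun k l e => F.el_inj (congrArg Subtype.val e)
  obtain ⟨k, hk⟩ := (hf.bijective_of_nat_card_le (by rw [h.card_A]; simp)).2 ⟨a, ha⟩
  exact ⟨k, congrArg Subtype.val hk⟩

/-- Every element of the normalizer is, on `A`, a power of an element of order five after a word in
the generators. -/
theorem five_cosets {f : A5} (hf : orderOf f = 5) {R : Subgroup A5} (hR : Nat.card R = 12) (g : A5) :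
    ∃ i : Fin 5, ∃ r ∈ R, g = f ^ (i : ℕ) * r := by
  let φ : Fin 5 → A5 ⧸ R := fun i => QuotientGroup.mk (f ^ (i : ℕ))
  have hφ : Function.Injective φ := by
    intro i j e
    have e' : f ^ (-((i : ℕ) : ℤ) + ((j : ℕ) : ℤ)) ∈ R := by
      rw [zpow_add, zpow_neg, zpow_natCast, zpow_natCast]; exact QuotientGroup.eq.1 e
    set w := f ^ (-((i : ℕ) : ℤ) + ((j : ℕ) : ℤ))
    have h1 : orderOf w ∣ 5 :=
      (orderOf_dvd_of_mem_zpowers (zpow_mem (mem_zpowers f) _) : orderOf w ∣ orderOf f).trans (dvd_of_eq hf)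
    have h2 : orderOf w ∣ 12 := by
      have := orderOf_dvd_natCard (⟨w, e'⟩ : R)
      rwa [Subgroup.orderOf_mk, hR] at this
    have h3 : w = 1 := orderOf_eq_one_iff.1 (Nat.eq_one_of_dvd_coprimes (by norm_num) h1 h2)
    have h4 : f ^ ((i : ℕ) : ℤ) = f ^ ((j : ℕ) : ℤ) := by
      rw [← mul_one (f ^ ((i : ℕ) : ℤ)), ← h3, ← zpow_add]; congr 1; omega
    rw [zpow_natCast, zpow_natCast] at h4
    exact Fin.ext (pow_injOn_Iio_orderOf (by simp only [Set.mem_Iio, hf]; exact i.2)
      (by simp only [Set.mem_Iio, hf]; exact j.2) h4)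
  have hidx : Nat.card (A5 ⧸ R) = 5 := by
    have := R.card_mul_index
    rw [hR, card_A5, Subgroup.index_eq_card] at this
    omega
  obtain ⟨i, hi⟩ := (hφ.bijective_of_nat_card_le (by rw [hidx]; simp)).2 (QuotientGroup.mk g)
  refine ⟨i, (f ^ (i : ℕ))⁻¹ * g, QuotientGroup.eq.1 hi, by group⟩

/-- The stabilizer of an element in the automizer. -/
def stab (h : Ctx S A) (a : G) : Subgroup A5 :=
  ((centralizer ({a} : Set G)).subgroupOf (normalizer (A : Set G))).map h.π

theorem mem_stab {a : G} (ha : a ∈ A) {n : ↥(normalizer (A : Set G))} :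
    h.π n ∈ stab h a ↔ cj (n : G) a = a := by
  constructor
  · rintro ⟨m, hm, e⟩
    rw [← h.act_eq e ha]
    exact mul_inv_eq_iff_eq_mul.2 (mem_centralizer_singleton_iff.1 hm)
  · intro e
    exact ⟨n, mem_centralizer_singleton_iff.2 (mul_inv_eq_iff_eq_mul.1 e), rfl⟩

/-- The elements acting through the tetrahedral generators preserve a set of coordinates. -/
theorem exists_five (F : Frame h) : ∃ f : ↥(normalizer (A : Set G)), orderOf (h.π f) = 5 ∧
    ∀ a ∈ A, cj (f : G) a = a → a = 1 := by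
  haveI : Fact (Nat.Prime 5) := ⟨by norm_num⟩
  obtain ⟨g, hg⟩ := exists_prime_orderOf_dvd_card' (G := A5) 5 (by rw [card_A5]; norm_num)
  obtain ⟨f, hf⟩ := h.π_surj g
  refine ⟨f, by rw [hf, hg], ?_⟩
  subst hf
  let α : Equiv.Perm ↥A :=
    { toFun := fun a => ⟨cj (f : G) a, h.cj_mem f.2 a.2⟩
      invFun := fun a => ⟨cj (f : G)⁻¹ a, h.cj_mem (inv_mem f.2) a.2⟩
      left_inv := fun a => Subtype.ext (by show cj _ (cj _ _) = (a : G); rw [cj_cj]; simp [cj])
      right_inv := fun a => Subtype.ext (by show cj _ (cj _ _) = (a : G); rw [cj_cj]; simp [cj]) }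
  let Fx : Subgroup ↥A :=
    { carrier := {a | cj (f : G) (a : G) = a}
      one_mem' := cj_one _
      mul_mem' := fun {a b} ha hb => by
        show cj (f : G) ((a : G) * b) = a * b
        rw [cj_mul', show cj (f : G) (a : G) = a from ha, show cj (f : G) (b : G) = b from hb]
      inv_mem' := fun {a} ha => by
        show cj (f : G) (a : G)⁻¹ = (a : G)⁻¹
        rw [inv_eq_of_mul_eq_one_right (h.sq a.2)]; exact ha }
  have h5 : α ^ 5 ^ 1 = 1 := by
    ext a
    have hpow : ∀ i : ℕ, ((α ^ i) a : G) = cj ((f : G) ^ i) a := by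
      intro i
      induction i with
      | zero => simp [cj]
      | succ i ih =>
        rw [pow_succ', Equiv.Perm.mul_apply, pow_succ', ← cj_cj]
        show cj (f : G) ((α ^ i) a : G) = _
        rw [ih]
    rw [pow_one, hpow, Equiv.Perm.one_apply]
    have := h.π_ker (f ^ 5) ((map_pow _ _ _).trans (orderOf_dvd_iff_pow_eq_one.1 (dvd_of_eq hg))) a a.2
    simpa using this
  classical
  haveI := Fintype.ofFinite ↥A
  haveI := Fintype.ofFinite ↥Fx
  have hmod := Equiv.Perm.card_compl_support_modEq h5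
  have hcard : α.supportᶜ.card = Nat.card Fx := by
    rw [Nat.card_eq_fintype_card]
    refine (Fintype.card_of_subtype _ fun a => ?_).symm
    rw [Finset.mem_compl, Equiv.Perm.notMem_support]
    exact ⟨fun e => congrArg Subtype.val e, fun e => Subtype.ext e⟩
  rw [hcard, ← Nat.card_eq_fintype_card, h.card_A] at hmod
  have hdvd : Nat.card Fx ∣ 2 ^ 4 := by
    have := card_subgroup_dvd_card Fx
    rwa [h.card_A] at this
  obtain ⟨e, he, hce⟩ := (Nat.dvd_prime_pow Nat.prime_two).1 hdvd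
  rw [hce] at hmod
  have he04 : e = 0 ∨ e = 4 := by
    unfold Nat.ModEq at hmod
    interval_cases e <;> omega
  rcases he04 with rfl | rfl
  · intro a ha hfa
    have : Fx = ⊥ := Subgroup.eq_bot_of_card_eq _ (hce.trans (pow_zero 2))
    have hm : (⟨a, ha⟩ : ↥A) ∈ Fx := hfa
    rw [this, mem_bot] at hm
    exact congrArg Subtype.val hm
  · exfalso
    have htop : Fx = ⊤ := Subgroup.eq_top_of_card_eq _ (by rw [hce, h.card_A]; norm_num)
    have hker : ∀ a ∈ A, cj (f : G) a = a := fun a ha => by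
      have : (⟨a, ha⟩ : ↥A) ∈ Fx := by rw [htop]; trivial
      exact this
    let C : Subgroup ↥(normalizer (A : Set G)) := (centralizer (A : Set G)).subgroupOf _
    haveI : C.Normal := ⟨fun c hc n => mem_subgroupOf.2 (mem_centralizer_iff.2 fun a ha => by
      have ha' : cj ((n : G))⁻¹ a ∈ A := h.cj_mem (inv_mem n.2) ha
      have e := mem_centralizer_iff.1 (mem_subgroupOf.1 hc) _ ha'
      have e2 := congrArg (cj (n : G)) e
      simp only [cj, Subgroup.coe_mul, Subgroup.coe_inv] at e2 ⊢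
      simpa [mul_assoc] using e2)⟩
    have hfC : f ∈ C := mem_subgroupOf.2 (mem_centralizer_iff.2 fun a ha =>
      (mul_inv_eq_iff_eq_mul.1 (hker a ha)).symm)
    haveI hn : (C.map h.π).Normal := Normal.map inferInstance _ h.π_surj
    rcases IsSimpleGroup.eq_bot_or_eq_top_of_normal _ hn with e | e
    · have h1 : h.π f ∈ C.map h.π := ⟨f, hfC, rfl⟩
      rw [e, mem_bot] at h1
      rw [h1, orderOf_one] at hg
      norm_num at hg
    · have h1 : h.π F.n1 ∈ C.map h.π := by rw [e]; trivial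
      obtain ⟨c, hc, he⟩ := h1
      have e1 := h.act_eq he F.hxA
      rw [F.n1x] at e1
      have e2 : cj (c : G) F.x = F.x := mul_inv_eq_iff_eq_mul.2 (mem_centralizer_iff.1 (mem_subgroupOf.1 hc) _ F.hxA).symm
      rw [e2] at e1
      have e3 : F.p = 1 := (mul_eq_left.1 e1.symm)
      rw [← F.elp] at e3
      exact absurd (F.el_eq_one e3) (by decide)

end Frame

end Cfsg.Lib.AltEightType
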