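import Cfsg.Agent.AltEightType.Ten
import Cfsg.Agent.InvolCalc.StronglyEmbedded
import Cfsg.Agent.Coprime.Generation
import Cfsg.Agent.OddChar.PF.OddOrder
import Cfsg.Agent.S0217

/-! Assembly: the elementary subgroup of order sixteen is normal modulo the odd core. -/

set_option autoImplicit false
set_option linter.style.haveILetI false
set_option linter.unusedSectionVars false
set_option synthInstance.maxSize 1024
set_option maxHeartbeats 1000000

namespace Cfsg.Lib.AltEightType

open Subgroup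

variable {G : Type*} [Group G] [Finite G] {S : Sylow 2 G} {A : Subgroup G} {h : Ctx S A} {F : Frame h}

namespace Frame

theorem ker0_card (h : Ctx S A) : ∃ m : ℕ, Odd m ∧ Nat.card h.π.ker = 16 * m := by
  haveI : Fact (Nat.Prime 2) := ⟨Nat.prime_two⟩
  let SN : Sylow 2 ↥(normalizer (A : Set G)) := S.subtype h.SN
  have h1 := h.π.ker.card_mul_index
  rw [Subgroup.index_ker, MonoidHom.range_eq_top.2 h.π_surj, Nat.card_congr Subgroup.topEquiv.toEquiv, card_A5] at h1
  have h2 := (SN : Subgroup ↥(normalizer (A : Set G))).card_mul_index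
  rw [show Nat.card (SN : Subgroup ↥(normalizer (A : Set G))) = 64 from
    (Nat.card_congr (subgroupOfEquivOfLe h.SN).toEquiv).trans h.card_S] at h2
  have h3 := SN.not_dvd_index
  refine ⟨Nat.card h.π.ker / 16, ?_, ?_⟩
  · rw [Nat.odd_iff]; omega
  · omega

theorem cent_ker (F : Frame h) {c : ↥(normalizer (A : Set G))} (hc : ∀ a ∈ A, cj (c : G) a = a) :
    h.π c = 1 := by
  let K : Subgroup ↥(normalizer (A : Set G)) :=
    { carrier := {c | ∀ a ∈ A, cj (c : G) a = a}
      one_mem' := fun a _ => by simp [cj]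
      mul_mem' := fun {c d} hc hd a ha => by rw [Subgroup.coe_mul, ← cj_cj, hd a ha, hc a ha]
      inv_mem' := fun {c} hc a ha => cj_inj (c : G) (by rw [hc a ha, cj_cj, Subgroup.coe_inv, mul_inv_cancel]; simp [cj]) }
  haveI : K.Normal := ⟨fun c hc n a ha => by
    rw [Subgroup.coe_mul, Subgroup.coe_mul, Subgroup.coe_inv, ← cj_cj, ← cj_cj, hc _ (h.cj_mem (inv_mem n.2) ha), cj_cj,
      mul_inv_cancel]
    simp [cj]⟩
  haveI hn : (K.map h.π).Normal := Normal.map inferInstance _ h.π_surj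
  rcases IsSimpleGroup.eq_bot_or_eq_top_of_normal _ hn with e | e
  · have h1 : h.π c ∈ K.map h.π := ⟨c, hc, rfl⟩
    rwa [e, mem_bot] at h1
  · obtain ⟨d, hd, he⟩ : h.π F.n1 ∈ K.map h.π := by rw [e]; trivial
    have e1 := h.act_eq he F.hxA
    rw [hd _ F.hxA, F.n1x] at e1
    have : F.el cp = 1 := by rw [F.elp]; exact mul_eq_left.1 e1.symm
    exact absurd (F.el_eq_one this) (by decide)

/-- An odd subgroup of the centralizer normalized by `A` lies in the core. -/
theorem maximal (hF : F.Good) {b : G} (hb : b ∈ A) (hb1 : b ≠ 1) {W : Subgroup G}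
    (hW : W ≤ centralizer ({b} : Set G)) (hWA : ∀ a ∈ A, ∀ w ∈ W, a * w * a⁻¹ ∈ W) (hodd : Odd (Nat.card W)) :
    W ≤ core (centralizer ({b} : Set G)) := by
  set C := centralizer ({b} : Set G)
  set K := core C with hK
  set Z := centralizer (A : Set G)
  have hctl := ctl hF hb hb1
  have hAZ : A ≤ Z := fun a ha => mem_centralizer_iff.2 fun u hu => h.comm hu ha
  have hZN : Z ≤ normalizer (A : Set G) := centralizer_le_normalizer _
  have hZC : Z ≤ C := fun c hc => mem_centralizer_singleton_iff.2 (mem_centralizer_iff.1 hc b hb).symm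
  have hrel : Odd (A.relIndex Z) := by
    obtain ⟨m, hm, hcard⟩ := ker0_card h
    refine Odd.of_dvd_nat hm ?_
    have hle : Z.subgroupOf (normalizer (A : Set G)) ≤ h.π.ker := fun c hc => by
      rw [MonoidHom.mem_ker]
      exact F.cent_ker fun a ha => mul_inv_eq_iff_eq_mul.2 (mem_centralizer_iff.1 hc a ha).symm
    have h1 := card_dvd_of_le hle
    rw [hcard, Nat.card_congr (subgroupOfEquivOfLe hZN).toEquiv] at h1
    have h2 := (A.subgroupOf Z).card_mul_index
    rw [Nat.card_congr (subgroupOfEquivOfLe hAZ).toEquiv, h.card_A] at h2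
    rw [← h2] at h1
    exact (Nat.mul_dvd_mul_iff_left (by norm_num)).1 h1
  have hZK : core Z ≤ K := by
    have hnorm : ∀ n ∈ normalizer (A : Set G), ∀ u ∈ core Z, n * u * n⁻¹ ∈ core Z := by
      intro n hn u hu
      have hZn : ∀ n ∈ normalizer (A : Set G), ∀ c ∈ Z, n * c * n⁻¹ ∈ Z := fun n hn c hc =>
        mem_centralizer_iff.2 fun a ha => by
          have e := mem_centralizer_iff.1 hc _ (h.cj_mem (inv_mem hn) ha)
          have e2 := congrArg (cj n) e
          simpa [cj, mul_assoc] using e2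
      refine le_core (U := (core Z).map (MulAut.conj n).toMonoidHom) ?_ ?_ ?_ ⟨u, hu, rfl⟩
      · rintro _ ⟨u, hu, rfl⟩; exact hZn n hn u (core_le _ hu)
      · rintro g hg _ ⟨u, hu, rfl⟩
        have hg' : n⁻¹ * g * n ∈ Z := by simpa using hZn n⁻¹ (inv_mem hn) g hg
        refine ⟨n⁻¹ * g * n * u * (n⁻¹ * g * n)⁻¹, (mem_normalizer_iff.1 (core_normalized hg') u).1 hu, ?_⟩
        show n * (n⁻¹ * g * n * u * (n⁻¹ * g * n)⁻¹) * n⁻¹ = g * (n * u * n⁻¹) * g⁻¹
        group
      · rw [card_map_of_injective (MulEquiv.injective _)]; exact odd_core Z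
    have hUK : core Z ≤ normalizer (K : Set G) := fun u hu => core_normalized (hZC (core_le _ hu))
    refine le_sup_right.trans (le_core (sup_le (core_le C) ((core_le Z).trans hZC)) ?_ (odd_sup (odd_core C) (odd_core Z) hUK))
    intro g hg x hx
    obtain ⟨k, hk, hkn⟩ := hctl g hg
    have hx' : x ∈ ((K ⊔ core Z : Subgroup G) : Set G) := hx
    rw [coe_mul_of_right_le_normalizer_left _ _ hUK] at hx'
    obtain ⟨k', hk', u, hu, rfl⟩ := hx'
    show g * (k' * u) * g⁻¹ ∈ K ⊔ core Z
    rw [show g * (k' * u) * g⁻¹ = (g * k' * g⁻¹) * (k * ((k⁻¹ * g) * u * (k⁻¹ * g)⁻¹) * k⁻¹) by group]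
    exact mul_mem (mem_sup_left ((mem_normalizer_iff.1 (core_normalized hg) k').1 hk'))
      (mul_mem (mul_mem (mem_sup_left hk) (mem_sup_right (hnorm _ hkn u hu))) (inv_mem (mem_sup_left hk)))
  intro w hw
  obtain ⟨k, hk, hkn⟩ := hctl w (hW hw)
  set n := k⁻¹ * w with hn
  have hKW : Odd (Nat.card (K ⊔ W : Subgroup G)) := odd_sup (odd_core C) hodd fun u hu => core_normalized (hW hu)
  have hcent : ∀ a ∈ A, cj n a = a := by
    intro a ha
    have haC : a ∈ C := hZC (hAZ ha)
    have h1 : cj n a * a ∈ K ⊔ W := by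
      have e : cj n a * a⁻¹ = (k⁻¹) * ((w * (a * w⁻¹ * a⁻¹)) * (a * k * a⁻¹)) := by simp only [hn, cj]; group
      rw [inv_eq_of_mul_eq_one_right (h.sq ha)] at e
      rw [e]
      refine mul_mem (mem_sup_left (inv_mem hk)) (mul_mem (mem_sup_right (mul_mem hw ?_)) (mem_sup_left ?_))
      · have := hWA a ha _ (inv_mem hw)
        rwa [inv_eq_of_mul_eq_one_right (h.sq ha)] at this
      · have := (mem_normalizer_iff.1 (core_normalized haC) k).1 hk
        rwa [inv_eq_of_mul_eq_one_right (h.sq ha)] at this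
    have h2 := eq_one_of_odd_two hKW h1 (h.sq (mul_mem (h.cj_mem hkn ha) ha))
    rw [eq_inv_of_mul_eq_one_left h2, inv_eq_of_mul_eq_one_right (h.sq ha)]
  have hnZ : n ∈ Z := mem_centralizer_iff.2 fun a ha => (mul_inv_eq_iff_eq_mul.1 (hcent a ha)).symm
  obtain ⟨u, hu, hun⟩ := split_central (C := Z) hAZ (fun a ha c hc => mem_centralizer_iff.1 hc a ha)
    (S.isPGroup'.to_le h.AS) hrel hnZ
  have h3 : u⁻¹ * n ∈ K ⊔ W :=
    mul_mem (mem_sup_left (inv_mem (hZK hu))) (mul_mem (mem_sup_left (inv_mem hk)) (mem_sup_right hw))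
  have h4 := eq_one_of_odd_two hKW h3 (h.sq hun)
  rw [inv_mul_eq_one] at h4
  have := mul_mem hk (hZK hu)
  rwa [h4, hn, mul_inv_cancel_left] at this

/-- Every subgroup containing the normalizer of `A` and the centralizers of its involutions is the whole group. -/
theorem eq_top (hF : F.Good) {M : Subgroup G} (hN : normalizer (A : Set G) ≤ M)
    (hC : ∀ a ∈ A, a ≠ 1 → centralizer ({a} : Set G) ≤ M) : M = ⊤ := by
  haveI : Fact (Nat.Prime 2) := ⟨Nat.prime_two⟩
  obtain ⟨W⟩ := exists_tops hF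
  by_contra hM
  have hz1 : F.el cz ≠ 1 := fun e => absurd (F.el_eq_one e) (by decide)
  have hp1 : F.el cp ≠ 1 := fun e => absurd (F.el_eq_one e) (by decide)
  have hv1o : orderOf W.v1 = 2 := Cfsg.Lib.InvolCalc.order_two_of_mul_self W.sq1 (fun e => W.out1 (e ▸ one_mem A))
  have hzo : orderOf F.z = 2 := Cfsg.Lib.InvolCalc.order_two_of_mul_self (h.sq F.hzA) F.z_ne
  have hpo : orderOf F.p = 2 := Cfsg.Lib.InvolCalc.order_two_of_mul_self (h.sq F.hpA) (by rw [← F.elp]; exact hp1)
  -- the centralizer of the outside involution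
  have hv : centralizer ({W.v1} : Set G) ≤ M := by
    intro g hg
    obtain ⟨k, hk, hkz⟩ := cent_w hF W.S1 W.sq1 W.out1 hg
    have hkM : core (centralizer ({W.v1} : Set G)) ≤ M := by
      set E : Subgroup G := A ⊓ centralizer ({W.v1} : Set G)
      haveI : IsMulCommutative ↥E := ⟨⟨fun a b => Subtype.ext (h.comm a.2.1 b.2.1)⟩⟩
      have hE : ∀ k, m1 k = k → F.el k ∈ E := fun k hk => ⟨F.el_mem k, mem_centralizer_singleton_iff.2
        ((mul_inv_eq_iff_eq_mul.1 ((W.act1 k).trans (by rw [hk]))).symm)⟩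
      have hcyc : ¬ IsCyclic ↥E := by
        intro hcyc
        obtain ⟨g, hg⟩ := hcyc
        have hcard : Nat.card ↥E ≤ 2 := by
          rw [← orderOf_eq_card_of_forall_mem_zpowers hg]
          exact Nat.le_of_dvd two_pos (orderOf_dvd_of_pow_eq_one (Subtype.ext (h.hA.2 _ g.2.1)))
        let f : Fin 3 → ↥E := fun i => ⟨F.el (![c0, cp, cz] i), hE _ (by fin_cases i <;> decide)⟩
        have hf : Function.Injective f := fun i j e => by
          have key : ∀ i j : Fin 3, (![c0, cp, cz] : Fin 3 → B4) i = ![c0, cp, cz] j → i = j := by decide +kernel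
          exact key i j (F.el_inj (congrArg Subtype.val e))
        have := Nat.card_le_card_of_injective f hf
        rw [Nat.card_fin] at this
        omega
      have hEK : E ≤ normalizer (core (centralizer ({W.v1} : Set G)) : Set G) := fun e he => core_normalized he.2
      have hcop : (Nat.card ↥E).Coprime (Nat.card (core (centralizer ({W.v1} : Set G)))) := by
        obtain ⟨n, hn⟩ := IsPGroup.iff_card.1 (S.isPGroup'.to_le ((inf_le_left : E ≤ A).trans h.AS))
        rw [hn]; exact Nat.Coprime.pow_left n (Nat.coprime_two_left.2 (odd_core _))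
      rw [← Cfsg.Lib.Coprime.centralizerJoin_eq hcyc hEK hcop]
      refine iSup₂_le fun e he => inf_le_right.trans ?_
      exact hC e he.1.1 he.2
    have := mul_mem (hkM hk) (hC F.z F.hzA F.z_ne hkz)
    rwa [mul_inv_cancel_left] at this
  -- representatives inside `M`
  have hrep : ∀ t ∈ M, orderOf t = 2 → ∃ m ∈ M, cj m t = F.z ∨ cj m t = F.p ∨ cj m t = W.v1 := by
    intro t ht ht2
    let T : Sylow 2 ↥M := S.subtype (h.SN.trans hN)
    obtain ⟨d, hd⟩ := Cfsg.Lib.InvolCalc.exists_conj_le T (H := zpowers (⟨t, ht⟩ : ↥M))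
      (IsPGroup.of_card (n := 1) (by rw [Nat.card_zpowers, Subgroup.orderOf_mk, ht2, pow_one]))
    have hs : cj (d : G)⁻¹ t ∈ (S : Subgroup G) := by
      simp only [cj, inv_inv]; exact hd _ (mem_zpowers _)
    have hss : cj (d : G)⁻¹ t * cj (d : G)⁻¹ t = 1 := by
      rw [← cj_mul', ← pow_two, ← ht2, pow_orderOf_eq_one, cj_one]
    by_cases hA : cj (d : G)⁻¹ t ∈ A
    · obtain ⟨k, hk⟩ := F.el_surj hA
      have hk0 : k ≠ c0 := by
        rintro rfl
        rw [F.el0, ← cj_one (d : G)⁻¹] at hk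
        rw [← cj_inj _ hk, orderOf_one] at ht2
        omega
      cases hf : five k
      · obtain ⟨n, hn, e⟩ := hF.ten_trans (k := k) (by simp [ten, hf, hk0])
        refine ⟨n⁻¹ * (d : G)⁻¹, mul_mem (inv_mem (hN hn)) (inv_mem d.2), Or.inr (Or.inl ?_)⟩
        rw [← cj_cj, ← hk, ← e, F.elp, cj_cj, inv_mul_cancel]; simp [cj]
      · obtain ⟨n, hn, e⟩ := (hF.five_iff k).1 hf
        refine ⟨n⁻¹ * (d : G)⁻¹, mul_mem (inv_mem (hN hn)) (inv_mem d.2), Or.inl ?_⟩
        rw [← cj_cj, ← hk, ← e, F.elz, cj_cj, inv_mul_cancel]; simp [cj]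
    · obtain ⟨n, hn, e⟩ := outside_conj hF hs hss hA W.S1 W.sq1 W.out1
      exact ⟨n * (d : G)⁻¹, mul_mem (hN hn) (inv_mem d.2), Or.inr (Or.inr (by rw [← cj_cj]; exact e))⟩
  obtain ⟨hzv, hpv⟩ := outside_class hF W.S1 W.sq1 W.out1
  have hdist : ∀ a b, (a = F.z ∨ a = F.p ∨ a = W.v1) → (b = F.z ∨ b = F.p ∨ b = W.v1) → IsConj a b → a = b := by
    rintro a b (rfl | rfl | rfl) (rfl | rfl | rfl) hc
    exacts [rfl, absurd hc (z_p hF), absurd hc hzv, absurd hc.symm (z_p hF), rfl, absurd hc hpv,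
      absurd hc.symm hzv, absurd hc.symm hpv, rfl]
  have hSE : Cfsg.IsStronglyEmbedded M := by
    refine Cfsg.Lib.StrongEmb.of_conditions hM ?_ ?_ ?_
    · rw [even_iff_two_dvd, ← hzo]
      have := orderOf_dvd_natCard (⟨F.z, hN (h.SN (h.AS F.hzA))⟩ : ↥M)
      rwa [Subgroup.orderOf_mk] at this
    · intro t ht ht2 c hc
      obtain ⟨m, hm, e⟩ := hrep t ht ht2
      have hc' : cj m c ∈ M := by
        have hmem : cj m c ∈ centralizer ({cj m t} : Set G) := mem_centralizer_singleton_iff.2 (by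
          rw [← cj_mul', ← cj_mul', mem_centralizer_singleton_iff.1 hc])
        rcases e with e | e | e <;> rw [e] at hmem
        exacts [hC _ F.hzA F.z_ne hmem, hC _ F.hpA (by rw [← F.elp]; exact hp1) hmem, hv hmem]
      have := mul_mem (mul_mem (inv_mem hm) hc') hm
      simpa [cj, mul_assoc] using this
    · intro t ht s hs ht2 hs2 hc
      obtain ⟨a, ha, ea⟩ := hrep t ht ht2
      obtain ⟨b, hb, eb⟩ := hrep s hs hs2
      have e := hdist _ _ ea eb
        ((isConj_iff.2 ⟨a, rfl⟩ : IsConj t (cj a t)).symm.trans (hc.trans (isConj_iff.2 ⟨b, rfl⟩)))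
      refine ⟨b⁻¹ * a, mul_mem (inv_mem hb) ha, ?_⟩
      show cj (b⁻¹ * a) t = s
      rw [← cj_cj, e, cj_cj, inv_mul_cancel]; simp [cj]
  exact z_p hF (Cfsg.Lib.StrongEmb.all_conj hSE hzo hpo)

end Frame

/-- The conclusion. -/
theorem Ctx.normal_sup (h : Ctx S A) : (A ⊔ Cfsg.oddCore G).Normal := by
  haveI : Fact (Nat.Prime 2) := ⟨Nat.prime_two⟩
  obtain ⟨F, hF⟩ := h.exists_good
  let θ : G → Subgroup G := fun a => core (centralizer ({a} : Set G))
  have hcomm : ∀ a ∈ A, ∀ b ∈ A, a * b = b * a := fun a ha b hb => h.comm ha hb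
  obtain ⟨hW2, -⟩ := Cfsg.Agent.S0217.result (p := 2) A hcomm h.hA.2 (by rw [h.card_A]; norm_num) θ
    (fun a _ _ => core_le _)
    (fun a _ _ hd => (Nat.not_even_iff_odd.2 (odd_core _)) (even_iff_two_dvd.2 hd))
    (fun a ha _ b hb x hx => (mem_normalizer_iff.1
      (core_normalized (mem_centralizer_singleton_iff.2 (hcomm b hb a ha))) x).1 hx)
    (fun a _ _ => Cfsg.Agent.PF.isSolvable_of_odd _ (odd_core _))
    (fun a ha _ b hb hb1 => Frame.maximal hF hb hb1 inf_le_right (fun c hc w hw =>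
        ⟨(mem_normalizer_iff.1 (core_normalized (mem_centralizer_singleton_iff.2 (hcomm c hc a ha))) w).1 hw.1,
          (centralizer ({b} : Set G)).mul_mem ((centralizer ({b} : Set G)).mul_mem (mem_centralizer_singleton_iff.2 (hcomm c hc b hb)) hw.2)
            ((centralizer ({b} : Set G)).inv_mem (mem_centralizer_singleton_iff.2 (hcomm c hc b hb)))⟩)
      (Odd.of_dvd_nat (odd_core _) (card_dvd_of_le inf_le_left)))
  set W : Subgroup G := ⨆ a : {a : G // a ∈ A ∧ a ≠ 1}, θ a with hWdef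
  have hle : ∀ a ∈ A, a ≠ 1 → θ a ≤ W := fun a ha h1 =>
    le_iSup (fun a : {a : G // a ∈ A ∧ a ≠ 1} => θ a.1) ⟨a, ha, h1⟩
  have hNW : normalizer (A : Set G) ≤ normalizer (W : Set G) := by
    intro n hn
    refine mem_normalizer_iff_map_conj_eq.2 (eq_of_le_of_card_ge ?_ (le_of_eq ?_))
    · rw [hWdef, Subgroup.map_iSup]
      refine iSup_le fun a => le_trans ?_ (hle (cj n a.1) (h.cj_mem hn a.2.1)
        (fun e => a.2.2 (cj_inj n (e.trans (cj_one n).symm))))
      rintro _ ⟨u, hu, rfl⟩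
      refine le_core (U := (θ a.1).map (MulAut.conj n).toMonoidHom) ?_ ?_ ?_ ⟨u, hu, rfl⟩
      · rintro _ ⟨u, hu, rfl⟩
        refine mem_centralizer_singleton_iff.2 ?_
        show n * u * n⁻¹ * cj n a.1 = cj n a.1 * (n * u * n⁻¹)
        have e := mem_centralizer_singleton_iff.1 (core_le _ hu)
        simp only [cj]
        calc n * u * n⁻¹ * (n * a.1 * n⁻¹) = n * (u * a.1) * n⁻¹ := by group
          _ = _ := by rw [e]; group
      · rintro g hg _ ⟨u, hu, rfl⟩
        have hg' : n⁻¹ * g * n ∈ centralizer ({a.1} : Set G) := by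
          refine mem_centralizer_singleton_iff.2 ?_
          have e := mem_centralizer_singleton_iff.1 hg
          simp only [cj] at e
          calc n⁻¹ * g * n * a.1 = n⁻¹ * (g * (n * a.1 * n⁻¹)) * n := by group
            _ = a.1 * (n⁻¹ * g * n) := by rw [e]; group
        refine ⟨n⁻¹ * g * n * u * (n⁻¹ * g * n)⁻¹, (mem_normalizer_iff.1 (core_normalized hg') u).1 hu, ?_⟩
        show n * (n⁻¹ * g * n * u * (n⁻¹ * g * n)⁻¹) * n⁻¹ = g * (n * u * n⁻¹) * g⁻¹
        group
      · rw [card_map_of_injective (MulEquiv.injective _)]; exact odd_core _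
    · rw [card_map_of_injective (MulEquiv.injective _)]
  have h1 : normalizer (W : Set G) = ⊤ := Frame.eq_top hF hNW fun a ha ha1 g hg => by
    obtain ⟨k, hk, hkn⟩ := Frame.ctl hF ha ha1 g hg
    have := mul_mem (le_normalizer (hle a ha ha1 hk)) (hNW hkn)
    rwa [mul_inv_cancel_left] at this
  haveI : W.Normal := normalizer_eq_top_iff.1 h1
  have hWO : W ≤ Cfsg.oddCore G := le_oddCore (Nat.odd_iff.2 (by omega))
  have hNn : normalizer (A : Set G) ≤ normalizer ((A ⊔ Cfsg.oddCore G : Subgroup G) : Set G) := by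
    intro n hn
    refine mem_normalizer_iff_map_conj_eq.2 ?_
    rw [Subgroup.map_sup, mem_normalizer_iff_map_conj_eq.1 hn,
      mem_normalizer_iff_map_conj_eq.1 (normalizer_eq_top (H := Cfsg.oddCore G) ▸ mem_top n)]
  have h2 : normalizer ((A ⊔ Cfsg.oddCore G : Subgroup G) : Set G) = ⊤ :=
    Frame.eq_top hF hNn fun a ha ha1 g hg => by
      obtain ⟨k, hk, hkn⟩ := Frame.ctl hF ha ha1 g hg
      have := mul_mem (le_normalizer (mem_sup_right (S := A) (hWO (hle a ha ha1 hk)))) (hNn hkn)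
      rwa [mul_inv_cancel_left] at this
  exact normalizer_eq_top_iff.1 h2

end Cfsg.Lib.AltEightType
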