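import Cfsg.Agent.AltEightType.Orbits

/-! Fusion of involutions. -/

set_option autoImplicit false
set_option linter.style.haveILetI false
set_option linter.unusedSectionVars false
set_option synthInstance.maxSize 1024

namespace Cfsg.Lib.AltEightType

open Subgroup

variable {G : Type*} [Group G] [Finite G] {S : Sylow 2 G} {A : Subgroup G} {h : Ctx S A}

namespace Ctx

theorem S_ker (h : Ctx S A) {s : G} (hs : s ∈ (S : Subgroup G)) (e : h.π ⟨s, h.SN hs⟩ = 1) : s ∈ A := by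
  let f : ↥(S : Subgroup G) →* A5 := h.π.comp (inclusion h.SN)
  have hf : f.range = V0 := by
    ext v
    constructor
    · rintro ⟨s, rfl⟩; exact h.π_S _ s.2
    · intro hv
      obtain ⟨n, hn, e⟩ := h.π_S_surj v hv
      exact ⟨⟨n, hn⟩, e⟩
  have hk : Nat.card f.ker = 16 := by
    have := f.ker.card_mul_index
    rw [Subgroup.index_ker, hf, card_V0, h.card_S] at this
    omega
  have he : A.subgroupOf (S : Subgroup G) = f.ker := by
    refine eq_of_le_of_card_ge (fun a ha => h.π_A _ ha) ?_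
    rw [hk, Nat.card_congr (subgroupOfEquivOfLe h.AS).toEquiv, h.card_A]
  have : (⟨s, hs⟩ : ↥(S : Subgroup G)) ∈ f.ker := e
  rw [← he] at this
  exact this

end Ctx

namespace Frame

variable (F : Frame h)

theorem act3 (k : B4) : cj ((F.n1 : G) * (F.n2 : G)) (F.el k) = F.el (m3 k) := by
  rw [← cj_cj, F.act2, F.act1]; rfl

theorem S_act {s : G} (hs : s ∈ (S : Subgroup G)) (hA : s ∉ A) :
    (h.π ⟨s, h.SN hs⟩ = a1 ∧ ∀ k, cj s (F.el k) = F.el (m1 k)) ∨
    (h.π ⟨s, h.SN hs⟩ = a2 ∧ ∀ k, cj s (F.el k) = F.el (m2 k)) ∨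
    (h.π ⟨s, h.SN hs⟩ = a1 * a2 ∧ ∀ k, cj s (F.el k) = F.el (m3 k)) := by
  rcases mem_V0.1 (h.π_S ⟨s, h.SN hs⟩ hs) with e | e | e | e
  · exact absurd (h.S_ker hs e) hA
  · exact Or.inl ⟨e, fun k => (h.act_eq (n := ⟨s, h.SN hs⟩) (e.trans F.π1.symm) (F.el_mem k)).trans (F.act1 k)⟩
  · exact Or.inr (Or.inl ⟨e, fun k => (h.act_eq (n := ⟨s, h.SN hs⟩) (e.trans F.π2.symm) (F.el_mem k)).trans (F.act2 k)⟩)
  · exact Or.inr (Or.inr ⟨e, fun k => (h.act_eq (n := ⟨s, h.SN hs⟩) (m := F.n1 * F.n2)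
      (e.trans (by rw [map_mul, F.π1, F.π2])) (F.el_mem k)).trans (F.act3 k)⟩)

/-- Coordinates fixed by an element outside `A` lie in the radical and, if in the five, equal `cz`. -/
theorem fixed_key : ∀ k : B4, (m1 k = k ∨ m2 k = k ∨ m3 k = k) → inJ k = true ∧ (five k = true → k = cz) := by
  decide +kernel

theorem fixed_of_comm {s : G} (hs : s ∈ (S : Subgroup G)) (hA : s ∉ A) {k : B4}
    (e : cj s (F.el k) = F.el k) : inJ k = true ∧ (five k = true → k = cz) := by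
  refine fixed_key k ?_
  rcases F.S_act hs hA with ⟨-, hm⟩ | ⟨-, hm⟩ | ⟨-, hm⟩ <;> rw [hm] at e <;> have := F.el_inj e
  exacts [Or.inl this, Or.inr (Or.inl this), Or.inr (Or.inr this)]

end Frame

theorem Ctx.unique (h : Ctx S A) {B : Subgroup G} (hB : B ≤ (S : Subgroup G)) (hc : Nat.card B = 16)
    (hcomm : ∀ a ∈ B, ∀ b ∈ B, a * b = b * a) : B = A := by
  obtain ⟨F⟩ := h.exists_frame
  have hle : B ≤ A := by
    intro b hb
    by_contra hbA
    let f : ↥B →* A5 := h.π.comp (inclusion (hB.trans h.SN))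
    have hfr : f.range ≤ V0 := by
      rintro _ ⟨s, rfl⟩; exact h.π_S _ (hB s.2)
    have hker : ∀ a : ↥B, f a = 1 → (a : G) ∈ A := fun a e => h.S_ker (hB a.2) e
    have hfix : ∀ a : ↥B, f a = 1 → ∀ s ∈ B, ∃ k, F.el k = (a : G) ∧ cj s (F.el k) = F.el k := by
      intro a e s hs
      obtain ⟨k, hk⟩ := F.el_surj (hker a e)
      refine ⟨k, hk, ?_⟩
      rw [hk]
      exact mul_inv_eq_iff_eq_mul.2 (hcomm s hs a a.2)
    have bound : ∀ P : B4 → Prop, (∀ a : ↥B, f a = 1 → ∃ k, F.el k = (a : G) ∧ P k) →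
        Nat.card f.ker ≤ Nat.card {k : B4 // P k} := by
      intro P hP
      choose g hg hgP using fun a : f.ker => hP a a.2
      exact Nat.card_le_card_of_injective (fun a => (⟨g a, hgP a⟩ : {k : B4 // P k})) (fun a a' e => by
        have e' : g a = g a' := congrArg Subtype.val e
        exact Subtype.ext (Subtype.ext (by rw [← hg a, ← hg a', e'])))
    have h4 : Nat.card f.ker ≤ 4 := by
      rcases F.S_act (hB hb) hbA with ⟨-, hm⟩ | ⟨-, hm⟩ | ⟨-, hm⟩
      · refine (bound (fun k => m1 k = k) fun a e => ?_).trans (le_of_eq ?_)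
        · obtain ⟨k, hk, hk'⟩ := hfix a e b hb; exact ⟨k, hk, F.el_inj ((hm k).symm.trans hk')⟩
        · rw [Nat.card_eq_fintype_card]; decide +kernel
      · refine (bound (fun k => m2 k = k) fun a e => ?_).trans (le_of_eq ?_)
        · obtain ⟨k, hk, hk'⟩ := hfix a e b hb; exact ⟨k, hk, F.el_inj ((hm k).symm.trans hk')⟩
        · rw [Nat.card_eq_fintype_card]; decide +kernel
      · refine (bound (fun k => m3 k = k) fun a e => ?_).trans (le_of_eq ?_)
        · obtain ⟨k, hk, hk'⟩ := hfix a e b hb; exact ⟨k, hk, F.el_inj ((hm k).symm.trans hk')⟩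
        · rw [Nat.card_eq_fintype_card]; decide +kernel
    have hidx := f.ker.card_mul_index
    rw [Subgroup.index_ker, hc] at hidx
    have hr : Nat.card f.range ≤ 4 := card_V0 ▸ Subgroup.card_le_of_le hfr
    have hr4 : f.range = V0 := eq_of_le_of_card_ge hfr (by rw [card_V0]; nlinarith)
    obtain ⟨b1, hb1⟩ : a1 ∈ f.range := hr4 ▸ mem_V0.2 (Or.inr (Or.inl rfl))
    obtain ⟨b2, hb2⟩ : a2 ∈ f.range := hr4 ▸ mem_V0.2 (Or.inr (Or.inr (Or.inl rfl)))
    have h2 : Nat.card f.ker ≤ 2 := by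
      refine (bound (fun k => m1 k = k ∧ m2 k = k) fun a e => ?_).trans (le_of_eq ?_)
      · obtain ⟨k, hk⟩ := F.el_surj (hker a e)
        refine ⟨k, hk, F.el_inj ?_, F.el_inj ?_⟩
        · rw [← F.act1, ← h.act_eq (n := inclusion (hB.trans h.SN) b1) (hb1.trans F.π1.symm) (F.el_mem k), hk]
          exact mul_inv_eq_iff_eq_mul.2 (hcomm b1 b1.2 a a.2)
        · rw [← F.act2, ← h.act_eq (n := inclusion (hB.trans h.SN) b2) (hb2.trans F.π2.symm) (F.el_mem k), hk]
          exact mul_inv_eq_iff_eq_mul.2 (hcomm b2 b2.2 a a.2)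
      · rw [Nat.card_eq_fintype_card]; decide +kernel
    nlinarith
  exact eq_of_le_of_card_ge hle (by rw [hc, h.card_A])

theorem Ctx.weak (h : Ctx S A) : Cfsg.IsWeaklyClosed A (S : Subgroup G) := by
  refine ⟨h.AS, fun g hg => h.unique hg ?_ ?_⟩
  · rw [card_map_of_injective (MulEquiv.injective _), h.card_A]
  · rintro _ ⟨a, ha, rfl⟩ _ ⟨b, hb, rfl⟩
    rw [← map_mul, ← map_mul, h.comm ha hb]

namespace Frame

variable {F : Frame h} (hF : F.Good)

include hF

theorem conj_five {k : B4} (hc : IsConj F.z (F.el k)) : five k = true := by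
  obtain ⟨g, hg⟩ := isConj_iff.1 hc
  have hcent : ∀ a ∈ A, a ∈ centralizer (A : Set G) := fun a ha =>
    mem_centralizer_iff.2 fun b hb => h.comm hb ha
  obtain ⟨n, hn, e⟩ := Cfsg.Lib.InvolCalc.weaklyClosed_control S h.weak (hcent _ F.hzA)
    (g := g) (hcent _ (hg ▸ F.el_mem k))
  refine (hF.five_iff k).2 ⟨n, hn, ?_⟩
  rw [F.elz]; exact e.trans hg

theorem conj_class {k : B4} (hk : k ≠ c0) :
    (five k = true ∧ IsConj F.z (F.el k)) ∨ (ten k = true ∧ IsConj F.p (F.el k)) := by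
  cases hf : five k
  · refine Or.inr ⟨by simp [ten, hf, hk], ?_⟩
    obtain ⟨n, -, e⟩ := hF.ten_trans (k := k) (by simp [ten, hf, hk])
    exact isConj_iff.2 ⟨n, by rw [← F.elp]; exact e⟩
  · refine Or.inl ⟨rfl, ?_⟩
    obtain ⟨n, -, e⟩ := (hF.five_iff k).1 hf
    exact isConj_iff.2 ⟨n, by rw [← F.elz]; exact e⟩

theorem z_p : ¬ IsConj F.z F.p := fun e =>
  absurd (conj_five hF (k := cp) (by rw [F.elp]; exact e)) (by decide)

theorem sylow_conj {x : G} (hx : orderOf x = 2) : ∃ g : G, g⁻¹ * x * g ∈ (S : Subgroup G) := by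
  haveI : Fact (Nat.Prime 2) := ⟨Nat.prime_two⟩
  obtain ⟨g, hg⟩ := Cfsg.Lib.InvolCalc.exists_conj_le S (H := zpowers x)
    (IsPGroup.of_card (n := 1) (by rw [Nat.card_zpowers, hx, pow_one]))
  exact ⟨g, hg x (mem_zpowers x)⟩

theorem two_classes (hw : ∀ w ∈ (S : Subgroup G), w * w = 1 → w ∉ A → IsConj F.z w ∨ IsConj F.p w) : False := by
  classical
  let ψ : {c : ConjClasses G // ∃ x ∈ c.carrier, orderOf x = 2} → Bool := fun c =>
    decide (c.1 = ConjClasses.mk F.z)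
  have hψ : Function.Injective ψ := by
    have key : ∀ c : {c : ConjClasses G // ∃ x ∈ c.carrier, orderOf x = 2},
        c.1 = ConjClasses.mk F.z ∨ c.1 = ConjClasses.mk F.p := by
      rintro ⟨c, x, hxc, hx⟩
      obtain ⟨g, hg⟩ := sylow_conj hF hx
      have hc : c = ConjClasses.mk (g⁻¹ * x * g) := by
        rw [← ConjClasses.mem_carrier_iff_mk_eq.1 hxc, ConjClasses.mk_eq_mk_iff_isConj]
        exact isConj_iff.2 ⟨g⁻¹, by group⟩
      have hy2 : g⁻¹ * x * g * (g⁻¹ * x * g) = 1 := by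
        have : x * x = 1 := by rw [← pow_two, ← hx, pow_orderOf_eq_one]
        calc g⁻¹ * x * g * (g⁻¹ * x * g) = g⁻¹ * (x * x) * g := by group
          _ = 1 := by rw [this]; group
      simp only [hc, ConjClasses.mk_eq_mk_iff_isConj]
      by_cases hA : g⁻¹ * x * g ∈ A
      · obtain ⟨k, hk⟩ := F.el_surj hA
        have hk0 : k ≠ c0 := by
          rintro rfl
          rw [F.el0] at hk
          have : x = 1 := by
            calc x = g * (g⁻¹ * x * g) * g⁻¹ := by group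
              _ = 1 := by rw [← hk]; group
          rw [this, orderOf_one] at hx; omega
        rw [← hk]
        exact (conj_class hF hk0).imp (fun e => e.2.symm) (fun e => e.2.symm)
      · exact (hw _ hg hy2 hA).imp IsConj.symm IsConj.symm
    intro c c' e
    simp only [ψ, decide_eq_decide] at e
    rcases key c with hc | hc <;> rcases key c' with hc' | hc'
    · exact Subtype.ext (hc.trans hc'.symm)
    · exact Subtype.ext (hc.trans (e.1 hc).symm)
    · exact Subtype.ext ((e.2 hc').trans hc'.symm)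
    · exact Subtype.ext (hc.trans hc'.symm)
  have := Nat.card_le_card_of_injective ψ hψ
  rw [h.h3] at this
  simp at this

theorem exists_outside : ∃ w ∈ (S : Subgroup G), w * w = 1 ∧ w ∉ A := by
  by_contra hno
  push Not at hno
  exact two_classes hF fun w hw h2 hA => absurd (hno w hw h2) hA

/-- Any involution outside `A` has a conjugate acting as the first generator. -/
theorem to_first {w : G} (hw : w ∈ (S : Subgroup G)) (h2 : w * w = 1) (hA : w ∉ A) :
    ∃ v : G, ∃ hv : v ∈ (S : Subgroup G), v * v = 1 ∧ h.π ⟨v, h.SN hv⟩ = a1 ∧ ∃ n ∈ normalizer (A : Set G), cj n w = v := by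
  have hsq : ∀ g : G, cj g w * cj g w = 1 := fun g => by rw [← cj_mul', h2, cj_one]
  have step : ∀ {v : G} (hv : v ∈ (S : Subgroup G)),
      h.π ⟨cj (F.t : G) v, h.SN (F.tS v hv)⟩ = t0 * h.π ⟨v, h.SN hv⟩ * t0⁻¹ := by
    intro v hv
    rw [show (⟨cj (F.t : G) v, h.SN (F.tS v hv)⟩ : ↥(normalizer (A : Set G))) = F.t * ⟨v, h.SN hv⟩ * F.t⁻¹ from rfl,
      map_mul, map_mul, map_inv, F.πt]
  have h2' := F.tS _ (F.tS w hw)
  have e2 : h.π ⟨cj (F.t : G) (cj (F.t : G) w), h.SN h2'⟩ = t0 * (t0 * h.π ⟨w, h.SN hw⟩ * t0⁻¹) * t0⁻¹ := by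
    rw [step (F.tS w hw), step hw]
  rcases F.S_act hw hA with ⟨e, -⟩ | ⟨e, -⟩ | ⟨e, -⟩
  · exact ⟨w, hw, h2, e, 1, one_mem _, by simp [cj]⟩
  · refine ⟨cj (F.t : G) (cj (F.t : G) w), h2', by rw [cj_cj]; exact hsq _, ?_,
      (F.t : G) * F.t, mul_mem F.t.2 F.t.2, (cj_cj (F.t : G) F.t w).symm⟩
    rw [e2, e]; decide +kernel
  · refine ⟨cj (F.t : G) w, F.tS w hw, hsq _, ?_, (F.t : G), F.t.2, rfl⟩
    rw [step hw, e]; decide +kernel

theorem outside_conj {u w : G} (hu : u ∈ (S : Subgroup G)) (hu2 : u * u = 1) (huA : u ∉ A)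
    (hw : w ∈ (S : Subgroup G)) (hw2 : w * w = 1) (hwA : w ∉ A) :
    ∃ n ∈ normalizer (A : Set G), cj n u = w := by
  obtain ⟨v, hv, hv2, ev, n1, hn1, cv⟩ := to_first hF hu hu2 huA
  obtain ⟨v', hv', hv2', ev', n2, hn2, cv'⟩ := to_first hF hw hw2 hwA
  suffices hsuff : ∃ n ∈ normalizer (A : Set G), cj n v = v' by
    obtain ⟨n, hn, e⟩ := hsuff
    exact ⟨n2⁻¹ * (n * n1), mul_mem (inv_mem hn2) (mul_mem hn hn1),
      by rw [← cj_cj, ← cj_cj, cv, e, ← cv', cj_cj, inv_mul_cancel]; simp [cj]⟩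
  have hd : v⁻¹ * v' ∈ A := by
    refine h.S_ker (mul_mem (inv_mem hv) hv') ?_
    rw [show (⟨v⁻¹ * v', h.SN (mul_mem (inv_mem hv) hv')⟩ : ↥(normalizer (A : Set G))) =
      ⟨v, h.SN hv⟩⁻¹ * ⟨v', h.SN hv'⟩ from rfl, map_mul, map_inv, ev, ev', inv_mul_cancel]
  obtain ⟨k, hk⟩ := F.el_surj hd
  have hvi : v⁻¹ = v := inv_eq_of_mul_eq_one_right hv2
  have hact : ∀ l, cj v (F.el l) = F.el (m1 l) := fun l =>
    (h.act_eq (n := ⟨v, h.SN hv⟩) (ev.trans F.π1.symm) (F.el_mem l)).trans (F.act1 l)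
  have hv'e : v' = v * F.el k := by rw [hk, mul_inv_cancel_left]
  have hfix : cj v (F.el k) = F.el k := by
    have h1 : v * F.el k * v * F.el k = 1 := by
      rw [hv'e] at hv2'; simpa [mul_assoc] using hv2'
    rw [cj, hvi, eq_inv_of_mul_eq_one_left h1, inv_eq_of_mul_eq_one_left (h.sq (F.el_mem k))]
  rw [hact] at hfix
  have key : ∀ k : B4, m1 k = k → ∃ l : B4, bAdd (m1 l) l = k := by decide +kernel
  obtain ⟨l, hl⟩ := key k (F.el_inj hfix)
  refine ⟨F.el l, h.SN (h.AS (F.el_mem l)), ?_⟩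
  show F.el l * v * (F.el l)⁻¹ = v'
  rw [hv'e, ← hl, ← F.el_mul, ← hact, inv_eq_of_mul_eq_one_right (h.sq (F.el_mem l)), cj, hvi]
  calc F.el l * v * F.el l = v * v * (F.el l * v * F.el l) := by rw [hv2, one_mul]
    _ = v * (v * F.el l * v * F.el l) := by simp only [mul_assoc]

theorem outside_class {w : G} (hw : w ∈ (S : Subgroup G)) (h2 : w * w = 1) (hA : w ∉ A) :
    ¬ IsConj F.z w ∧ ¬ IsConj F.p w :=
  ⟨fun e => two_classes hF fun u hu hu2 huA => Or.inl (e.trans (let ⟨n, _, en⟩ := outside_conj hF hw h2 hA hu hu2 huA; isConj_iff.2 ⟨n, en⟩)),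
    fun e => two_classes hF fun u hu hu2 huA => Or.inr (e.trans (let ⟨n, _, en⟩ := outside_conj hF hw h2 hA hu hu2 huA; isConj_iff.2 ⟨n, en⟩))⟩

theorem strong : Cfsg.IsStronglyClosed A (S : Subgroup G) := by
  refine ⟨h.AS, fun a ha g hg => ?_⟩
  by_contra hA
  obtain ⟨k, hk⟩ := F.el_surj ha
  have hk0 : k ≠ c0 := by
    rintro rfl; rw [F.el0] at hk; subst hk; simp at hA
  have hw := outside_class hF hg
    (by rw [show g * a * g⁻¹ * (g * a * g⁻¹) = g * (a * a) * g⁻¹ by group, h.sq ha]; group) hA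
  have hc : IsConj a (g * a * g⁻¹) := isConj_iff.2 ⟨g, rfl⟩
  rcases conj_class hF hk0 with e | e
  · exact hw.1 ((hk ▸ e.2).trans hc)
  · exact hw.2 ((hk ▸ e.2).trans hc)

/-- A conjugate of `z` in `S` commuting with an element outside `A` is `z`. -/
theorem five_comm {s : G} (hs : s ∈ (S : Subgroup G)) (hA : s ∉ A) {g : G} (hg : g * F.z * g⁻¹ ∈ (S : Subgroup G))
    (hc : cj s (g * F.z * g⁻¹) = g * F.z * g⁻¹) : g * F.z * g⁻¹ = F.z := by
  obtain ⟨k, hk⟩ := F.el_surj ((strong hF).2 F.z F.hzA g hg)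
  rw [← hk] at hc ⊢
  rw [(F.fixed_of_comm hs hA hc).2 (conj_five hF (isConj_iff.2 ⟨g, hk.symm⟩)), F.elz]

theorem cent_w {w : G} (hw : w ∈ (S : Subgroup G)) (h2 : w * w = 1) (hA : w ∉ A) {g : G}
    (hg : g ∈ centralizer ({w} : Set G)) :
    ∃ k ∈ core (centralizer ({w} : Set G)), k⁻¹ * g ∈ centralizer ({F.z} : Set G) := by
  haveI : Fact (Nat.Prime 2) := ⟨Nat.prime_two⟩
  have hzw : F.z * w = w * F.z := (mul_inv_eq_iff_eq_mul.1 (F.z_cent w hw)).symm
  have hz2 : orderOf F.z = 2 := Cfsg.Lib.InvolCalc.order_two_of_mul_self (h.sq F.hzA) F.z_ne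
  refine isolated_of_commuting (mem_centralizer_singleton_iff.2 hzw) hz2 (fun g hg hc => ?_) hg
  set u := g * F.z * g⁻¹
  have huw : u * w = w * u := mem_centralizer_singleton_iff.1 (mul_mem (mul_mem hg
    (mem_centralizer_singleton_iff.2 hzw)) (inv_mem hg) : u ∈ centralizer ({w} : Set G))
  have hw1 : orderOf w = 2 := Cfsg.Lib.InvolCalc.order_two_of_mul_self h2 (fun e => hA (e ▸ one_mem A))
  have hu1 : orderOf u = 2 := (orderOf_cj g F.z).trans hz2
  have hP : IsPGroup 2 (zpowers w ⊔ zpowers F.z ⊔ zpowers u : Subgroup G) := by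
    refine (Cfsg.Lib.InvolCalc.isPGroup_pair hw1 hz2 hzw.symm).to_sup_of_normal_right'
      (IsPGroup.of_card (n := 1) (by rw [Nat.card_zpowers, hu1, pow_one])) (le_trans ?_ (centralizer_le_normalizer (zpowers u : Set G)))
    refine sup_le (zpowers_le.2 ?_) (zpowers_le.2 ?_) <;> refine mem_centralizer_iff.2 ?_ <;> rintro _ ⟨i, rfl⟩
    · exact ((show Commute u w from huw).zpow_left i).eq
    · exact ((hc.symm : Commute u F.z).zpow_left i).eq
  obtain ⟨a, ha⟩ := Cfsg.Lib.InvolCalc.exists_conj_le S hP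
  have hwS := ha w (mem_sup_left (mem_sup_left (mem_zpowers w)))
  have hwA : a⁻¹ * w * a ∉ A := fun hin => hA (by
    have := (strong hF).2 _ hin a (by rwa [show a * (a⁻¹ * w * a) * a⁻¹ = w by group])
    rwa [show a * (a⁻¹ * w * a) * a⁻¹ = w by group] at this)
  have key : ∀ g₀ : G, g₀ * F.z * g₀⁻¹ * w = w * (g₀ * F.z * g₀⁻¹) →
      g₀ * F.z * g₀⁻¹ ∈ zpowers w ⊔ zpowers F.z ⊔ zpowers u → a⁻¹ * (g₀ * F.z * g₀⁻¹) * a = F.z := by
    intro g₀ hcw hmem
    have e : a⁻¹ * g₀ * F.z * (a⁻¹ * g₀)⁻¹ = a⁻¹ * (g₀ * F.z * g₀⁻¹) * a := by group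
    rw [← e]
    refine five_comm hF hwS hwA (by rw [e]; exact ha _ hmem) ?_
    rw [e, cj]
    calc a⁻¹ * w * a * (a⁻¹ * (g₀ * F.z * g₀⁻¹) * a) * (a⁻¹ * w * a)⁻¹
        = a⁻¹ * (w * (g₀ * F.z * g₀⁻¹) * w⁻¹) * a := by group
      _ = _ := by rw [← hcw, mul_inv_cancel_right]
  have e1 := key 1 (by simpa using hzw) (by simpa using mem_sup_left (mem_sup_right (mem_zpowers F.z)))
  have e2 := key g huw (mem_sup_right (mem_zpowers u))
  simp only [one_mul, inv_one, mul_one] at e1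
  exact mul_left_cancel (mul_right_cancel (e2.trans e1.symm))

end Frame

end Cfsg.Lib.AltEightType
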