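import Cfsg.Agent.AltEightType.Coords

/-! The orbits of five and of ten elements. -/

set_option autoImplicit false
set_option linter.style.haveILetI false
set_option linter.unusedSectionVars false

set_option synthInstance.maxSize 1024

namespace Cfsg.Lib.AltEightType

open Subgroup

variable {G : Type*} [Group G] [Finite G] {S : Sylow 2 G} {A : Subgroup G} {h : Ctx S A}

/-- The frame in which the orbit of the central element is the standard one. -/
def Frame.Good (F : Frame h) : Prop :=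
  ∀ n : G, n ∈ normalizer (A : Set G) → ∀ k, five k = true → ∃ l, five l = true ∧ cj n (F.el k) = F.el l

namespace Frame

variable (F : Frame h)

/-- The tetrahedral subgroup. -/
def R0 : Subgroup A5 := closure {a1, a2, t0}

theorem stab_z : stab h F.z = R0 ∧ Nat.card (stab h F.z) = 12 := by
  have hmem : ∀ n : ↥(normalizer (A : Set G)), cj (n : G) F.z = F.z → h.π n ∈ stab h F.z :=
    fun n e => (mem_stab F.hzA).2 e
  have h1 : a1 ∈ stab h F.z := F.π1 ▸ hmem _ F.n1z
  have h2 : a2 ∈ stab h F.z := F.π2 ▸ hmem _ F.n2z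
  have h3 : t0 ∈ stab h F.z := F.πt ▸ hmem _ F.tz
  have hle : R0 ≤ stab h F.z := by
    rw [R0, closure_le]
    rintro g (rfl | rfl | rfl) <;> assumption
  have hne : stab h F.z ≠ ⊤ := by
    intro e
    obtain ⟨f, hf, hfix⟩ := F.exists_five
    exact F.z_ne (hfix _ F.hzA ((mem_stab F.hzA).1 (e ▸ mem_top _)))
  have hR : 12 ∣ Nat.card R0 := twelve_dvd (subset_closure (Or.inl rfl))
    (subset_closure (Or.inr (Or.inl rfl))) (subset_closure (Or.inr (Or.inr rfl)))
  have hS : Nat.card (stab h F.z) = 12 := by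
    have d1 := hR.trans (card_dvd_of_le hle)
    have d2 := card_subgroup_dvd_card (stab h F.z)
    rw [card_A5] at d2
    obtain ⟨m, hm⟩ := d1
    rw [hm] at d2
    have hm5 : m ∣ 5 := (Nat.mul_dvd_mul_iff_left (by norm_num : 0 < 12)).1 d2
    rcases (Nat.dvd_prime (by norm_num : (5).Prime)).1 hm5 with rfl | rfl
    · simpa using hm
    · exact absurd (Subgroup.eq_top_of_card_eq _ (by rw [hm, card_A5]; norm_num)) hne
  refine ⟨(eq_of_le_of_card_ge hle ?_).symm, hS⟩
  rw [hS]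
  exact Nat.le_of_dvd Nat.card_pos hR

/-- An element acting through `R0` preserves every invariant set of coordinates. -/
theorem R0_act {n : ↥(normalizer (A : Set G))} (hn : h.π n ∈ R0) {T : B4 → Prop}
    (h1 : ∀ k, T k → T (m1 k)) (h2 : ∀ k, T k → T (m2 k)) (ht : ∀ k, T k → T (mt k)) {k : B4} (hk : T k) :
    ∃ l, T l ∧ cj (n : G) (F.el k) = F.el l := by
  suffices H : ∀ g, g ∈ R0 → ∃ m : ↥(normalizer (A : Set G)), h.π m = g ∧ ∀ k, T k → ∃ l, T l ∧ cj (m : G) (F.el k) = F.el l by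
    obtain ⟨m, hm, hmk⟩ := H _ hn
    obtain ⟨l, hl, e⟩ := hmk k hk
    exact ⟨l, hl, (h.act_eq hm.symm (F.el_mem k)).trans e⟩
  intro g hg
  have hg' : g ∈ Submonoid.closure ({a1, a2, t0} : Set A5) := by
    rw [← Subgroup.closure_toSubmonoid_of_finite]; exact hg
  induction hg' using Submonoid.closure_induction_left with
  | one => exact ⟨1, map_one _, fun k hk => ⟨k, hk, by simp [cj]⟩⟩
  | mul_left x hx y hy ih =>
    obtain ⟨m, hm, hmk⟩ := ih (by
      have : y ∈ (closure ({a1, a2, t0} : Set A5)).toSubmonoid := by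
        rw [Subgroup.closure_toSubmonoid_of_finite]; exact hy
      exact this)
    rcases hx with rfl | rfl | rfl
    · refine ⟨F.n1 * m, by rw [map_mul, F.π1, hm], fun k hk => ?_⟩
      obtain ⟨l, hl, e⟩ := hmk k hk
      exact ⟨m1 l, h1 l hl, by rw [Subgroup.coe_mul, ← cj_cj, e, F.act1]⟩
    · refine ⟨F.n2 * m, by rw [map_mul, F.π2, hm], fun k hk => ?_⟩
      obtain ⟨l, hl, e⟩ := hmk k hk
      exact ⟨m2 l, h2 l hl, by rw [Subgroup.coe_mul, ← cj_cj, e, F.act2]⟩
    · refine ⟨F.t * m, by rw [map_mul, F.πt, hm], fun k hk => ?_⟩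
      obtain ⟨l, hl, e⟩ := hmk k hk
      exact ⟨mt l, ht l hl, by rw [Subgroup.coe_mul, ← cj_cj, e, F.actt]⟩

/-- The orbit of an element, in coordinates. -/
def InOrb (k₀ k : B4) : Prop := ∃ n : G, n ∈ normalizer (A : Set G) ∧ cj n (F.el k₀) = F.el k

theorem orb_m (k₀ : B4) {g : G} {m : B4 → B4} (hg : g ∈ normalizer (A : Set G))
    (hm : ∀ k, cj g (F.el k) = F.el (m k)) {k : B4} (hk : F.InOrb k₀ k) : F.InOrb k₀ (m k) := by
  obtain ⟨n, hn, e⟩ := hk
  exact ⟨g * n, mul_mem hg hn, by rw [← cj_cj, e, hm]⟩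

theorem orb_closed (k₀ : B4) : (∀ k, F.InOrb k₀ k → F.InOrb k₀ (m1 k)) ∧
    (∀ k, F.InOrb k₀ k → F.InOrb k₀ (m2 k)) ∧ (∀ k, F.InOrb k₀ k → F.InOrb k₀ (mt k)) :=
  ⟨fun _ h => F.orb_m k₀ F.n1.2 F.act1 h, fun _ h => F.orb_m k₀ F.n2.2 F.act2 h,
    fun _ h => F.orb_m k₀ F.t.2 F.actt h⟩

theorem orb_symm {k l : B4} (e : F.InOrb k l) : F.InOrb l k := by
  obtain ⟨n, hn, e⟩ := e
  exact ⟨n⁻¹, inv_mem hn, by rw [← e, cj_cj, inv_mul_cancel]; simp [cj]⟩

theorem orb_trans {j k l : B4} (e : F.InOrb j k) (e' : F.InOrb k l) : F.InOrb j l := by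
  obtain ⟨n, hn, e⟩ := e
  obtain ⟨n', hn', e'⟩ := e'
  exact ⟨n' * n, mul_mem hn' hn, by rw [← cj_cj, e, e']⟩

theorem orbit_z_card : ∃ φ : Fin 5 → B4, Function.Injective φ ∧ ∀ k, F.InOrb cz k ↔ ∃ i, φ i = k := by
  obtain ⟨f, hf, hfix⟩ := F.exists_five
  have hi : ∀ i : Fin 5, ∃ k, cj ((f : G) ^ (i : ℕ)) F.z = F.el k := fun i =>
    let ⟨k, hk⟩ := F.el_surj (h.cj_mem (pow_mem f.2 _) F.hzA)
    ⟨k, hk.symm⟩
  choose φ hφ using hi
  refine ⟨φ, ?_, fun k => ⟨?_, ?_⟩⟩
  · intro i j e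
    by_contra hij
    have h1 := (hφ i).trans (e ▸ (hφ j).symm)
    have h2 : h.π (f ^ (-((i : ℕ) : ℤ) + ((j : ℕ) : ℤ))) ∈ stab h F.z := by
      refine (mem_stab F.hzA).2 ?_
      rw [SubgroupClass.coe_zpow, zpow_add, zpow_neg, zpow_natCast, zpow_natCast, ← cj_cj, ← h1, cj_cj]
      simp [cj]
    rw [map_zpow] at h2
    set d := -((i : ℕ) : ℤ) + ((j : ℕ) : ℤ)
    have h3 : orderOf ((h.π f) ^ d) ∣ 5 :=
      (orderOf_dvd_of_mem_zpowers (zpow_mem (mem_zpowers (h.π f)) _)).trans (dvd_of_eq hf)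
    have h4 : orderOf ((h.π f) ^ d) ∣ 12 := by
      have := orderOf_dvd_natCard (⟨_, h2⟩ : stab h F.z)
      rwa [Subgroup.orderOf_mk, F.stab_z.2] at this
    have h5 : (h.π f) ^ d = 1 := orderOf_eq_one_iff.1 (Nat.eq_one_of_dvd_coprimes (by norm_num) h3 h4)
    have h6 : (orderOf (h.π f) : ℤ) ∣ d := orderOf_dvd_iff_zpow_eq_one.2 h5
    rw [hf] at h6
    have := i.2
    have := j.2
    exact hij (Fin.ext (by omega))
  · rintro ⟨n, hn, e⟩
    obtain ⟨i, r, hr, hg⟩ := five_cosets hf F.stab_z.2 (h.π ⟨n, hn⟩)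
    obtain ⟨m, hm⟩ := h.π_surj r
    refine ⟨i, F.el_inj ?_⟩
    rw [F.elz] at e
    have h1 : h.π ⟨n, hn⟩ = h.π (f ^ (i : ℕ) * m) := by rw [hg, map_mul, map_pow, hm]
    rw [← e, ← hφ i, show cj n F.z = cj ((f ^ (i : ℕ) * m : ↥(normalizer (A : Set G))) : G) F.z from
      h.act_eq h1 F.hzA, Subgroup.coe_mul, ← cj_cj, (mem_stab F.hzA).1 (hm ▸ hr), SubgroupClass.coe_pow]
  · rintro ⟨i, rfl⟩
    exact ⟨_, pow_mem f.2 _, by rw [F.elz]; exact hφ i⟩

/-- Exchanging the two fixed free generators. -/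
def swap : Frame h where
  __ := F
  x := F.x * F.z
  hxA := mul_mem F.hxA F.hzA
  tx := by rw [cj_mul', F.tx, F.tz]
  d12 := by
    have e : cj (F.n2 : G) (F.x * F.z) * (F.x * F.z) = F.q := by
      rw [cj_mul', F.n2z, ← F.elx, ← F.elz, F.act2, F.el_mul, F.el_mul, F.el_mul, ← F.elq]
      rfl
    rw [e]
    exact F.d12

theorem swap_el (k : B4) : F.swap.el k = F.el (k.1, k.2.1, k.2.2.1, k.2.2.2 ^^ k.1) := by
  refine eq_comm.1 ?_
  have hp : F.swap.p = F.p := by
    show cj (F.n1 : G) (F.x * F.z) * (F.x * F.z) = F.p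
    rw [cj_mul', F.n1z, ← F.elx, ← F.elz, F.act1, F.el_mul, F.el_mul, F.el_mul, ← F.elp]
    rfl
  have hq : F.swap.q = F.q := by
    show cj (F.n2 : G) (F.x * F.z) * (F.x * F.z) = F.q
    rw [cj_mul', F.n2z, ← F.elx, ← F.elz, F.act2, F.el_mul, F.el_mul, F.el_mul, ← F.elq]
    rfl
  have hx : F.swap.x = F.x * F.z := rfl
  have hz : F.swap.z = F.z := rfl
  have hadd : ∀ k l : B4, bAdd k l = bAdd l k := by decide +kernel
  obtain ⟨a, b, c, d⟩ := k
  have key : F.swap.el (a, b, c, d) = F.el (bAdd (bAdd (bAdd (if a then bAdd cx cz else c0) (if b then cp else c0))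
      (if c then cq else c0)) (if d then cz else c0)) := by
    rw [← F.el_mul, ← F.el_mul, ← F.el_mul]
    show (if a then F.swap.x else 1) * (if b then F.swap.p else 1) * (if c then F.swap.q else 1) *
      (if d then F.swap.z else 1) = _
    rw [hx, hp, hq, hz]
    cases a <;> cases b <;> cases c <;> cases d <;> simp [F.el0, F.elx, F.elp, F.elq, F.elz, ← F.el_mul]
  rw [key]
  congr 1
  clear key hadd
  revert a b c d
  decide +kernel

theorem five_subset {T : B4 → Prop} (h1 : ∀ k, T k → T (m1 k)) (h2 : ∀ k, T k → T (m2 k)) (hz : T cz)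
    (hx : T cx) {k : B4} (hk : five k = true) : T k := by
  have key : ∀ k : B4, five k = true → k = cz ∨ k = cx ∨ k = m1 cx ∨ k = m2 cx ∨ k = m1 (m2 cx) := by
    decide +kernel
  have := key k hk
  rcases this with rfl | rfl | rfl | rfl | rfl
  exacts [hz, hx, h1 _ hx, h2 _ hx, h1 _ (h2 _ hx)]

theorem good_of_mem (hx : F.InOrb cz cx) : F.Good := by
  obtain ⟨φ, hφ, hiff⟩ := F.orbit_z_card
  obtain ⟨c1, c2, -⟩ := F.orb_closed cz
  have hz : F.InOrb cz cz := ⟨1, one_mem _, by simp [cj]⟩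
  have hsub : ∀ k, five k = true → F.InOrb cz k := fun k hk => five_subset c1 c2 hz hx hk
  have hrev : ∀ k, F.InOrb cz k → five k = true := by
    intro k hk
    by_contra hne
    let P := {k : B4 // ∃ i, φ i = k}
    let ψ : Option {k : B4 // five k = true} → P := fun o =>
      o.elim ⟨k, (hiff k).1 hk⟩ fun l => ⟨l.1, (hiff _).1 (hsub _ l.2)⟩
    have hψ : Function.Injective ψ := by
      rintro (_ | ⟨a, ha⟩) (_ | ⟨b, hb⟩) e
      · rfl
      · exact absurd ((show k = b from congrArg Subtype.val e) ▸ hb) hne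
      · exact absurd ((show a = k from congrArg Subtype.val e) ▸ ha) hne
      · exact congrArg some (Subtype.ext (congrArg Subtype.val e : _))
    have h1 := Nat.card_le_card_of_injective ψ hψ
    have h2 : Nat.card P = 5 := by
      rw [← Nat.card_fin 5]
      exact (Nat.card_congr (Equiv.ofBijective (fun i => (⟨φ i, i, rfl⟩ : P))
        ⟨fun i j e => hφ (congrArg Subtype.val e), fun ⟨k, i, e⟩ => ⟨i, Subtype.ext e⟩⟩)).symm
    rw [Finite.card_option, h2, Nat.card_eq_fintype_card,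
      show Fintype.card {k : B4 // five k = true} = 5 by decide +kernel] at h1
    omega
  intro n hn k hk
  obtain ⟨l, hl⟩ := F.el_surj (h.cj_mem hn (F.el_mem k))
  exact ⟨l, hrev l (F.orb_trans (hsub k hk) ⟨n, hn, hl.symm⟩), hl.symm⟩

theorem cx_or_cxz : F.InOrb cz cx ∨ F.InOrb cz (bAdd cx cz) := by
  obtain ⟨φ, hφ, hiff⟩ := F.orbit_z_card
  obtain ⟨c1, c2, ct⟩ := F.orb_closed cz
  by_contra hno
  push Not at hno
  have key : ∀ k : B4, k = c0 ∨ k = cz ∨ cx ∈ [k, m1 k, m2 k, m1 (m2 k)] ∨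
      bAdd cx cz ∈ [k, m1 k, m2 k, m1 (m2 k)] ∨
      cp ∈ [k, mt k, mt (mt k), m1 k, m2 k, m1 (mt k), m2 (mt k), m1 (mt (mt k)), m2 (mt (mt k))] := by
    decide +kernel
  have hz : F.InOrb cz cz := ⟨1, one_mem _, by simp [cj]⟩
  have hcls : ∀ k, F.InOrb cz k → k = cz ∨ F.InOrb cz cp := by
    intro k hk
    have hk0 : k ≠ c0 := by
      rintro rfl
      obtain ⟨n, -, e⟩ := hk
      rw [F.el0, F.elz, ← cj_one n] at e
      exact F.z_ne (cj_inj n e)
    rcases key k with e | e | e | e | e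
    · exact absurd e hk0
    · exact Or.inl e
    · exfalso
      simp only [List.mem_cons, List.not_mem_nil, or_false] at e
      rcases e with e | e | e | e <;> refine hno.1 (e ▸ ?_) <;>
        first | exact hk | exact c1 _ hk | exact c2 _ hk | exact c1 _ (c2 _ hk)
    · exfalso
      simp only [List.mem_cons, List.not_mem_nil, or_false] at e
      rcases e with e | e | e | e <;> refine hno.2 (e ▸ ?_) <;>
        first | exact hk | exact c1 _ hk | exact c2 _ hk | exact c1 _ (c2 _ hk)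
    · right
      simp only [List.mem_cons, List.not_mem_nil, or_false] at e
      rcases e with e | e | e | e | e | e | e | e | e <;> rw [e] <;>
        first | exact hk | exact ct _ hk | exact ct _ (ct _ hk) | exact c1 _ hk | exact c2 _ hk |
          exact c1 _ (ct _ hk) | exact c2 _ (ct _ hk) | exact c1 _ (ct _ (ct _ hk)) | exact c2 _ (ct _ (ct _ hk))
  by_cases hp : F.InOrb cz cp
  · have hq := ct _ hp
    let ψ : Fin 6 → B4 := ![cz, cp, m2 cp, mt cp, m1 (mt cp), mt (mt cp)]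
    have hmem : ∀ j, ∃ i, φ i = ψ j := by
      intro j
      fin_cases j <;> refine (hiff _).1 ?_
      exacts [hz, hp, c2 _ hp, hq, c1 _ hq, ct _ hq]
    choose g hg using hmem
    have hψ : Function.Injective ψ := by decide +kernel
    have := Fintype.card_le_of_injective g (fun i j e => hψ (by rw [← hg i, ← hg j, e]))
    simp at this
  · have h0 := (hcls _ ((hiff _).2 ⟨0, rfl⟩)).resolve_right hp
    have h1 := (hcls _ ((hiff _).2 ⟨1, rfl⟩)).resolve_right hp
    exact absurd (hφ (h0.trans h1.symm)) (by decide)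

end Frame

theorem Ctx.exists_good (h : Ctx S A) : ∃ F : Frame h, F.Good := by
  obtain ⟨F⟩ := h.exists_frame
  rcases F.cx_or_cxz with e | e
  · exact ⟨F, F.good_of_mem e⟩
  · refine ⟨F.swap, F.swap.good_of_mem ?_⟩
    obtain ⟨n, hn, e⟩ := e
    exact ⟨n, hn, by rw [F.swap_el, F.swap_el]; exact e⟩

namespace Frame

variable {F : Frame h} (hF : F.Good)

/-- The orbit of `z` is the set of five. -/
theorem Good.five_iff (hF : F.Good) (k : B4) : five k = true ↔ F.InOrb cz k := by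
  constructor
  · intro hk
    obtain ⟨c1, c2, -⟩ := F.orb_closed cz
    have hz : F.InOrb cz cz := ⟨1, one_mem _, by simp [cj]⟩
    obtain ⟨φ, hφ, hiff⟩ := F.orbit_z_card
    have hrev : ∀ i, five (φ i) = true := fun i => by
      obtain ⟨n, hn, e⟩ := (hiff _).2 ⟨i, rfl⟩
      obtain ⟨l, hl, e'⟩ := hF n hn cz (by decide)
      rwa [F.el_inj (e.symm.trans e')]
    let g : Fin 5 → {k : B4 // five k = true} := fun i => ⟨φ i, hrev i⟩
    have hg : Function.Injective g := fun i j e => hφ (congrArg Subtype.val e)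
    obtain ⟨i, hi⟩ := (hg.bijective_of_nat_card_le (by
      rw [Nat.card_eq_fintype_card, show Fintype.card {k : B4 // five k = true} = 5 by decide +kernel]; simp)).2 ⟨k, hk⟩
    exact (hiff k).2 ⟨i, congrArg Subtype.val hi⟩
  · rintro ⟨n, hn, e⟩
    obtain ⟨l, hl, e'⟩ := hF n hn cz (by decide)
    rwa [F.el_inj (e.symm.trans e')]

theorem Good.ten_trans (hF : F.Good) {k : B4} (hk : ten k = true) : F.InOrb cp k := by
  obtain ⟨c1, c2, ct⟩ := F.orb_closed cp
  have hp : F.InOrb cp cp := ⟨1, one_mem _, by simp [cj]⟩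
  have hq := ct _ hp
  have six : ∀ j : B4, ten j = true → j.1 = false → F.InOrb cp j := by
    intro j hj hj1
    have key : ∀ j : B4, ten j = true → j.1 = false →
        j = cp ∨ j = m2 cp ∨ j = mt cp ∨ j = m1 (mt cp) ∨ j = mt (mt cp) ∨ j = m1 (mt (mt cp)) := by
      decide +kernel
    rcases key j hj hj1 with rfl | rfl | rfl | rfl | rfl | rfl
    exacts [hp, c2 _ hp, hq, c1 _ hq, ct _ hq, c1 _ (ct _ hq)]
  cases hk1 : k.1
  · exact six k hk hk1
  by_contra hno
  have key4 : ∀ j : B4, ten j = true → j.1 = true → k ∈ [j, m1 j, m2 j, m1 (m2 j)] → F.InOrb cp j → F.InOrb cp k := by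
    intro j _ _ e hj
    simp only [List.mem_cons, List.not_mem_nil, or_false] at e
    rcases e with e | e | e | e <;> rw [e]
    exacts [hj, c1 _ hj, c2 _ hj, c1 _ (c2 _ hj)]
  have key4' : ∀ j k : B4, ten j = true → j.1 = true → ten k = true → k.1 = true →
      k ∈ [j, m1 j, m2 j, m1 (m2 j)] := by decide +kernel
  have hin : ∀ j, F.InOrb cp j → ten j = true ∧ j.1 = false := by
    intro j hj
    have hj5 : five j = false := by
      by_contra e
      have e' := (hF.five_iff j).1 (by simpa using e)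
      have e2 := (hF.five_iff cp).2 (F.orb_trans e' (F.orb_symm hj))
      exact absurd e2 (by decide)
    have hj0 : j ≠ c0 := by
      rintro rfl
      obtain ⟨n, -, e⟩ := hj
      rw [F.el0, ← cj_one n] at e
      exact absurd (F.el_eq_one (cj_inj n e)) (by decide)
    have hjt : ten j = true := by simp [ten, hj5, hj0]
    refine ⟨hjt, ?_⟩
    by_contra e
    exact hno (key4 j hjt (by simpa using e) (key4' j k hjt (by simpa using e) hk hk1) hj)
  obtain ⟨f, hf, hfix⟩ := F.exists_five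
  let Six := {j : B4 // ten j = true ∧ j.1 = false}
  have hmap : ∀ j : Six, ∃ l : Six, cj (f : G) (F.el j.1) = F.el l.1 := by
    rintro ⟨j, hj, hj1⟩
    obtain ⟨l, hl⟩ := F.el_surj (h.cj_mem f.2 (F.el_mem j))
    exact ⟨⟨l, hin l (F.orb_trans (six j hj hj1) ⟨f, f.2, hl.symm⟩)⟩, hl.symm⟩
  choose σ hσ using hmap
  have hσi : Function.Injective σ := fun a b e => Subtype.ext (F.el_inj (cj_inj (f : G) (by rw [hσ a, hσ b, e])))
  let τ : Equiv.Perm Six := Equiv.ofBijective σ (Finite.injective_iff_bijective.1 hσi)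
  have hpow : ∀ (i : ℕ) (j : Six), cj ((f : G) ^ i) (F.el j.1) = F.el ((τ ^ i) j).1 := by
    intro i
    induction i with
    | zero => intro j; simp [cj]
    | succ i ih => intro j; rw [pow_succ', ← cj_cj, ih, pow_succ', Equiv.Perm.mul_apply]; exact hσ _
  haveI : Fact (Nat.Prime 5) := ⟨by norm_num⟩
  have h5 : τ ^ 5 ^ 1 = 1 := by
    ext j : 1
    refine Subtype.ext (F.el_inj ?_)
    rw [← hpow, pow_one, Equiv.Perm.one_apply]
    have := h.π_ker (f ^ 5) ((map_pow _ _ _).trans (orderOf_dvd_iff_pow_eq_one.1 (dvd_of_eq hf))) _ (F.el_mem j.1)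
    simpa using this
  have hmod := Equiv.Perm.card_compl_support_modEq h5
  have he : τ.supportᶜ = ∅ := by
    refine Finset.eq_empty_iff_forall_notMem.2 fun j hj => ?_
    rw [Finset.mem_compl, Equiv.Perm.notMem_support] at hj
    have h1 := hfix _ (F.el_mem j.1) ((hσ j).trans (congrArg (fun l : Six => F.el l.1) hj))
    exact absurd j.2.1 (by rw [F.el_eq_one h1]; decide)
  rw [he, Finset.card_empty, show Fintype.card Six = 6 by decide +kernel] at hmod
  exact absurd hmod (by decide)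

end Frame

end Cfsg.Lib.AltEightType
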