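import Mathlib

/-! The small group and the index set of an elementary subgroup of order sixteen. -/

set_option autoImplicit false

namespace Cfsg.Lib.AltEightType

open Equiv

abbrev A5 := ↥(alternatingGroup (Fin 5))

def a1 : A5 := ⟨swap 0 1 * swap 2 3, Equiv.Perm.mem_alternatingGroup.2 (by decide +kernel)⟩
def a2 : A5 := ⟨swap 0 2 * swap 1 3, Equiv.Perm.mem_alternatingGroup.2 (by decide +kernel)⟩
def t0 : A5 := ⟨swap 1 2 * swap 2 3, Equiv.Perm.mem_alternatingGroup.2 (by decide +kernel)⟩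

theorem t0_a1 : t0 * a1 * t0⁻¹ = a2 := by decide +kernel
theorem t0_a2 : t0 * a2 * t0⁻¹ = a1 * a2 := by decide +kernel
theorem t0_cube : t0 * t0 * t0 = 1 := by decide +kernel
theorem t0_ne : t0 ≠ 1 := by decide +kernel
theorem a12_comm : a1 * a2 = a2 * a1 := by decide +kernel
theorem a1_sq : a1 * a1 = 1 := by decide +kernel
theorem a2_sq : a2 * a2 = 1 := by decide +kernel
theorem a_ne : a1 ≠ 1 ∧ a2 ≠ 1 ∧ a1 * a2 ≠ 1 ∧ a1 ≠ a2 := by decide +kernel

theorem card_A5 : Nat.card A5 = 60 := by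
  rw [nat_card_alternatingGroup, Nat.card_fin]; decide

/-- The Sylow four group. -/
def V0 : Subgroup A5 where
  carrier := {g | g = 1 ∨ g = a1 ∨ g = a2 ∨ g = a1 * a2}
  one_mem' := Or.inl rfl
  mul_mem' := by
    intro a b ha hb
    rcases ha with rfl | rfl | rfl | rfl <;> rcases hb with rfl | rfl | rfl | rfl <;>
      simp only [Set.mem_setOf_eq] <;> decide +kernel
  inv_mem' := by
    intro a ha
    rcases ha with rfl | rfl | rfl | rfl <;> simp only [Set.mem_setOf_eq] <;> decide +kernel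

theorem mem_V0 {g : A5} : g ∈ V0 ↔ g = 1 ∨ g = a1 ∨ g = a2 ∨ g = a1 * a2 := Iff.rfl

theorem card_V0 : Nat.card V0 = 4 := by
  have e : Nat.card V0 = Nat.card {g : A5 // g = 1 ∨ g = a1 ∨ g = a2 ∨ g = a1 * a2} :=
    Nat.card_congr (Equiv.subtypeEquivRight fun g => mem_V0)
  rw [e, Nat.card_eq_fintype_card]
  decide +kernel

/-- A subgroup containing the tetrahedral generators has order a multiple of twelve. -/
theorem twelve_dvd {R : Subgroup A5} (h1 : a1 ∈ R) (h2 : a2 ∈ R) (ht : t0 ∈ R) : 12 ∣ Nat.card R := by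
  have hV : V0 ≤ R := by
    intro g hg
    rcases mem_V0.1 hg with rfl | rfl | rfl | rfl
    exacts [R.one_mem, h1, h2, R.mul_mem h1 h2]
  have h4 : 4 ∣ Nat.card R := card_V0 ▸ Subgroup.card_dvd_of_le hV
  haveI : Fact (Nat.Prime 3) := ⟨Nat.prime_three⟩
  have h3 : 3 ∣ Nat.card R := by
    have : orderOf (⟨t0, ht⟩ : R) = 3 := orderOf_eq_prime
      (Subtype.ext (by show t0 ^ 3 = 1; rw [pow_succ, pow_two]; exact t0_cube))
      (fun h => t0_ne (congrArg Subtype.val h))
    exact this ▸ orderOf_dvd_natCard _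
  exact Nat.Coprime.mul_dvd_of_dvd_of_dvd (by norm_num) h4 h3

theorem three_conj {g : A5} (hg : g ^ 3 = 1) : ∃ c : A5, ∃ i : ℕ, g = c * t0 ^ i * c⁻¹ := by
  haveI : Fact (Nat.Prime 3) := ⟨Nat.prime_three⟩
  by_cases h1 : g = 1
  · exact ⟨1, 0, by simp [h1]⟩
  have ho : orderOf g = 3 := orderOf_eq_prime hg h1
  have ht : orderOf t0 = 3 := orderOf_eq_prime (by rw [pow_succ, pow_two]; exact t0_cube) t0_ne
  have mk : ∀ x : A5, orderOf x = 3 → ∃ P : Sylow 3 A5, (P : Subgroup A5) = Subgroup.zpowers x := fun x hx => by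
    have hc : Nat.card (Subgroup.zpowers x) = 3 := (Nat.card_zpowers x).trans hx
    have hidx : ¬ 3 ∣ (Subgroup.zpowers x).index := by
      have := (Subgroup.zpowers x).card_mul_index
      rw [hc, card_A5] at this
      omega
    exact ⟨(IsPGroup.of_card (n := 1) (hc.trans (pow_one 3).symm)).toSylow hidx, rfl⟩
  obtain ⟨P, hP⟩ := mk t0 ht
  obtain ⟨Q, hQ⟩ := mk g ho
  obtain ⟨c, hc⟩ := MulAction.exists_smul_eq A5 P Q
  have : g ∈ ((c • P : Sylow 3 A5) : Subgroup A5) := by rw [hc, hQ]; exact Subgroup.mem_zpowers g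
  rw [Sylow.coe_subgroup_smul, hP] at this
  obtain ⟨x, hx, e⟩ := this
  obtain ⟨i, -, rfl⟩ := (mem_zpowers_iff_mem_range_orderOf.1 hx |> Finset.mem_image.1)
  exact ⟨c, i, e.symm.trans rfl⟩

/-- Coordinates. -/
abbrev B4 := Bool × Bool × Bool × Bool

def bAdd (k l : B4) : B4 := (k.1 ^^ l.1, k.2.1 ^^ l.2.1, k.2.2.1 ^^ l.2.2.1, k.2.2.2 ^^ l.2.2.2)
def cx : B4 := (true, false, false, false)
def cp : B4 := (false, true, false, false)
def cq : B4 := (false, false, true, false)
def cz : B4 := (false, false, false, true)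
def c0 : B4 := (false, false, false, false)
/-- Action of the first generator. -/
def m1 : B4 → B4 | (a, b, c, d) => (a, b ^^ a, c, d ^^ c)
/-- Action of the second generator. -/
def m2 : B4 → B4 | (a, b, c, d) => (a, b, c ^^ a, d ^^ b)
/-- Action of the element of order three. -/
def mt : B4 → B4 | (a, b, c, d) => (a, c, b ^^ c, d ^^ c)
/-- Action of the third involution. -/
def m3 (k : B4) : B4 := m1 (m2 k)
/-- The orbit of five. -/
def five (k : B4) : Bool := k ∈ [cz, cx, bAdd cx cp, bAdd cx cq, bAdd (bAdd cx cp) (bAdd cq cz)]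
/-- The orbit of ten. -/
def ten (k : B4) : Bool := !five k && k != c0
/-- The radical of order eight. -/
def inJ (k : B4) : Bool := !k.1

end Cfsg.Lib.AltEightType
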