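import Cfsg.Agent.AltEightType.Core
import Cfsg.Agent.AltEightType.Small

/-! The elementary subgroup of order sixteen with automizer of type `A₅`. -/

set_option autoImplicit false
set_option linter.style.haveILetI false
set_option linter.unusedSectionVars false
set_option maxHeartbeats 1000000

namespace Cfsg.Lib.AltEightType

open Subgroup

variable {G : Type*} [Group G] [Finite G]

/-- conjugation -/
def cj (g x : G) : G := g * x * g⁻¹

theorem cj_cj (g h x : G) : cj g (cj h x) = cj (g * h) x := by simp only [cj]; group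

theorem cj_mul' (g x y : G) : cj g (x * y) = cj g x * cj g y := by simp only [cj]; group

theorem cj_inj (g : G) {x y : G} (h : cj g x = cj g y) : x = y := mul_left_cancel (mul_right_cancel h)

theorem orderOf_cj (g x : G) : orderOf (cj g x) = orderOf x := Cfsg.Lib.Isolated.orderOf_conj' g x

/-- The standing hypotheses. -/
structure Ctx (S : Sylow 2 G) (A : Subgroup G) where
  card_S : Nat.card (S : Subgroup G) = 64
  card_A : Nat.card A = 16
  hA : Cfsg.IsElementaryAbelian 2 A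
  center : Nat.card (Subgroup.center (S : Subgroup G)) ≤ 2
  AS : A ≤ (S : Subgroup G)
  SN : (S : Subgroup G) ≤ normalizer (A : Set G)
  π : ↥(normalizer (A : Set G)) →* A5
  π_surj : Function.Surjective π
  π_ker : ∀ n, π n = 1 → ∀ a ∈ A, cj (n : G) a = a
  π_A : ∀ n : ↥(normalizer (A : Set G)), (n : G) ∈ A → π n = 1
  π_S : ∀ s : ↥(normalizer (A : Set G)), (s : G) ∈ (S : Subgroup G) → π s ∈ V0
  π_S_surj : ∀ v ∈ V0, ∃ s : ↥(normalizer (A : Set G)), (s : G) ∈ (S : Subgroup G) ∧ π s = v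
  h3 : Nat.card {c : ConjClasses G // ∃ x ∈ c.carrier, orderOf x = 2} = 3

variable {S : Sylow 2 G} {A : Subgroup G}

namespace Ctx

variable (h : Ctx S A)

theorem comm (h : Ctx S A) {a b : G} (ha : a ∈ A) (hb : b ∈ A) : a * b = b * a :=
  congrArg Subtype.val (h.hA.1.is_comm.comm (⟨a, ha⟩ : A) ⟨b, hb⟩)

theorem sq (h : Ctx S A) {a : G} (ha : a ∈ A) : a * a = 1 := by rw [← pow_two]; exact h.hA.2 a ha

theorem cj_mem (_ : Ctx S A) {n a : G} (hn : n ∈ normalizer (A : Set G)) (ha : a ∈ A) : cj n a ∈ A :=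
  (mem_normalizer_iff.1 hn a).1 ha

/-- The kernel of the action. -/
def ker0 : Subgroup G := h.π.ker.map (normalizer (A : Set G)).subtype

theorem cent_ker {n a : G} (hn : n ∈ h.ker0) (ha : a ∈ A) : cj n a = a := by
  obtain ⟨m, hm, rfl⟩ := hn
  exact h.π_ker m hm a ha

theorem ker0_le : h.ker0 ≤ normalizer (A : Set G) := map_subtype_le _

/-- Elements of the normalizer with the same image act alike. -/
theorem act_eq {n m : ↥(normalizer (A : Set G))} (e : h.π n = h.π m) {a : G} (ha : a ∈ A) :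
    cj (n : G) a = cj (m : G) a := by
  have h1 := h.π_ker (m⁻¹ * n) (by rw [map_mul, map_inv, e, inv_mul_cancel]) a ha
  have h2 := congrArg (cj (m : G)) h1
  rw [cj_cj] at h2
  simpa using h2

end Ctx

/-- Generators and their actions. -/
structure Frame (h : Ctx S A) where
  z : G
  x : G
  n1 : ↥(normalizer (A : Set G))
  n2 : ↥(normalizer (A : Set G))
  t : ↥(normalizer (A : Set G))
  hn1 : (n1 : G) ∈ (S : Subgroup G)
  hn2 : (n2 : G) ∈ (S : Subgroup G)
  π1 : h.π n1 = a1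
  π2 : h.π n2 = a2
  πt : h.π t = t0
  t_odd : Odd (orderOf (t : G))
  tS : ∀ s ∈ (S : Subgroup G), cj (t : G) s ∈ (S : Subgroup G)
  hzA : z ∈ A
  hxA : x ∈ A
  z_ne : z ≠ 1
  z_cent : ∀ s ∈ (S : Subgroup G), cj s z = z
  cent_z : ∀ a ∈ A, (∀ s ∈ (S : Subgroup G), cj s a = a) → a = 1 ∨ a = z
  tx : cj (t : G) x = x
  d12 : cj (n1 : G) (cj (n2 : G) x * x) * (cj (n2 : G) x * x) = z

theorem exists_odd_lift {N : Type*} [Group N] [Finite N] {Q : Type*} [Group Q] (f : N →* Q) {n : N} {g : Q}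
    (e : f n = g) (hg : g * g * g = 1) : ∃ m : ℕ, Odd (orderOf (n ^ m)) ∧ f (n ^ m) = g := by
  obtain ⟨k, hk⟩ := Cfsg.Lib.RealSize.exists_pow_odd n
  rcases Nat.even_or_odd k with ⟨j, hj⟩ | ⟨j, hj⟩
  · refine ⟨2 ^ k, hk, ?_⟩
    have h3 : 2 ^ k % 3 = 1 := by
      rw [hj, ← two_mul, pow_mul, Nat.pow_mod]; simp
    rw [map_pow, e, ← Nat.div_add_mod (2 ^ k) 3, h3, pow_add, pow_mul,
      show g ^ 3 = 1 by rw [pow_succ, pow_two, hg], one_pow, one_mul, pow_one]
  · refine ⟨2 ^ k * 2, ?_, ?_⟩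
    · rw [pow_mul]; exact Odd.of_dvd_nat hk (orderOf_pow_dvd 2)
    · have h3 : (2 ^ k * 2) % 3 = 1 := by
        rw [hj, pow_succ, pow_mul, mul_assoc, Nat.mul_mod, Nat.pow_mod]; simp
      rw [map_pow, e, ← Nat.div_add_mod (2 ^ k * 2) 3, h3, pow_add, pow_mul,
        show g ^ 3 = 1 by rw [pow_succ, pow_two, hg], one_pow, one_mul, pow_one]

theorem Ctx.exists_frame (h : Ctx S A) : Nonempty (Frame h) := by
  classical
  haveI : Fact (Nat.Prime 2) := ⟨Nat.prime_two⟩
  obtain ⟨n1, hn1, π1⟩ := h.π_S_surj a1 (mem_V0.2 (Or.inr (Or.inl rfl)))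
  obtain ⟨n2, hn2, π2⟩ := h.π_S_surj a2 (mem_V0.2 (Or.inr (Or.inr (Or.inl rfl))))
  -- an element of odd order over `t0` normalizing `S`
  set R := V0.comap h.π with hR
  let SR : Subgroup ↥(normalizer (A : Set G)) := (S : Subgroup G).subgroupOf _
  have hSR : SR ≤ R := fun s hs => h.π_S s hs
  have hRnorm : ∀ n : ↥(normalizer (A : Set G)), h.π n = t0 →
      ∃ m : ↥(normalizer (A : Set G)), h.π m = t0 ∧ ∀ s ∈ (S : Subgroup G), cj (m : G) s ∈ (S : Subgroup G) := by
    intro n hn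
    have hconj : ∀ r ∈ R, n * r * n⁻¹ ∈ R := by
      intro r hr
      have : h.π r ∈ V0 := hr
      show h.π (n * r * n⁻¹) ∈ V0
      rw [map_mul, map_mul, map_inv, hn]
      rcases mem_V0.1 this with e | e | e | e <;> rw [e]
      · simp [one_mem]
      · rw [t0_a1]; exact mem_V0.2 (Or.inr (Or.inr (Or.inl rfl)))
      · rw [t0_a2]; exact mem_V0.2 (Or.inr (Or.inr (Or.inr rfl)))
      · rw [show t0 * (a1 * a2) * t0⁻¹ = t0 * a1 * t0⁻¹ * (t0 * a2 * t0⁻¹) by group, t0_a1, t0_a2]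
        exact V0.mul_mem (mem_V0.2 (Or.inr (Or.inr (Or.inl rfl)))) (mem_V0.2 (Or.inr (Or.inr (Or.inr rfl))))
    have hSylR : ¬ 2 ∣ (SR.subgroupOf R).index := by
      have hSN : ¬ 2 ∣ SR.index := by
        have := S.not_dvd_index
        intro hd
        exact this (hd.trans (relIndex_dvd_index_of_le h.SN))
      intro hd
      exact hSN (hd.trans (relIndex_dvd_index_of_le hSR))
    let SS : Sylow 2 ↥R := ((S.isPGroup'.comap_of_injective _ (normalizer (A : Set G)).subtype_injective).comap_of_injective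
      _ R.subtype_injective).toSylow hSylR
    have hP : IsPGroup 2 ((SR.map (MulAut.conj n).toMonoidHom).subgroupOf R) :=
      ((S.isPGroup'.comap_of_injective _ (normalizer (A : Set G)).subtype_injective).map _).comap_of_injective _
        R.subtype_injective
    obtain ⟨u, hu⟩ := Cfsg.Lib.InvolCalc.exists_conj_le SS hP
    obtain ⟨s0, hs0, hs0π⟩ := h.π_S_surj _ (u.2 : h.π (u : ↥(normalizer (A : Set G))) ∈ V0)
    refine ⟨s0 * (u : ↥(normalizer (A : Set G)))⁻¹ * n, ?_, fun s hs => ?_⟩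
    · rw [map_mul, map_mul, map_inv, hs0π, mul_inv_cancel, one_mul, hn]
    · have hsN : s ∈ normalizer (A : Set G) := h.SN hs
      have hmem : n * ⟨s, hsN⟩ * n⁻¹ ∈ R := hconj _ (hSR (show (⟨s, hsN⟩ : ↥(normalizer (A : Set G))) ∈ SR from hs))
      have h1 := hu ⟨_, hmem⟩ (show n * ⟨s, hsN⟩ * n⁻¹ ∈ SR.map (MulAut.conj n).toMonoidHom from ⟨⟨s, hsN⟩, hs, rfl⟩)
      have h2 : ((u : ↥(normalizer (A : Set G))) : G)⁻¹ * ((n : G) * s * (n : G)⁻¹) * ((u : ↥(normalizer (A : Set G))) : G) ∈ (S : Subgroup G) := h1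
      have h3 := mul_mem (mul_mem hs0 h2) (inv_mem hs0)
      simp only [cj, Subgroup.coe_mul, Subgroup.coe_inv]
      simpa [mul_assoc] using h3
  obtain ⟨n, hn⟩ := h.π_surj t0
  obtain ⟨m, hm, hmS⟩ := hRnorm n hn
  obtain ⟨k, hkodd, hkt⟩ := exists_odd_lift h.π hm t0_cube
  have hmS' : ∀ i : ℕ, ∀ s ∈ (S : Subgroup G), cj ((m : G) ^ i) s ∈ (S : Subgroup G) := by
    intro i
    induction i with
    | zero => intro s hs; simpa [cj] using hs
    | succ i ih => intro s hs; rw [pow_succ', ← cj_cj]; exact hmS _ (ih s hs)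
  set t := m ^ k
  have htodd : Odd (orderOf (t : G)) := by rwa [Subgroup.orderOf_coe]
  have htS : ∀ s ∈ (S : Subgroup G), cj (t : G) s ∈ (S : Subgroup G) := by
    intro s hs; simpa [t] using hmS' k s hs
  -- the fixed element
  have hfix : ∃ z ∈ A, z ≠ 1 ∧ ∀ s ∈ (S : Subgroup G), cj s z = z := by
    letI : MulAction ↥(S : Subgroup G) ↥A :=
      { smul := fun s a => ⟨cj (s : G) a, h.cj_mem (h.SN s.2) a.2⟩
        one_smul := fun a => Subtype.ext (by show cj ((1 : ↥(S : Subgroup G)) : G) a = a; simp [cj])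
        mul_smul := fun s s' a => Subtype.ext (cj_cj (s : G) (s' : G) a).symm }
    obtain ⟨b, hb, hb1⟩ := S.isPGroup'.exists_fixed_point_of_prime_dvd_card_of_fixed_point (α := ↥A)
      (by rw [h.card_A]; norm_num) (a := 1)
      (fun s => Subtype.ext (by show cj (s : G) ((1 : ↥A) : G) = 1; simp [cj]))
    exact ⟨b, b.2, fun e => hb1 (Subtype.ext e.symm), fun s hs => congrArg Subtype.val (hb ⟨s, hs⟩)⟩
  obtain ⟨z, hzA, hz1, hzc⟩ := hfix
  have huniq : ∀ a ∈ A, (∀ s ∈ (S : Subgroup G), cj s a = a) → a = 1 ∨ a = z := by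
    intro a ha hc
    by_contra hne
    push Not at hne
    let mk : ∀ b ∈ A, (∀ s ∈ (S : Subgroup G), cj s b = b) → Subgroup.center (S : Subgroup G) := fun b hb hc =>
      ⟨⟨b, h.AS hb⟩, Subgroup.mem_center_iff.2 fun s => Subtype.ext (mul_inv_eq_iff_eq_mul.1 (hc s s.2))⟩
    let f : Fin 3 → Subgroup.center (S : Subgroup G) :=
      ![mk 1 (one_mem _) (fun s _ => by simp [cj]), mk a ha hc, mk z hzA hzc]
    have hf : Function.Injective f := by
      intro i j e
      have e' : ((f i : ↥(S : Subgroup G)) : G) = ((f j : ↥(S : Subgroup G)) : G) :=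
        congrArg (fun w : Subgroup.center (S : Subgroup G) => ((w : ↥(S : Subgroup G)) : G)) e
      fin_cases i <;> fin_cases j <;> simp [f, mk] at e' ⊢ <;>
        first
        | exact absurd e' hz1
        | exact absurd e'.symm hz1
        | exact absurd e' hne.1
        | exact absurd e'.symm hne.1
        | exact absurd e' hne.2
        | exact absurd e'.symm hne.2
    have h1 := Nat.card_le_card_of_injective f hf
    rw [Nat.card_fin] at h1
    have := h.center
    omega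
  have hgen : ∀ a ∈ A, cj (n1 : G) a = a → cj (n2 : G) a = a → a = 1 ∨ a = z := by
    intro a ha e1 e2
    refine huniq a ha fun s hs => ?_
    have hπ := h.π_S ⟨s, h.SN hs⟩ hs
    rcases mem_V0.1 hπ with e | e | e | e
    · exact h.π_ker _ e a ha
    · exact (h.act_eq (e.trans π1.symm) ha).trans e1
    · exact (h.act_eq (e.trans π2.symm) ha).trans e2
    · rw [show cj s a = cj ((n1 * n2 : ↥(normalizer (A : Set G))) : G) a from
        h.act_eq (e.trans (by rw [map_mul, π1, π2])) ha, Subgroup.coe_mul, ← cj_cj, e2, e1]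
  have hcomm : ∀ a ∈ A, cj (n1 : G) (cj (n2 : G) a) = cj (n2 : G) (cj (n1 : G) a) := by
    intro a ha
    rw [cj_cj, cj_cj, ← Subgroup.coe_mul, ← Subgroup.coe_mul]
    exact h.act_eq (by rw [map_mul, map_mul, π1, π2, a12_comm]) ha
  have hinv : ∀ (n : ↥(normalizer (A : Set G))), h.π n * h.π n = 1 → ∀ a ∈ A, cj (n : G) (cj (n : G) a) = a := by
    intro n e a ha
    rw [cj_cj, ← Subgroup.coe_mul]
    exact h.π_ker _ (by rw [map_mul, e]) a ha
  have i1 := hinv n1 (by rw [π1, a1_sq])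
  have i2 := hinv n2 (by rw [π2, a2_sq])
  let D : ↥(normalizer (A : Set G)) → (↥A →* ↥A) := fun n =>
    { toFun := fun a => ⟨cj (n : G) a * a, mul_mem (h.cj_mem n.2 a.2) a.2⟩
      map_one' := Subtype.ext (by simp [cj])
      map_mul' := fun a b => Subtype.ext (by
        show cj (n : G) ((a : G) * b) * ((a : G) * b) = cj (n : G) a * a * (cj (n : G) b * b)
        rw [cj_mul', mul_assoc, mul_assoc, ← mul_assoc (cj (n : G) b) (a : G) b,
          h.comm (h.cj_mem n.2 b.2) a.2, ← mul_assoc (a : G) (cj (n : G) b) b]) }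
  have hN : ∀ a : ↥A, ((D n1 (D n2 a) : ↥A) : G) = 1 ∨ ((D n1 (D n2 a) : ↥A) : G) = z := by
    intro a
    refine hgen _ (D n1 (D n2 a)).2 ?_ ?_
    · show cj (n1 : G) (cj (n1 : G) (D n2 a : G) * (D n2 a : G)) = cj (n1 : G) (D n2 a : G) * (D n2 a : G)
      rw [cj_mul', i1 _ (D n2 a).2]
      exact h.comm (D n2 a).2 (h.cj_mem n1.2 (D n2 a).2)
    · show cj (n2 : G) (cj (n1 : G) (D n2 a : G) * (D n2 a : G)) = cj (n1 : G) (D n2 a : G) * (D n2 a : G)
      have e : cj (n2 : G) (D n2 a : G) = (D n2 a : G) := by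
        show cj (n2 : G) (cj (n2 : G) (a : G) * a) = cj (n2 : G) (a : G) * a
        rw [cj_mul', i2 _ a.2]
        exact h.comm a.2 (h.cj_mem n2.2 a.2)
      rw [cj_mul', ← hcomm _ (D n2 a).2, e]
  have hfree : ∃ a : ↥A, ((D n1 (D n2 a) : ↥A) : G) = z := by
    by_contra hno
    push Not at hno
    have h0 : ∀ a : ↥A, D n1 (D n2 a) = 1 := fun a => Subtype.ext ((hN a).resolve_right (hno a))
    have hfix1 : ∀ (n : ↥(normalizer (A : Set G))) (a : ↥A), D n a = 1 → cj (n : G) a = a := fun n a e => by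
      have e' : cj (n : G) a * a = 1 := congrArg Subtype.val e
      rw [eq_inv_of_mul_eq_one_left e', inv_eq_of_mul_eq_one_left (h.sq a.2)]
    have hsw : ∀ a : ↥A, D n2 (D n1 a) = D n1 (D n2 a) := by
      intro a
      refine Subtype.ext ?_
      show cj (n2 : G) (cj (n1 : G) (a : G) * a) * (cj (n1 : G) (a : G) * a) =
        cj (n1 : G) (cj (n2 : G) (a : G) * a) * (cj (n2 : G) (a : G) * a)
      rw [cj_mul', cj_mul', hcomm _ a.2, mul_assoc, mul_assoc]
      congr 1
      rw [← mul_assoc, ← mul_assoc, h.comm (h.cj_mem n2.2 a.2) (h.cj_mem n1.2 a.2)]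
    have hsmall : ∀ n m : ↥(normalizer (A : Set G)), (∀ b : ↥A, D n b = 1 → D m b = 1 → (b : G) = 1 ∨ (b : G) = z) →
        (∀ a : ↥A, D n (D n a) = 1) → (∀ a : ↥A, D m (D n a) = 1) → 8 ≤ Nat.card (D n).ker := by
      intro n m hb h1 h2
      let Z2 : Subgroup ↥A := zpowers ⟨z, hzA⟩
      have hle : (D n).range ≤ Z2 := by
        rintro _ ⟨a, rfl⟩
        rcases hb _ (h1 a) (h2 a) with e | e
        · rw [show D n a = 1 from Subtype.ext e]; exact one_mem _
        · rw [show D n a = ⟨z, hzA⟩ from Subtype.ext e]; exact mem_zpowers _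
      have hc : Nat.card Z2 ≤ 2 := by
        rw [Nat.card_zpowers]
        exact Nat.le_of_dvd two_pos (orderOf_dvd_of_pow_eq_one (Subtype.ext (h.hA.2 z hzA)))
      have e1 := (D n).ker.card_mul_index
      rw [Subgroup.index_ker, h.card_A] at e1
      have e2 := (Subgroup.card_le_of_le hle).trans hc
      nlinarith [Nat.mul_le_mul_left (Nat.card (D n).ker) e2]
    have hDD : ∀ n : ↥(normalizer (A : Set G)), h.π n * h.π n = 1 → ∀ a : ↥A, D n (D n a) = 1 := by
      intro n e a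
      refine Subtype.ext ?_
      show cj (n : G) (cj (n : G) (a : G) * a) * (cj (n : G) (a : G) * a) = 1
      rw [cj_mul', hinv n e _ a.2, h.comm a.2 (h.cj_mem n.2 a.2)]
      exact h.sq (mul_mem (h.cj_mem n.2 a.2) a.2)
    have k1 := hsmall n1 n2 (fun b e e' => hgen b b.2 (hfix1 _ b e) (hfix1 _ b e'))
      (hDD n1 (by rw [π1, a1_sq])) (fun a => (hsw a).trans (h0 a))
    have k2 := hsmall n2 n1 (fun b e e' => hgen b b.2 (hfix1 _ b e') (hfix1 _ b e))
      (hDD n2 (by rw [π2, a2_sq])) h0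
    let K1 := (D n1).ker
    let K2 := (D n2).ker
    haveI : IsMulCommutative ↥A := h.hA.1
    have hinf : Nat.card (K1 ⊓ K2 : Subgroup ↥A) ≤ 2 := by
      have hle : K1 ⊓ K2 ≤ zpowers (⟨z, hzA⟩ : ↥A) := by
        intro b hb
        rcases hgen b b.2 (hfix1 _ b hb.1) (hfix1 _ b hb.2) with e | e
        · rw [show b = 1 from Subtype.ext e]; exact one_mem _
        · rw [show b = ⟨z, hzA⟩ from Subtype.ext e]; exact mem_zpowers _
      refine (Subgroup.card_le_of_le hle).trans ?_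
      rw [Nat.card_zpowers]
      exact Nat.le_of_dvd two_pos (orderOf_dvd_of_pow_eq_one (Subtype.ext (h.hA.2 z hzA)))
    have e1 := K1.card_mul_index
    have e2 := K2.card_mul_index
    have e3 := (K1 ⊓ K2).card_mul_index
    rw [h.card_A] at e1 e2 e3
    have i1' : K1.index ≤ 2 := by
      have : 8 * K1.index ≤ 16 := (Nat.mul_le_mul_right _ k1).trans e1.le
      omega
    have i2' : K2.index ≤ 2 := by
      have : 8 * K2.index ≤ 16 := (Nat.mul_le_mul_right _ k2).trans e2.le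
      omega
    have i3 := (Subgroup.index_inf_le (H := K1) (K := K2)).trans (Nat.mul_le_mul i1' i2')
    have := Nat.mul_le_mul hinf i3
    omega
  have htn : ∀ n m : ↥(normalizer (A : Set G)), h.π (t * n) = h.π (m * t) → ∀ a ∈ A,
      cj (t : G) (cj (n : G) a) = cj (m : G) (cj (t : G) a) := by
    intro n m e a ha
    rw [cj_cj, cj_cj, ← Subgroup.coe_mul, ← Subgroup.coe_mul]
    exact h.act_eq e ha
  have htt : h.π t = t0 := hkt
  have c1 := htn n1 n2 (by rw [map_mul, map_mul, π1, π2, htt, ← t0_a1, inv_mul_cancel_right])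
  have c2 := htn n2 (n1 * n2) (by
    rw [map_mul, map_mul, map_mul, π1, π2, htt, ← t0_a2, inv_mul_cancel_right])
  have hzt : cj (t : G) z = z := by
    rcases huniq _ (h.cj_mem t.2 hzA) (fun s hs => by
      have hs' : cj (t : G)⁻¹ s ∈ (S : Subgroup G) := by
        have hpow : (t : G)⁻¹ = (t : G) ^ (orderOf (t : G) - 1) := by
          refine inv_eq_of_mul_eq_one_right ?_
          rw [← pow_succ', Nat.sub_add_cancel (orderOf_pos _), pow_orderOf_eq_one]
        rw [hpow, show ((t : G) ^ (orderOf (t : G) - 1)) = (m : G) ^ (k * (orderOf (t : G) - 1)) by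
          simp [t, pow_mul]]
        exact hmS' _ s hs
      calc cj s (cj (t : G) z) = cj (t : G) (cj (cj (t : G)⁻¹ s) z) := by simp only [cj]; group
        _ = cj (t : G) z := by rw [hzc _ hs']) with e | e
    · exact absurd (cj_inj (t : G) (e.trans (by simp [cj]))) hz1
    · exact e
  obtain ⟨a, ha⟩ := hfree
  let b : ↥A := ⟨cj (t : G) a, h.cj_mem t.2 a.2⟩
  let c : ↥A := ⟨cj (t : G) b, h.cj_mem t.2 b.2⟩
  have hDt : ∀ a : ↥A, D n1 (D n2 ⟨cj (t : G) a, h.cj_mem t.2 a.2⟩) =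
      ⟨cj (t : G) (D n1 (D n2 a) : G), h.cj_mem t.2 (D n1 (D n2 a)).2⟩ := by
    intro a
    refine Subtype.ext ?_
    have key : ∀ v ∈ A, cj (n1 : G) (cj (n2 : G) v * v) * (cj (n2 : G) v * v) =
        cj ((n1 * n2 : ↥(normalizer (A : Set G))) : G) v * cj (n1 : G) v * (cj (n2 : G) v * v) := by
      intro v _
      rw [cj_mul', Subgroup.coe_mul, ← cj_cj]
    show cj (n1 : G) (cj (n2 : G) (cj (t : G) a) * cj (t : G) a) * (cj (n2 : G) (cj (t : G) a) * cj (t : G) a) =
      cj (t : G) (cj (n1 : G) (cj (n2 : G) (a : G) * a) * (cj (n2 : G) (a : G) * a))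
    rw [key _ (h.cj_mem t.2 a.2), key _ a.2, cj_mul', cj_mul', cj_mul']
    have c3 : cj (t : G) (cj ((n1 * n2 : ↥(normalizer (A : Set G))) : G) a) = cj (n1 : G) (cj (t : G) a) :=
      htn (n1 * n2) n1 (by
        rw [map_mul, map_mul, map_mul, π1, π2, htt]
        decide +kernel) a a.2
    rw [c1 a a.2, c2 a a.2, c3]
    have m1 := h.cj_mem n1.2 (h.cj_mem t.2 a.2)
    have m2 := h.cj_mem n2.2 (h.cj_mem t.2 a.2)
    have m12 := h.cj_mem (n1 * n2).2 (h.cj_mem t.2 a.2)
    rw [← mul_assoc, ← mul_assoc]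
    congr 1
    rw [mul_assoc, mul_assoc, h.comm m12 (mul_mem m1 m2), mul_assoc, h.comm m2 m12]
  have hb : ((D n1 (D n2 b) : ↥A) : G) = z := by rw [hDt]; show cj (t : G) _ = z; rw [ha, hzt]
  have hc : ((D n1 (D n2 c) : ↥A) : G) = z := by rw [hDt]; show cj (t : G) _ = z; rw [hb, hzt]
  have ht3 : cj (t : G) (c : G) = a := by
    show cj (t : G) (cj (t : G) (cj (t : G) a)) = a
    rw [cj_cj, cj_cj, ← Subgroup.coe_mul, ← Subgroup.coe_mul]
    exact h.π_ker _ (by rw [map_mul, map_mul, htt, t0_cube]) a a.2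
  refine ⟨⟨z, (a : G) * b * c, n1, n2, t, hn1, hn2, π1, π2, htt, htodd, htS, hzA,
    mul_mem (mul_mem a.2 b.2) c.2, hz1, hzc, huniq, ?_, ?_⟩⟩
  · rw [cj_mul', cj_mul', ht3]
    show (b : G) * c * a = a * b * c
    rw [h.comm (mul_mem b.2 c.2) a.2, mul_assoc]
  · show ((D n1 (D n2 (a * b * c)) : ↥A) : G) = z
    rw [map_mul, map_mul, map_mul, map_mul, Subgroup.coe_mul, Subgroup.coe_mul, ha, hb, hc, h.sq hzA, one_mul]

end Cfsg.Lib.AltEightType
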