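import Cfsg.Agent.AltEightType.Centre

/-! The centralizer of an element of the orbit of ten. -/

set_option autoImplicit false
set_option linter.style.haveILetI false
set_option linter.unusedSectionVars false
set_option synthInstance.maxSize 1024
set_option maxHeartbeats 1000000

namespace Cfsg.Lib.AltEightType

open Subgroup

variable {G : Type*} [Group G] [Finite G] {S : Sylow 2 G} {A : Subgroup G} {h : Ctx S A}

/-- The local subgroup is its core times its part in the normalizer of `A`. -/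
def Ctl (A : Subgroup G) (C : Subgroup G) : Prop :=
  ∀ c ∈ C, ∃ k ∈ core C, k⁻¹ * c ∈ normalizer (A : Set G)

theorem ctl_transport {n b : G} (hn : n ∈ normalizer (A : Set G))
    (hb : Ctl A (centralizer ({b} : Set G))) : Ctl A (centralizer ({cj n b} : Set G)) := by
  set C := centralizer ({b} : Set G)
  set C' := centralizer ({cj n b} : Set G)
  have hmem : ∀ g, g ∈ C' ↔ n⁻¹ * g * n ∈ C := by
    intro g
    simp only [C, C', mem_centralizer_singleton_iff, cj]
    constructor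
    · intro e
      calc n⁻¹ * g * n * b = n⁻¹ * (g * (n * b * n⁻¹)) * n := by group
        _ = b * (n⁻¹ * g * n) := by rw [e]; group
    · intro e
      calc g * (n * b * n⁻¹) = n * (n⁻¹ * g * n * b) * n⁻¹ := by group
        _ = n * b * n⁻¹ * g := by rw [e]; group
  intro c hc
  obtain ⟨k, hk, hkn⟩ := hb _ ((hmem c).1 hc)
  refine ⟨n * k * n⁻¹, le_core (U := (core C).map (MulAut.conj n).toMonoidHom) ?_ ?_ ?_ ⟨k, hk, rfl⟩, ?_⟩
  · rintro _ ⟨u, hu, rfl⟩
    rw [hmem]
    show n⁻¹ * (n * u * n⁻¹) * n ∈ C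
    rw [show n⁻¹ * (n * u * n⁻¹) * n = u by group]
    exact core_le C hu
  · rintro g hg _ ⟨u, hu, rfl⟩
    refine ⟨n⁻¹ * g * n * u * (n⁻¹ * g * n)⁻¹, (mem_normalizer_iff.1 (core_normalized ((hmem g).1 hg)) u).1 hu, ?_⟩
    show n * (n⁻¹ * g * n * u * (n⁻¹ * g * n)⁻¹) * n⁻¹ = g * (n * u * n⁻¹) * g⁻¹
    group
  · rw [card_map_of_injective (MulEquiv.injective _)]; exact odd_core C
  · have h2 := mul_mem (mul_mem hn hkn) (inv_mem hn)
    rwa [show n * (k⁻¹ * (n⁻¹ * c * n)) * n⁻¹ = (n * k * n⁻¹)⁻¹ * c by group] at h2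

namespace Frame

variable {F : Frame h}

theorem pAct {g : G} {k : B4} {m : B4 → B4} (hm : ∀ k, cj g (F.el k) = F.el (m k)) (e : cj g (F.el k) = F.el k) :
    m k = k := F.el_inj ((hm k).symm.trans e)

/-- The subgroup of index two in the centralizer of `p`. -/
structure Half (F : Frame h) (D' : Subgroup G) : Prop where
  le : D' ≤ centralizer ({F.p} : Set G)
  A_le : A ≤ D'
  normal : ∀ c ∈ centralizer ({F.p} : Set G), ∀ d ∈ D', c * d * c⁻¹ ∈ D'
  cover : ∀ c ∈ centralizer ({F.p} : Set G), c ∈ D' ∨ ∃ s ∈ normalizer (A : Set G), s * s = 1 ∧ c * s ∈ D'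
  sylow : ∀ H : Subgroup G, H ≤ D' → IsPGroup 2 H → ∃ d ∈ D', ∀ x ∈ H, d⁻¹ * x * d ∈ A

theorem exists_half (hF : F.Good) : ∃ D' : Subgroup G, Half F D' := by
  haveI : Fact (Nat.Prime 2) := ⟨Nat.prime_two⟩
  obtain ⟨W⟩ := exists_tops hF
  set C := centralizer ({F.p} : Set G) with hC
  have hmemC : ∀ g, g ∈ C ↔ cj g (F.el cp) = F.el cp := fun g => by
    rw [F.elp, hC, mem_centralizer_singleton_iff, cj, mul_inv_eq_iff_eq_mul]
  have hAC : A ≤ C := fun a ha => mem_centralizer_singleton_iff.2 (h.comm ha F.hpA)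
  have hv1C : W.v1 ∈ C := (hmemC _).2 (by rw [W.act1]; rfl)
  -- a Sylow subgroup
  set R : Subgroup G := (S : Subgroup G) ⊓ C
  have hR32 : Nat.card R = 32 := by
    have h1 : Nat.card R ∣ 2 ^ 6 := by
      have := card_dvd_of_le (inf_le_left : R ≤ (S : Subgroup G))
      rwa [h.card_S] at this
    obtain ⟨e, he, hce⟩ := (Nat.dvd_prime_pow Nat.prime_two).1 h1
    have h16 : 16 < Nat.card R := by
      rw [← h.card_A]
      refine lt_of_le_of_ne (card_le_of_le (le_inf h.AS hAC)) fun e => W.out1 ?_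
      have := eq_of_le_of_card_ge (le_inf h.AS hAC : A ≤ R) (le_of_eq e.symm)
      exact this.ge (⟨W.S1, hv1C⟩ : W.v1 ∈ R)
    have h64 : Nat.card R ≠ 64 := fun e => by
      have := eq_of_le_of_card_ge (inf_le_left : R ≤ (S : Subgroup G)) (by rw [e, h.card_S])
      have h2 : W.v2 ∈ C := (this.ge W.S2).2
      exact absurd (pAct W.act2 ((hmemC _).1 h2)) (by decide)
    rw [hce] at h16 h64 ⊢
    interval_cases e <;> omega
  have hRp : IsPGroup 2 (R.subgroupOf C) := (S.isPGroup'.to_le inf_le_left).comap_of_injective _ C.subtype_injective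
  obtain ⟨P, hP⟩ := hRp.exists_le_sylow
  have hPcard : Nat.card (P : Subgroup ↥C) ≤ 32 := by
    obtain ⟨g, hg⟩ := Cfsg.Lib.InvolCalc.exists_conj_le S (P.isPGroup'.map C.subtype)
    set Pm := (P : Subgroup ↥C).map C.subtype
    have hpm : F.p ∈ Pm := ⟨⟨F.p, hAC F.hpA⟩, hP (show (⟨F.p, hAC F.hpA⟩ : ↥C) ∈ R.subgroupOf C from
      ⟨h.AS F.hpA, hAC F.hpA⟩), rfl⟩
    have hA' := (strong hF).2 F.p F.hpA g⁻¹ (by rw [inv_inv]; exact hg _ hpm)
    obtain ⟨k, hk⟩ := F.el_surj hA'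
    rw [inv_inv] at hk
    have hle : Pm.map (MulAut.conj g⁻¹).toMonoidHom ≤ (S : Subgroup G) ⊓ centralizer ({F.el k} : Set G) := by
      rintro _ ⟨y, hy, rfl⟩
      refine ⟨show g⁻¹ * y * g⁻¹⁻¹ ∈ (S : Subgroup G) by rw [inv_inv]; exact hg y hy,
        mem_centralizer_singleton_iff.2 ?_⟩
      obtain ⟨y', -, rfl⟩ := hy
      have e := mem_centralizer_singleton_iff.1 y'.2
      show g⁻¹ * (y' : G) * g⁻¹⁻¹ * F.el k = F.el k * (g⁻¹ * (y' : G) * g⁻¹⁻¹)
      rw [hk]
      calc g⁻¹ * (y' : G) * g⁻¹⁻¹ * (g⁻¹ * F.p * g) = g⁻¹ * ((y' : G) * F.p) * g := by group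
        _ = _ := by rw [e]; group
    have hcard := card_le_of_le hle
    rw [card_map_of_injective (MulEquiv.injective _), card_map_of_injective C.subtype_injective] at hcard
    refine hcard.trans ?_
    have h1 : Nat.card ((S : Subgroup G) ⊓ centralizer ({F.el k} : Set G) : Subgroup G) ∣ 2 ^ 6 := by
      have := card_dvd_of_le (inf_le_left : (S : Subgroup G) ⊓ centralizer ({F.el k} : Set G) ≤ _)
      rwa [h.card_S] at this
    obtain ⟨e, he, hce⟩ := (Nat.dvd_prime_pow Nat.prime_two).1 h1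
    rw [hce]
    by_contra hgt
    have he6 : e = 6 := by interval_cases e <;> simp_all
    have := eq_of_le_of_card_ge (inf_le_left : (S : Subgroup G) ⊓ centralizer ({F.el k} : Set G) ≤ _)
      (by rw [hce, he6, h.card_S]; norm_num)
    have hc : IsConj F.p (F.el k) := isConj_iff.2 ⟨g⁻¹, by rw [hk, inv_inv]⟩
    rcases F.cent_z (F.el k) (F.el_mem k) (fun s hs => mul_inv_eq_iff_eq_mul.2
      (mem_centralizer_singleton_iff.1 (this.ge hs).2)) with e | e
    · rw [e] at hc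
      exact absurd (F.el_eq_one (k := cp) (by rw [F.elp]; exact isConj_one_left.1 hc)) (by decide)
    · rw [e] at hc; exact z_p hF hc.symm
  have hPR : (P : Subgroup ↥C) = R.subgroupOf C := (eq_of_le_of_card_ge hP (by
    rw [Nat.card_congr (subgroupOfEquivOfLe (inf_le_right : R ≤ C)).toEquiv, hR32]; exact hPcard)).symm
  have hrel : (A.subgroupOf C).relIndex (P : Subgroup ↥C) = 2 := by
    rw [hPR, relIndex_subgroupOf inf_le_right]
    have := (A.subgroupOf R).card_mul_index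
    rw [Nat.card_congr (subgroupOfEquivOfLe (le_inf h.AS hAC : A ≤ R)).toEquiv, h.card_A, hR32] at this
    show (A.subgroupOf R).index = 2
    omega
  have hv1o : orderOf W.v1 = 2 := Cfsg.Lib.InvolCalc.order_two_of_mul_self W.sq1 (fun e => W.out1 (e ▸ one_mem A))
  have hAP : A.subgroupOf C ≤ (P : Subgroup ↥C) := hPR.symm ▸ comap_mono (le_inf h.AS hAC)
  obtain ⟨D, hDn, hDi, hvD, hD⟩ := transfer_split P (A.subgroupOf C) hAP hrel
    (u := ⟨W.v1, hv1C⟩) (by rw [Subgroup.orderOf_mk, hv1o]) (fun g hg => by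
      have hA : (g : G)⁻¹ * W.v1 * g ∈ A := hg
      have := (strong hF).2 _ hA g (by
        rw [show (g : G) * ((g : G)⁻¹ * W.v1 * g) * (g : G)⁻¹ = W.v1 by group]; exact W.S1)
      rw [show (g : G) * ((g : G)⁻¹ * W.v1 * g) * (g : G)⁻¹ = W.v1 by group] at this
      exact W.out1 this)
  set D' := D.map C.subtype with hD'
  have hD'C : D' ≤ C := map_subtype_le _
  have hAD : A ≤ D' := fun a ha => ⟨⟨a, hAC ha⟩, hD _ (Subtype.ext (h.sq ha)) (fun g hg => by
    rw [hPR] at hg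
    have := (strong hF).2 a ha (g : G)⁻¹ (by rw [inv_inv]; exact hg.1)
    rwa [inv_inv] at this), rfl⟩
  -- `A` is a Sylow subgroup of the subgroup of index two
  have hsyl : ∀ s ∈ (S : Subgroup G), s ∈ D' → s ∈ A := by
    intro s hs hsD
    by_contra hsA
    have hsC := hD'C hsD
    rcases F.S_act hs hsA with ⟨e, -⟩ | ⟨-, hm⟩ | ⟨-, hm⟩
    · have hd : W.v1⁻¹ * s ∈ A := by
        refine h.S_ker (mul_mem (inv_mem W.S1) hs) ?_
        rw [show (⟨W.v1⁻¹ * s, h.SN (mul_mem (inv_mem W.S1) hs)⟩ : ↥(normalizer (A : Set G))) =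
          ⟨W.v1, h.SN W.S1⟩⁻¹ * ⟨s, h.SN hs⟩ from rfl, map_mul, map_inv, e, W.pi1, inv_mul_cancel]
      obtain ⟨v, hv, e'⟩ := mul_mem hsD (inv_mem (hAD hd))
      refine hvD ?_
      rwa [show (⟨W.v1, hv1C⟩ : ↥C) = v from Subtype.ext (by
        show W.v1 = (v : G)
        rw [show ((v : G)) = s * (W.v1⁻¹ * s)⁻¹ from e']; group)]
    · exact absurd (pAct hm ((hmemC s).1 hsC)) (by decide)
    · exact absurd (pAct hm ((hmemC s).1 hsC)) (by decide)
  have hTD : ∀ H : Subgroup G, H ≤ D' → IsPGroup 2 H → ∃ d ∈ D', ∀ x ∈ H, d⁻¹ * x * d ∈ A := by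
    intro H hH hp
    have hidx : ¬ 2 ∣ (A.subgroupOf D').index := by
      have e : (A.subgroupOf D').index = A.relIndex D' := rfl
      have h1 := relIndex_mul_relIndex A D' C hAD hD'C
      have h2 : A.relIndex C = 2 * P.1.index := by
        have := relIndex_mul_index hAP
        rw [hrel] at this
        show (A.subgroupOf C).index = _
        omega
      have h3 : D'.relIndex C = 2 := by
        show (D'.subgroupOf C).index = 2
        rw [hD', subgroupOf, comap_map_eq_self_of_injective C.subtype_injective, hDi]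
      rw [h3, h2] at h1
      have := P.not_dvd_index
      rw [e]
      intro hd
      exact this (by
        have : A.relIndex D' = P.1.index := by omega
        rwa [this] at hd)
    let T : Sylow 2 ↥D' := ((S.isPGroup'.to_le h.AS).of_equiv (subgroupOfEquivOfLe hAD).symm).toSylow hidx
    obtain ⟨d, hd⟩ := Cfsg.Lib.InvolCalc.exists_conj_le T (H := H.subgroupOf D')
      (hp.of_equiv (subgroupOfEquivOfLe hH).symm)
    exact ⟨d, d.2, fun x hx => hd ⟨x, hH hx⟩ hx⟩
  refine ⟨D', hD'C, hAD, ?_, fun c hc => ?_, hTD⟩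
  · rintro g hg _ ⟨d, hd, rfl⟩
    exact ⟨_, hDn.conj_mem d hd ⟨g, hg⟩, rfl⟩
  · by_cases hcD : (⟨c, hc⟩ : ↥C) ∈ D
    · exact Or.inl ⟨_, hcD, rfl⟩
    · exact Or.inr ⟨W.v1, h.SN W.S1, W.sq1, ⟨⟨c, hc⟩ * ⟨W.v1, hv1C⟩,
        (Subgroup.mul_mem_iff_of_index_two hDi).2 ⟨fun e => absurd e hcD, fun e => absurd e hvD⟩, rfl⟩⟩

theorem fixed_five (hF : F.Good) {D' : Subgroup G} (hH : Half F D') : ∃ m : ↥(normalizer (A : Set G)),
    ∀ n : ↥(normalizer (A : Set G)), (n : G) ∈ D' → cj (n : G) (cj (m : G) F.z) = cj (m : G) F.z := by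
  haveI : Fact (Nat.Prime 2) := ⟨Nat.prime_two⟩
  obtain ⟨W⟩ := exists_tops hF
  have hD'C := hH.le
  have hAD := hH.A_le
  have hTD := hH.sylow
  -- the automizer in `D'` fixes an element of the five
  set ND : Subgroup ↥(normalizer (A : Set G)) := D'.subgroupOf _ with hND
  set I := ND.map h.π with hI
  have hIodd : Odd (Nat.card I) := by
    by_contra hev
    rw [Nat.not_odd_iff_even, even_iff_two_dvd] at hev
    obtain ⟨g, hg⟩ := exists_prime_orderOf_dvd_card' (G := ↥I) 2 hev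
    obtain ⟨n, hn, e⟩ := g.2
    obtain ⟨k, hk⟩ := Cfsg.Lib.RealSize.exists_pow_odd n
    obtain ⟨m, hm⟩ : ∃ m, m = n ^ orderOf (n ^ 2 ^ k) := ⟨_, rfl⟩
    have hmD : (m : G) ∈ D' := by
      have h0 : (n : G) ^ orderOf (n ^ 2 ^ k) ∈ D' := pow_mem (mem_subgroupOf.1 hn) _
      rw [hm, Subgroup.coe_pow]; exact h0
    have hmp : IsPGroup 2 (zpowers (m : G)) := by
      intro a
      obtain ⟨i, hi⟩ := a.2
      refine ⟨k, Subtype.ext ?_⟩
      show (a : G) ^ 2 ^ k = 1
      rw [← hi, ← zpow_natCast, ← zpow_mul, mul_comm, zpow_mul, zpow_natCast]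
      rw [show (m : G) ^ 2 ^ k = 1 by
        rw [← Subgroup.coe_pow, hm, ← pow_mul, mul_comm, pow_mul, pow_orderOf_eq_one]; rfl, one_zpow]
    have hP : IsPGroup 2 (A ⊔ zpowers (m : G) : Subgroup G) := by
      rw [sup_comm]
      exact hmp.to_sup_of_normal_right' (S.isPGroup'.to_le h.AS) (zpowers_le.2 m.2)
    obtain ⟨d, hd, hdA⟩ := hTD _ (sup_le hAD (zpowers_le.2 hmD)) hP
    have hle : (A ⊔ zpowers (m : G) : Subgroup G) ≤ A := by
      have h1 : (A ⊔ zpowers (m : G) : Subgroup G).map (MulAut.conj d⁻¹).toMonoidHom ≤ A := by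
        rintro _ ⟨x, hx, rfl⟩
        simpa using hdA x hx
      have h2 := card_le_of_le h1
      rw [card_map_of_injective (MulEquiv.injective _)] at h2
      exact (eq_of_le_of_card_ge (le_sup_left : A ≤ A ⊔ zpowers (m : G)) h2).ge
    have h1 : h.π m = 1 := h.π_A m (hle (mem_sup_right (mem_zpowers _)))
    rw [hm, map_pow, e] at h1
    have h2 := orderOf_dvd_of_pow_eq_one h1
    rw [Subgroup.orderOf_coe, hg] at h2
    exact (Nat.not_even_iff_odd.2 hk) (even_iff_two_dvd.2 h2)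
  have hIst : I ≤ stab h F.p := by
    rintro _ ⟨n, hn, rfl⟩
    exact (mem_stab F.hpA).2 (mul_inv_eq_iff_eq_mul.2 (mem_centralizer_singleton_iff.1 (hD'C hn)))
  have hst : Nat.card (stab h F.p) ≤ 6 := by
    have hn : ∀ k : {k : B4 // ten k = true}, ∃ n : ↥(normalizer (A : Set G)), cj (n : G) F.p = F.el k.1 := by
      intro k
      obtain ⟨n, hn, e⟩ := hF.ten_trans k.2
      rw [F.elp] at e
      exact ⟨⟨n, hn⟩, e⟩
    choose n hn using hn
    have hinj : Function.Injective fun k => (QuotientGroup.mk (h.π (n k)) : A5 ⧸ stab h F.p) := by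
      intro a b e
      have e' := QuotientGroup.eq.1 e
      rw [← map_inv, ← map_mul, mem_stab F.hpA, Subgroup.coe_mul, ← cj_cj, hn, Subgroup.coe_inv] at e'
      have := congrArg (cj (n a : G)) e'
      rw [cj_cj, mul_inv_cancel, hn] at this
      exact Subtype.ext (F.el_inj (by simpa [cj] using this.symm))
    have h10 := Nat.card_le_card_of_injective _ hinj
    rw [Nat.card_eq_fintype_card, show Fintype.card {k : B4 // ten k = true} = 10 by decide +kernel,
      ← Subgroup.index_eq_card] at h10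
    have := (stab h F.p).card_mul_index
    rw [card_A5] at this
    nlinarith
  have hI3 : ∀ g ∈ I, g ^ 3 = 1 := by
    intro g hg
    have h1 : orderOf (⟨W.v1, h.SN W.S1⟩ : ↥(normalizer (A : Set G))) ∣ 2 :=
      orderOf_dvd_of_pow_eq_one (Subtype.ext (by rw [pow_two]; exact W.sq1))
    have ha1 : a1 ∈ stab h F.p := by
      rw [← W.pi1]
      exact (mem_stab F.hpA).2 (by rw [← F.elp, W.act1]; rfl)
    have h2 : 2 ∣ Nat.card (stab h F.p) := by
      have := orderOf_dvd_natCard (⟨a1, ha1⟩ : stab h F.p)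
      rwa [Subgroup.orderOf_mk, show orderOf a1 = 2 from orderOf_eq_prime (by rw [pow_two]; exact a1_sq) a_ne.1] at this
    have h3 : Nat.card I ∣ Nat.card (stab h F.p) := card_dvd_of_le hIst
    have h4 : Nat.card I ∣ 3 := by
      obtain ⟨j, hj⟩ := hIodd
      have h5 : 2 * Nat.card I ∣ Nat.card (stab h F.p) :=
        Nat.Coprime.mul_dvd_of_dvd_of_dvd (Nat.coprime_two_left.2 ⟨j, hj⟩) h2 h3
      have h6 := Nat.le_of_dvd Nat.card_pos h5
      have h7 : Nat.card I = 1 ∨ Nat.card I = 3 := by omega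
      rcases h7 with e | e <;> rw [e] <;> norm_num
    have := (orderOf_dvd_natCard (⟨g, hg⟩ : I)).trans h4
    rw [Subgroup.orderOf_mk] at this
    exact orderOf_dvd_iff_pow_eq_one.1 this
  by_cases htriv : I = ⊥
  · refine ⟨1, fun n hn => h.π_ker n ?_ _ (h.cj_mem (one_mem _) F.hzA)⟩
    exact mem_bot.1 (htriv ▸ (⟨n, hn, rfl⟩ : h.π n ∈ I))
  obtain ⟨g, hg, hg1⟩ := (I.bot_or_exists_ne_one).resolve_left htriv
  obtain ⟨c, i, rfl⟩ := three_conj (hI3 g hg)
  obtain ⟨m, hm⟩ := h.π_surj c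
  refine ⟨m, fun n hn => ?_⟩
  have hI3c : Nat.card I ≤ 3 := by
    obtain ⟨j, hj⟩ := hIodd
    have := Nat.le_of_dvd Nat.card_pos (card_dvd_of_le hIst)
    have h2 : Nat.card I ≠ 5 := fun e => by
      haveI : Fact (Nat.Prime 5) := ⟨by norm_num⟩
      obtain ⟨g5, hg5⟩ := exists_prime_orderOf_dvd_card' (G := ↥I) 5 (by rw [e])
      have := orderOf_dvd_of_pow_eq_one (hI3 g5 g5.2)
      rw [Subgroup.orderOf_coe, hg5] at this
      norm_num at this
    omega
  haveI : Fact (Nat.Prime 3) := ⟨Nat.prime_three⟩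
  have hzp : zpowers (c * t0 ^ i * c⁻¹) = I := eq_of_le_of_card_ge (zpowers_le.2 hg) (by
    rw [Nat.card_zpowers, orderOf_eq_prime (hI3 _ hg) hg1]; exact hI3c)
  obtain ⟨j, hj⟩ : h.π n ∈ zpowers (c * t0 ^ i * c⁻¹) := by rw [hzp]; exact ⟨n, hn, rfl⟩
  have e : h.π n = h.π (m * F.t ^ ((i : ℤ) * j) * m⁻¹) := by
    rw [← hj, map_mul, map_mul, map_inv, map_zpow, hm, F.πt]
    show (c * t0 ^ i * c⁻¹) ^ j = _
    rw [conj_zpow, zpow_mul, zpow_natCast]
  have hst : ∀ j : ℤ, cj ((F.t : G) ^ j) F.z = F.z := fun j =>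
    mul_inv_eq_iff_eq_mul.2 (mem_centralizer_singleton_iff.1
      (zpow_mem (mem_centralizer_singleton_iff.2 (mul_inv_eq_iff_eq_mul.1 F.tz)) j))
  rw [h.act_eq e (h.cj_mem m.2 F.hzA), Subgroup.coe_mul, Subgroup.coe_mul, Subgroup.coe_inv,
    SubgroupClass.coe_zpow, cj_cj, inv_mul_cancel_right, ← cj_cj, hst]

theorem isolated (hF : F.Good) {D' : Subgroup G} (hH : Half F D') {y : G} (hyA : y ∈ A) (hy2 : orderOf y = 2)
    (hfix : ∀ n : ↥(normalizer (A : Set G)), (n : G) ∈ D' → cj (n : G) y = y) :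
    ∀ g ∈ D', Commute y (g * y * g⁻¹) → g * y * g⁻¹ = y := by
  haveI : Fact (Nat.Prime 2) := ⟨Nat.prime_two⟩
  have hD'C := hH.le
  have hAD := hH.A_le
  have hTD := hH.sylow
  intro g hg hc
  have hu : g * y * g⁻¹ ∈ D' := mul_mem (mul_mem hg (hAD hyA)) (inv_mem hg)
  have hu2 : orderOf (g * y * g⁻¹) = 2 := (orderOf_cj g y).trans hy2
  obtain ⟨d, hd, hdA⟩ := hTD (zpowers y ⊔ zpowers (g * y * g⁻¹))
    (sup_le (zpowers_le.2 (hAD hyA)) (zpowers_le.2 hu)) (Cfsg.Lib.InvolCalc.isPGroup_pair hy2 hu2 hc)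
  have key : ∀ e ∈ D', cj e y ∈ A → cj e y = y := by
    intro e he hin
    have hcent : ∀ a ∈ A, a ∈ centralizer (A : Set G) := fun a ha =>
      mem_centralizer_iff.2 fun b hb => h.comm hb ha
    have hidx : ¬ 2 ∣ (A.subgroupOf D').index := fun hh => by
      obtain ⟨g', hg'⟩ : ∃ T : Sylow 2 ↥D', A.subgroupOf D' ≤ (T : Subgroup ↥D') :=
        ((S.isPGroup'.to_le h.AS).of_equiv (subgroupOfEquivOfLe hAD).symm).exists_le_sylow
      obtain ⟨d, hd, hdA⟩ := hTD ((g' : Subgroup ↥D').map D'.subtype) (map_subtype_le _) (g'.isPGroup'.map _)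
      have h2 : Nat.card ((g' : Subgroup ↥D').map D'.subtype) ≤ Nat.card A := by
        have h1 : ((g' : Subgroup ↥D').map D'.subtype).map (MulAut.conj d⁻¹).toMonoidHom ≤ A := by
          rintro _ ⟨x, hx, rfl⟩
          simpa using hdA x hx
        have := card_le_of_le h1
        rwa [card_map_of_injective (MulEquiv.injective _)] at this
      rw [card_map_of_injective D'.subtype_injective,
        ← Nat.card_congr (subgroupOfEquivOfLe hAD).toEquiv] at h2
      rw [eq_of_le_of_card_ge hg' h2] at hh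
      exact g'.not_dvd_index hh
    let T : Sylow 2 ↥D' := ((S.isPGroup'.to_le h.AS).of_equiv (subgroupOfEquivOfLe hAD).symm).toSylow hidx
    have hW : Cfsg.IsWeaklyClosed (A.subgroupOf D') (T : Subgroup ↥D') :=
      ⟨le_rfl, fun k hk => eq_of_le_of_card_ge hk (le_of_eq (card_map_of_injective (MulEquiv.injective _)).symm)⟩
    have hcent' : ∀ a : ↥D', (a : G) ∈ A → a ∈ centralizer (A.subgroupOf D' : Set ↥D') := fun a ha =>
      mem_centralizer_iff.2 fun b hb => Subtype.ext (h.comm hb ha)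
    obtain ⟨n, hn, en⟩ := Cfsg.Lib.InvolCalc.weaklyClosed_control T hW (d := ⟨y, hAD hyA⟩) (g := ⟨e, he⟩)
      (hcent' _ hyA) (hcent' _ hin)
    have hnN : (n : G) ∈ normalizer (A : Set G) := by
      refine mem_normalizer_iff_map_conj_eq.2 (eq_of_le_of_card_ge ?_
        (le_of_eq (card_map_of_injective (MulEquiv.injective _)).symm))
      rintro _ ⟨a, ha, rfl⟩
      exact (mem_normalizer_iff.1 hn ⟨a, hAD ha⟩).1 ha
    rw [show cj e y = cj (n : G) y from (congrArg Subtype.val en).symm]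
    exact hfix ⟨n, hnN⟩ n.2
  have e1 := key d⁻¹ (inv_mem hd) (by
    simp only [cj, inv_inv]; exact hdA y (mem_sup_left (mem_zpowers y)))
  have e2 := key (d⁻¹ * g) (mul_mem (inv_mem hd) hg) (by
    rw [show cj (d⁻¹ * g) y = d⁻¹ * (g * y * g⁻¹) * d by simp only [cj]; group]
    exact hdA _ (mem_sup_right (mem_zpowers _)))
  calc g * y * g⁻¹ = cj d (cj (d⁻¹ * g) y) := by rw [cj_cj, mul_inv_cancel_left]; rfl
    _ = cj d (cj d⁻¹ y) := by rw [e1, e2]
    _ = y := by rw [cj_cj, mul_inv_cancel]; simp [cj]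

theorem ctl_p (hF : F.Good) : Ctl A (centralizer ({F.p} : Set G)) := by
  haveI : Fact (Nat.Prime 2) := ⟨Nat.prime_two⟩
  obtain ⟨D', hH⟩ := exists_half hF
  obtain ⟨m, hfix⟩ := fixed_five hF hH
  set C := centralizer ({F.p} : Set G) with hC
  have hD'C : D' ≤ C := hH.le
  have hAD := hH.A_le
  set y := cj (m : G) F.z with hy
  have hyA : y ∈ A := h.cj_mem m.2 F.hzA
  have hy2 : orderOf y = 2 := (orderOf_cj _ _).trans (Cfsg.Lib.InvolCalc.order_two_of_mul_self (h.sq F.hzA) F.z_ne)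
  have hiso := isolated hF hH hyA hy2 hfix
  -- decomposition
  have hctly : Ctl A (centralizer ({y} : Set G)) := ctl_transport m.2 fun c hc => centre hF hc
  set K := core D'
  have hDC := hH.normal
  have hKC : K ≤ core C := by
    refine le_core ((core_le D').trans hD'C) (fun g hg u hu => ?_) (odd_core _)
    have hg' : g ∈ normalizer (D' : Set G) := mem_normalizer_iff.2 fun d => ⟨hDC g hg d, fun hd => by
      have := hDC _ (inv_mem hg) _ hd
      simpa [mul_assoc] using this⟩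
    -- the image of the core under conjugation is again normal of odd order
    have hle : K.map (MulAut.conj g).toMonoidHom ≤ K := le_core
      (by rintro _ ⟨u, hu, rfl⟩; exact hDC g hg u (core_le D' hu))
      (by
        rintro d hd _ ⟨u, hu, rfl⟩
        refine ⟨g⁻¹ * d * g * u * (g⁻¹ * d * g)⁻¹, (mem_normalizer_iff.1 (core_normalized (?_ : g⁻¹ * d * g ∈ D')) u).1 hu, ?_⟩
        · have := hDC _ (inv_mem hg) d hd; rwa [inv_inv] at this
        · show g * (g⁻¹ * d * g * u * (g⁻¹ * d * g)⁻¹) * g⁻¹ = d * (g * u * g⁻¹) * d⁻¹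
          group)
      (by rw [card_map_of_injective (MulEquiv.injective _)]; exact odd_core _)
    exact hle ⟨u, hu, rfl⟩
  set H : Subgroup G := D' ⊓ centralizer ({y} : Set G)
  set U : Subgroup G := core (centralizer ({y} : Set G)) ⊓ D'
  have hHU : ∀ e ∈ H, ∀ u ∈ U, e * u * e⁻¹ ∈ U := fun e he u hu =>
    ⟨(mem_normalizer_iff.1 (core_normalized he.2) u).1 hu.1, D'.mul_mem (D'.mul_mem he.1 hu.2) (D'.inv_mem he.1)⟩
  have hUodd : Odd (Nat.card U) := Odd.of_dvd_nat (odd_core _) (card_dvd_of_le inf_le_left)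
  have hdec : ∀ g ∈ D', ∃ k ∈ K, k⁻¹ * g ∈ H := by
    intro g hg
    obtain ⟨k, hk, hkg⟩ := isolated_of_commuting (hAD hyA) hy2 hiso hg
    exact ⟨k, hk, ⟨D'.mul_mem (D'.inv_mem (core_le _ hk)) hg, hkg⟩⟩
  have hUK : U ≤ K := by
    have hnorm : U ≤ normalizer (K : Set G) := fun u hu => core_normalized hu.2
    refine le_sup_right.trans (le_core (sup_le (core_le D') inf_le_right) ?_ (odd_sup (odd_core D') hUodd hnorm))
    intro g hg x hx
    obtain ⟨k, hk, hkg⟩ := hdec g hg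
    have hx' : x ∈ ((K ⊔ U : Subgroup G) : Set G) := hx
    rw [coe_mul_of_right_le_normalizer_left _ _ hnorm] at hx'
    obtain ⟨k', hk', u, hu, rfl⟩ := hx'
    show g * (k' * u) * g⁻¹ ∈ K ⊔ U
    have e : g * (k' * u) * g⁻¹ =
        (g * k' * g⁻¹) * (k * ((k⁻¹ * g) * u * (k⁻¹ * g)⁻¹) * k⁻¹) := by group
    rw [e]
    exact mul_mem (mem_sup_left ((mem_normalizer_iff.1 (core_normalized hg) k').1 hk'))
      (mul_mem (mul_mem (mem_sup_left hk) (mem_sup_right (hHU _ hkg u hu))) (inv_mem (mem_sup_left hk)))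
  have hHN : ∀ e ∈ H, ∃ u ∈ U, u⁻¹ * e ∈ normalizer (A : Set G) := by
    intro e he
    refine decomp_of_normal_mod (C := H) (A := A) (K := U) (le_inf inf_le_right fun u hu => core_le _ hu.1)
      (le_inf hAD fun a ha => mem_centralizer_singleton_iff.2 (h.comm ha hyA)) hUodd (S.isPGroup'.to_le h.AS)
      (fun e he => mem_normalizer_iff.2 fun u => ⟨hHU e he u, fun hu => by
        have := hHU _ (inv_mem he) _ hu; simpa [mul_assoc] using this⟩) ?_ he
    intro e he a ha
    obtain ⟨k, hk, hkn⟩ := hctly e he.2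
    set a' := cj (k⁻¹ * e) a with ha'
    have ha'A : a' ∈ A := h.cj_mem hkn ha
    have e1 : e * a * e⁻¹ = a' * ((a'⁻¹ * k * a') * k⁻¹) := by simp only [ha', cj]; group
    rw [e1]
    refine mul_mem (mem_sup_left ha'A) (mem_sup_right ⟨(core (centralizer ({y} : Set G))).mul_mem ?_ ((core (centralizer ({y} : Set G))).inv_mem hk), ?_⟩)
    · have := (mem_normalizer_iff.1 (core_normalized (H := centralizer ({y} : Set G))
        (mem_centralizer_singleton_iff.2 (h.comm (inv_mem ha'A) hyA))) k).1 hk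
      rwa [inv_inv] at this
    · have : e * a * e⁻¹ ∈ D' := mul_mem (mul_mem he.1 (hAD ha)) (inv_mem he.1)
      rw [e1] at this
      have := mul_mem (inv_mem (hAD ha'A)) this
      rwa [inv_mul_cancel_left] at this
  have hDN : ∀ g ∈ D', ∃ k ∈ core C, k⁻¹ * g ∈ normalizer (A : Set G) := by
    intro g hg
    obtain ⟨k, hk, hkg⟩ := hdec g hg
    obtain ⟨u, hu, hue⟩ := hHN _ hkg
    refine ⟨k * u, hKC (mul_mem hk (hUK hu)), ?_⟩
    rwa [mul_inv_rev, mul_assoc]
  intro c hc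
  rcases hH.cover c hc with hcD | ⟨s, hs, hs2, hcs⟩
  · exact hDN c hcD
  · obtain ⟨k, hk, hkn⟩ := hDN (c * s) hcs
    refine ⟨k, hk, ?_⟩
    have := mul_mem hkn hs
    rwa [show k⁻¹ * (c * s) * s = k⁻¹ * c * (s * s) by group, hs2, mul_one] at this


/-- Control in the centralizer of every involution of `A`. -/
theorem ctl (hF : F.Good) {a : G} (ha : a ∈ A) (h1 : a ≠ 1) : Ctl A (centralizer ({a} : Set G)) := by
  obtain ⟨k, rfl⟩ := F.el_surj ha
  have hk : k ≠ c0 := by rintro rfl; exact h1 F.el0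
  cases hf : five k
  · obtain ⟨n, hn, e⟩ := hF.ten_trans (k := k) (by simp [ten, hf, hk])
    rw [← e, F.elp]
    exact ctl_transport hn (ctl_p hF)
  · obtain ⟨n, hn, e⟩ := (hF.five_iff k).1 hf
    rw [← e, F.elz]
    exact ctl_transport hn fun c hc => centre hF hc

end Frame

end Cfsg.Lib.AltEightType
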